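import Mathlib
import Cfsg.Agent.J2.HundredGens
import Cfsg.Agent.Lib.FinFast
import Cfsg.Agent.FastGrp
import Cfsg.Agent.Prune
set_option linter.all false
prune_inst 0x7fffefffbffffddfffff7e7faf9edffdffffbffff6dff9cbffe0ebfffbff7b9aefe5fbaf8febf9fe5ef7e23cd0fe7b53ffffffffeb6bf87ffffd1ff45ffbffdfffffbd0971f49c3e8ffc6ffef3f0778e7f3fffffffffffffffffffffffffffbeffffffffffff
open scoped Cfsg.Agent.FastGrp

-- part: H4/JT/Lin
section
/-!
# Linear algebra for small representations in characteristic two

* `scott` : Scott's lemma for two endomorphisms;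
* `split3` : eigenspaces of an element of order 3, `even3` : when it is inverted;
* `three_dvd` : the determinant argument;
* `sq_fix` : squares of elements of order 4 on spaces of dimension at most 2;
* `fix_bound` : fixed spaces of three subgroups of order 5 of a group of order 25.
-/

set_option autoImplicit false

namespace Cfsg.Agent.H4.JT

open Module

variable {k : Type*} [Field k] {U : Type*} [AddCommGroup U] [Module k U] [FiniteDimensional k U]

/-- fixed vectors -/
def fx (a : Module.End k U) : Submodule k U := LinearMap.ker (a - 1)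

omit [FiniteDimensional k U] in
theorem mem_fx {a : Module.End k U} {u : U} : u ∈ fx a ↔ a u = u := by
  rw [fx, LinearMap.mem_ker, LinearMap.sub_apply, Module.End.one_apply, sub_eq_zero]

theorem finrank_range_add (a : Module.End k U) :
    finrank k (LinearMap.range (a - 1)) + finrank k (fx a) = finrank k U :=
  LinearMap.finrank_range_add_finrank_ker (a - 1)

/-- **Scott's lemma** -/
theorem scott (a b : Module.End k U)
    (h : finrank k (LinearMap.range (a - 1)) + finrank k (LinearMap.range (b - 1)) +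
      finrank k (LinearMap.range (a * b - 1)) < 2 * finrank k U) :
    (∃ u : U, u ≠ 0 ∧ a u = u ∧ b u = u) ∨ LinearMap.range (a - 1) ⊔ LinearMap.range (b - 1) ≠ ⊤ := by
  by_contra hcon
  push Not at hcon
  obtain ⟨h1, h2⟩ := hcon
  let σ : (LinearMap.range (a - 1) × LinearMap.range (b - 1)) →ₗ[k] U :=
    (LinearMap.range (a - 1)).subtype.coprod (LinearMap.range (b - 1)).subtype
  have hσ : LinearMap.range σ = ⊤ := by
    rw [LinearMap.range_coprod, Submodule.range_subtype, Submodule.range_subtype, h2]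
  have hk : finrank k (LinearMap.ker σ) + finrank k U =
      finrank k (LinearMap.range (a - 1)) + finrank k (LinearMap.range (b - 1)) := by
    have := LinearMap.finrank_range_add_finrank_ker σ
    rw [hσ, finrank_top, Module.finrank_prod] at this
    omega
  let β : U →ₗ[k] (LinearMap.range (a - 1) × LinearMap.range (b - 1)) :=
    ((a - 1).rangeRestrict.comp b).prod (b - 1).rangeRestrict
  have hβ : ∀ u, β u = 0 → u = 0 := by
    intro u hu
    by_contra hu0
    have e1 : ((a - 1).rangeRestrict (b u)) = 0 := congrArg Prod.fst hu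
    have e2 : ((b - 1).rangeRestrict u) = 0 := congrArg Prod.snd hu
    have e3 : (a - 1) (b u) = 0 := congrArg Subtype.val e1
    have e4 : (b - 1) u = 0 := congrArg Subtype.val e2
    rw [LinearMap.sub_apply, Module.End.one_apply, sub_eq_zero] at e3 e4
    rw [e4] at e3
    exact h1 u hu0 e3 e4
  have hσβ : ∀ u, σ (β u) = (a * b - 1) u := by
    intro u
    change (a - 1) (b u) + (b - 1) u = (a * b - 1) u
    rw [LinearMap.sub_apply, LinearMap.sub_apply, LinearMap.sub_apply, Module.End.mul_apply, Module.End.one_apply,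
      Module.End.one_apply]
    abel
  have h3 : finrank k (fx (a * b)) ≤ finrank k (LinearMap.ker σ) := by
    let γ : fx (a * b) →ₗ[k] LinearMap.ker σ := (β.comp (fx (a * b)).subtype).codRestrict _ (fun u => by
      rw [LinearMap.mem_ker]
      change σ (β u) = 0
      rw [hσβ]
      exact u.2)
    apply LinearMap.finrank_le_finrank_of_injective (f := γ)
    rw [← LinearMap.ker_eq_bot, LinearMap.ker_eq_bot']
    intro u hu
    apply Subtype.ext
    apply hβ
    exact congrArg Subtype.val hu
  have h4 := finrank_range_add (a * b)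
  omega

section char2

variable [CharP k 2]

theorem add_self (k : Type*) [Field k] [CharP k 2] {U : Type*} [AddCommGroup U] [Module k U] (u : U) :
    u + u = 0 := by
  have h2 : (2 : k) = 0 := CharP.cast_eq_zero k 2
  rw [← two_smul k u, h2, zero_smul]

omit [FiniteDimensional k U] [CharP k 2] in
/-- the rank of an involution -/
theorem rank_inv_aux [FiniteDimensional k U] {a : Module.End k U} (h : (a - 1) * (a - 1) = 0) :
    2 * finrank k (LinearMap.range (a - 1)) ≤ finrank k U := by
  have h1 : LinearMap.range (a - 1) ≤ fx a := by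
    rintro _ ⟨u, rfl⟩
    rw [fx, LinearMap.mem_ker]
    exact DFunLike.congr_fun h u
  have h2 := Submodule.finrank_mono h1
  have h3 := finrank_range_add a
  omega

theorem rank_inv {a : Module.End k U} (h : a * a = 1) : 2 * finrank k (LinearMap.range (a - 1)) ≤ finrank k U := by
  apply rank_inv_aux
  have : (a - 1) * (a - 1) = a * a - (a + a) + 1 := by noncomm_ring
  rw [this, h]
  apply LinearMap.ext
  intro u
  simp only [LinearMap.add_apply, LinearMap.sub_apply, Module.End.one_apply, LinearMap.zero_apply]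
  rw [add_self k (a u), sub_zero, add_self k]

variable {w : k}

/-- the projections for an element of order three -/
theorem split3 (hw : w ^ 2 + w + 1 = 0) {x : Module.End k U} (hx : x * (x * x) = 1) :
    finrank k U = finrank k (fx x) + (finrank k (LinearMap.ker (x - w • (1 : Module.End k U))) +
      finrank k (LinearMap.ker (x - w ^ 2 • (1 : Module.End k U)))) := by
  have h2 : (2 : k) = 0 := CharP.cast_eq_zero k 2
  have hx3 : ∀ u, x (x (x u)) = u := fun u => DFunLike.congr_fun hx u
  have hA : ∀ u, u ∈ LinearMap.ker (x - w • (1 : Module.End k U)) ↔ x u = w • u := by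
    intro u
    rw [LinearMap.mem_ker, LinearMap.sub_apply, LinearMap.smul_apply, Module.End.one_apply, sub_eq_zero]
  have hB : ∀ u, u ∈ LinearMap.ker (x - w ^ 2 • (1 : Module.End k U)) ↔ x u = w ^ 2 • u := by
    intro u
    rw [LinearMap.mem_ker, LinearMap.sub_apply, LinearMap.smul_apply, Module.End.one_apply, sub_eq_zero]
  let f : (fx x × (LinearMap.ker (x - w • (1 : Module.End k U)) × LinearMap.ker (x - w ^ 2 • (1 : Module.End k U))))
      →ₗ[k] U := (fx x).subtype.coprod ((LinearMap.ker (x - w • (1 : Module.End k U))).subtype.coprod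
        (LinearMap.ker (x - w ^ 2 • (1 : Module.End k U))).subtype)
  have hf : Function.Bijective f := by
    constructor
    · rw [← LinearMap.ker_eq_bot, LinearMap.ker_eq_bot']
      rintro ⟨⟨p, hp⟩, ⟨q, hq⟩, ⟨r, hr⟩⟩ h0
      have h1 : p + (q + r) = 0 := h0
      rw [mem_fx] at hp
      rw [hA] at hq
      rw [hB] at hr
      have h3 : p + (w • q + w ^ 2 • r) = 0 := by
        have := congrArg x h1
        rwa [map_add, map_add, hp, hq, hr, map_zero] at this
      have h4 : p + (w ^ 2 • q + w ^ 4 • r) = 0 := by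
        have := congrArg x h3
        rw [map_add, map_add, map_smul, map_smul, hp, hq, hr, map_zero, smul_smul, smul_smul] at this
        rw [← this]; congr 2
        · congr 1; ring
        · congr 1; ring
      -- sum of the three equations
      have hw4 : w ^ 4 = w := by linear_combination (w ^ 2 - w) * hw
      have hp0 : p = 0 := by
        have e1 : p + (q + r) + (p + (w • q + w ^ 2 • r)) + (p + (w ^ 2 • q + w ^ 4 • r)) = 0 := by
          rw [h1, h3, h4]; simp
        have e2 : p + (q + r) + (p + (w • q + w ^ 2 • r)) + (p + (w ^ 2 • q + w ^ 4 • r)) =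
            (3 : k) • p + (w ^ 2 + w + 1) • q + (w ^ 2 + w + 1) • r := by
          rw [hw4]
          module
        rw [e2, hw, zero_smul, zero_smul, add_zero, add_zero] at e1
        have h33 : (3 : k) = 1 := by linear_combination h2
        rwa [h33, one_smul] at e1
      have hq0 : q = 0 := by
        have e1 : w ^ 2 • (p + (q + r)) + (p + (w • q + w ^ 2 • r)) = 0 := by rw [h1, h3]; simp
        have e2 : w ^ 2 • (p + (q + r)) + (p + (w • q + w ^ 2 • r)) =
            (w ^ 2 + 1) • p + (w ^ 2 + w) • q + (2 * w ^ 2) • r := by module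
        rw [e2, hp0, smul_zero, zero_add, h2, zero_mul, zero_smul, add_zero] at e1
        have h5 : w ^ 2 + w = 1 := by linear_combination hw - h2
        rwa [h5, one_smul] at e1
      have hr0 : r = 0 := by rw [hp0, hq0] at h1; simpa using h1
      subst hp0 hq0 hr0
      rfl
    · intro u
      have e1 : u + x u + x (x u) ∈ fx x := by
        rw [mem_fx, map_add, map_add, hx3]; abel
      have e2 : u + w ^ 2 • x u + w • x (x u) ∈ LinearMap.ker (x - w • (1 : Module.End k U)) := by
        rw [hA, map_add, map_add, map_smul, map_smul, hx3]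
        have : w ^ 3 = 1 := by linear_combination (w - 1) * hw
        rw [smul_add, smul_add, smul_smul, smul_smul, show w * w ^ 2 = 1 by rw [← this]; ring, one_smul,
          show w * w = w ^ 2 by ring]
        abel
      have e3 : u + w • x u + w ^ 2 • x (x u) ∈ LinearMap.ker (x - w ^ 2 • (1 : Module.End k U)) := by
        rw [hB, map_add, map_add, map_smul, map_smul, hx3]
        have : w ^ 3 = 1 := by linear_combination (w - 1) * hw
        rw [smul_add, smul_add, smul_smul, smul_smul, show w ^ 2 * w = 1 by rw [← this]; ring, one_smul,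
          show w ^ 2 * w ^ 2 = w by linear_combination (w ^ 2 - w) * hw]
        abel
      refine ⟨⟨⟨_, e1⟩, ⟨_, e2⟩, ⟨_, e3⟩⟩, ?_⟩
      change u + x u + x (x u) + (u + w ^ 2 • x u + w • x (x u) + (u + w • x u + w ^ 2 • x (x u))) = u
      have e4 : u + x u + x (x u) + (u + w ^ 2 • x u + w • x (x u) + (u + w • x u + w ^ 2 • x (x u))) =
          (3 : k) • u + (w ^ 2 + w + 1) • x u + (w ^ 2 + w + 1) • x (x u) := by module
      rw [e4, hw, zero_smul, zero_smul, add_zero, add_zero, show (3 : k) = 1 by linear_combination h2, one_smul]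
  rw [← (LinearEquiv.ofBijective f hf).finrank_eq, Module.finrank_prod, Module.finrank_prod]

/-- the eigenspaces of an inverted element of order three -/
theorem even3 (hw : w ^ 2 + w + 1 = 0) {x r : Module.End k U} (hx : x * (x * x) = 1) (hr : Function.Injective r)
    (hrx : r * x = x * x * r) :
    finrank k U = finrank k (fx x) + 2 * finrank k (LinearMap.ker (x - w • (1 : Module.End k U))) := by
  have h1 := split3 hw hx
  have hw3 : w ^ 3 = 1 := by linear_combination (w - 1) * hw
  have hx3 : ∀ u, x (x (x u)) = u := fun u => DFunLike.congr_fun hx u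
  have hrx' : ∀ u, r (x u) = x (x (r u)) := fun u => DFunLike.congr_fun hrx u
  have hA : ∀ (c : k) (u : U), u ∈ LinearMap.ker (x - c • (1 : Module.End k U)) ↔ x u = c • u := by
    intro c u
    rw [LinearMap.mem_ker, LinearMap.sub_apply, LinearMap.smul_apply, Module.End.one_apply, sub_eq_zero]
  have key : ∀ c d : k, c * d = 1 → finrank k (LinearMap.ker (x - c • (1 : Module.End k U))) ≤
      finrank k (LinearMap.ker (x - d • (1 : Module.End k U))) := by
    intro c d hcd
    let γ : LinearMap.ker (x - c • (1 : Module.End k U)) →ₗ[k] LinearMap.ker (x - d • (1 : Module.End k U)) :=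
      (r.comp (LinearMap.ker (x - c • (1 : Module.End k U))).subtype).codRestrict _ (fun u => by
        have hu := (hA c u).1 u.2
        rw [hA]
        change x (r u) = d • r u
        have e1 : x (x (r u)) = c • r u := by rw [← hrx', hu, map_smul]
        have e2 : r u = c • x (r u) := by rw [← map_smul, ← e1, hx3]
        rw [show x (r (u : U)) = (1 : k) • x (r u) by rw [one_smul], ← hcd, mul_comm, ← smul_smul, ← e2])
    apply LinearMap.finrank_le_finrank_of_injective (f := γ)
    rw [← LinearMap.ker_eq_bot, LinearMap.ker_eq_bot']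
    intro u hu
    apply Subtype.ext
    apply hr
    rw [Submodule.coe_zero, map_zero]
    exact congrArg Subtype.val hu
  have h2 := key w (w ^ 2) (by rw [← hw3]; ring)
  have h3 := key (w ^ 2) w (by rw [← hw3]; ring)
  omega

/-- the determinant argument -/
theorem three_dvd (hw : w ^ 2 + w + 1 = 0) {x : Module.End k U} (l : List (Module.End k U))
    (hl : ∀ a ∈ l, a * a = 1 ∧ a * x = x * a) (hx : x = l.prod) :
    3 ∣ finrank k (LinearMap.ker (x - w • (1 : Module.End k U))) := by
  set A := LinearMap.ker (x - w • (1 : Module.End k U)) with hAdef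
  have hA : ∀ u, u ∈ A ↔ x u = w • u := by
    intro u
    rw [hAdef, LinearMap.mem_ker, LinearMap.sub_apply, LinearMap.smul_apply, Module.End.one_apply, sub_eq_zero]
  have hinv : ∀ a : Module.End k U, a * x = x * a → ∀ u ∈ A, a u ∈ A := by
    intro a ha u hu
    rw [hA] at hu ⊢
    have : x (a u) = a (x u) := (DFunLike.congr_fun ha u).symm
    rw [this, hu, map_smul]
  have hw3 : w ^ 3 = 1 := by linear_combination (w - 1) * hw
  have hdet : ∀ l : List (Module.End k U), (∀ a ∈ l, a * a = 1 ∧ a * x = x * a) →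
      ∃ (h : ∀ u ∈ A, l.prod u ∈ A), LinearMap.det (l.prod.restrict h) = 1 := by
    intro l
    induction l with
    | nil =>
      intro _
      refine ⟨fun u hu => hu, ?_⟩
      have : (LinearMap.restrict ([] : List (Module.End k U)).prod (p := A) (q := A) fun u hu => hu) = LinearMap.id := by
        apply LinearMap.ext
        intro u
        rfl
      rw [this, LinearMap.det_id]
    | cons a l ih =>
      intro hl
      obtain ⟨h1, h2⟩ := ih (fun b hb => hl b (List.mem_cons_of_mem _ hb))
      obtain ⟨ha1, ha2⟩ := hl a List.mem_cons_self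
      have ha := hinv a ha2
      refine ⟨fun u hu => by
        rw [List.prod_cons, Module.End.mul_apply]
        exact ha _ (h1 u hu), ?_⟩
      have h3 : LinearMap.restrict (List.prod (a :: l)) (p := A) (q := A) (fun u hu => by
        rw [List.prod_cons, Module.End.mul_apply]
        exact ha _ (h1 u hu)) = (a.restrict ha) ∘ₗ (l.prod.restrict h1) := by
        apply LinearMap.ext
        intro u
        rfl
      rw [h3, LinearMap.det_comp, h2, mul_one]
      have h4 : LinearMap.det (a.restrict ha) * LinearMap.det (a.restrict ha) = 1 := by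
        rw [← LinearMap.det_comp]
        have : (a.restrict ha) ∘ₗ (a.restrict ha) = LinearMap.id := by
          apply LinearMap.ext
          intro u
          apply Subtype.ext
          exact DFunLike.congr_fun ha1 (u : U)
        rw [this, LinearMap.det_id]
      have h2' : (2 : k) = 0 := CharP.cast_eq_zero k 2
      have h5 : (LinearMap.det (a.restrict ha) - 1) ^ 2 = 0 := by
        linear_combination h4 - (LinearMap.det (a.restrict ha) - 1) * h2'
      have h6 := pow_eq_zero_iff (two_ne_zero) |>.1 h5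
      exact sub_eq_zero.1 h6
  obtain ⟨h1, h2⟩ := hdet l hl
  have h3 : l.prod.restrict h1 = w • (LinearMap.id : A →ₗ[k] A) := by
    apply LinearMap.ext
    intro u
    apply Subtype.ext
    change l.prod u = w • (u : U)
    rw [← hx]
    exact (hA u).1 u.2
  rw [h3, LinearMap.det_smul, LinearMap.det_id, mul_one] at h2
  have hw1 : w ≠ 1 := by
    rintro rfl
    have h2' : (2 : k) = 0 := CharP.cast_eq_zero k 2
    have : (1 : k) = 0 := by linear_combination hw - h2'
    exact one_ne_zero this
  have ho : orderOf w = 3 := by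
    have : Fact (Nat.Prime 3) := ⟨Nat.prime_three⟩
    exact orderOf_eq_prime hw3 hw1
  rw [← ho]
  exact orderOf_dvd_of_pow_eq_one h2

/-- squares of elements of order four act trivially on spaces of dimension at most two -/
theorem sq_fix {g : Module.End k U} (hU : finrank k U ≤ 2) (hg : g * g * (g * g) = 1) : g * g = 1 := by
  have h2 : (2 : k) = 0 := CharP.cast_eq_zero k 2
  have h22 : ∀ f : Module.End k U, f + f = 0 := fun f => add_self k f
  have hsq : ∀ a : Module.End k U, (a - 1) ^ 2 = a * a - 1 := by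
    intro a
    have : (a - 1) ^ 2 = (a * a - 1) - (a + a) + (1 + 1) := by noncomm_ring
    rw [this, h22, h22]; abel
  have h4 : (g - 1) ^ 4 = 0 := by
    rw [show (4 : ℕ) = 2 * 2 by norm_num, pow_mul, hsq g, hsq (g * g), hg, sub_self]
  have h5 := Module.End.ker_pow_eq_ker_pow_finrank_of_le (f := g - 1) (m := 4) (by omega)
  have h6 := Module.End.ker_pow_eq_ker_pow_finrank_of_le (f := g - 1) (m := 2) hU
  have h7 : LinearMap.ker ((g - 1) ^ 2) = ⊤ := by
    rw [h6, ← h5, h4, LinearMap.ker_zero]
  rw [LinearMap.ker_eq_top, hsq] at h7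
  exact sub_eq_zero.1 h7

end char2

end Cfsg.Agent.H4.JT
end

-- part: H4/JT/Fixed
section
/-!
# Fixed vectors in dimensions 7 and 8, characteristic two

`Dat` : elements of a group with the relations of suitable elements of `J2`; `Dat.exists_fixed` : a representation of
dimension 7 or 8 over a field of characteristic two containing a primitive third root of unity has a fixed vector or a
fixed functional.
-/

set_option autoImplicit false

namespace Cfsg.Agent.H4.JT

open Module

section bound

variable {k : Type*} [Field k] [CharP k 2] {V : Type*} [AddCommGroup V] [Module k V] [FiniteDimensional k V]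

/-- the averaging operator of an element of order five -/
def e5 (y : Module.End k V) : Module.End k V := 1 + y + y * y + y * (y * y) + y * (y * (y * y))

omit [FiniteDimensional k V] [CharP k 2] in
theorem e5_apply (y : Module.End k V) (v : V) :
    e5 y v = v + y v + y (y v) + y (y (y v)) + y (y (y (y v))) := rfl

omit [FiniteDimensional k V] [CharP k 2] in
theorem e5_mem {y : Module.End k V} (hy : y * (y * (y * (y * y))) = 1) (v : V) : e5 y v ∈ fx y := by
  rw [mem_fx, e5_apply]
  simp only [map_add]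
  rw [show y (y (y (y (y v)))) = v from DFunLike.congr_fun hy v]
  abel

omit [FiniteDimensional k V] in
theorem e5_fix {y : Module.End k V} {v : V} (hv : v ∈ fx y) : e5 y v = v := by
  rw [mem_fx] at hv
  rw [e5_apply]
  simp only [hv]
  have h : v + v + v + v + v = v + (v + v) + (v + v) := by abel
  rw [h, add_self k v, add_zero, add_zero]

omit [FiniteDimensional k V] [CharP k 2] in
theorem e5_comm {y a : Module.End k V} (h : a * y = y * a) (v : V) : a (e5 y v) = e5 y (a v) := by
  have h' : ∀ v, a (y v) = y (a v) := fun v => DFunLike.congr_fun h v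
  simp only [e5_apply, map_add, h']

/-- three subgroups of order five of a group of order 25 -/
theorem fix_bound {y1 y2 y3 : Module.End k V} (h3 : y3 * (y3 * (y3 * (y3 * y3))) = 1) (c13 : y1 * y3 = y3 * y1)
    (c23 : y2 * y3 = y3 * y2) {C : Submodule k V} (h12 : fx y1 ⊓ fx y2 ≤ C) (h13 : fx y1 ⊓ fx y3 ≤ C)
    (h23 : fx y2 ⊓ fx y3 ≤ C) :
    finrank k (fx y1) + finrank k (fx y2) + finrank k (fx y3) ≤ finrank k V + 2 * finrank k C := by
  have e1 := Submodule.finrank_sup_add_finrank_inf_eq (fx y1) (fx y2)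
  have e2 := Submodule.finrank_sup_add_finrank_inf_eq (fx y1 ⊔ fx y2) (fx y3)
  have e3 := Submodule.finrank_mono h12
  have e4 : (fx y1 ⊔ fx y2) ⊓ fx y3 ≤ C := by
    rintro v ⟨hv, hv3⟩
    obtain ⟨v1, hv1, v2, hv2, rfl⟩ := Submodule.mem_sup.1 hv
    have h5 := e5_fix hv3
    rw [← h5, map_add]
    apply C.add_mem
    · apply h13
      refine ⟨?_, e5_mem h3 v1⟩
      change e5 y3 v1 ∈ fx y1
      rw [mem_fx, e5_comm c13, mem_fx.1 hv1]
    · apply h23
      refine ⟨?_, e5_mem h3 v2⟩
      change e5 y3 v2 ∈ fx y2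
      rw [mem_fx, e5_comm c23, mem_fx.1 hv2]
  have e5 := Submodule.finrank_mono e4
  have e6 := Submodule.finrank_le (fx y1 ⊔ fx y2 ⊔ fx y3)
  omega

end bound

theorem p5 {M : Type*} [Monoid M] (a : M) : a ^ 5 = a * (a * (a * (a * a))) := by
  simp only [pow_succ', pow_zero, mul_one]

/-- relations of some elements of `J2` -/
structure Dat {G : Type*} [Group G] (x y t0 r c1 c2 : G) (g : Fin 6 → G) : Prop where
  x3 : x * (x * x) = 1
  y5 : y * (y * (y * (y * y))) = 1
  xy : x * y = y * x
  t2 : t0 * t0 = 1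
  ty : t0 * y = y * t0
  k5 : t0 * x * (t0 * x * (t0 * x * (t0 * x * (t0 * x)))) = 1
  rx : r * x = x * x * r
  ry : r * y = y * r
  gx : ∀ i, g i * x = x * g i
  g4 : ∀ i, g i * g i * (g i * g i) = 1
  ey : y = g 0 * g 0 * (g 1 * g 1)
  ex : x = g 2 * g 2 * (g 3 * g 3 * (g 4 * g 4 * (g 5 * g 5)))
  hc1 : c1 * y = y ^ 3 * (t0 * x) ^ 2 * c1
  hc2 : c2 * y = y ^ 2 * (t0 * x) ^ 2 * c2
  gen : Subgroup.closure ({t0} ∪ Set.range fun i => g i * g i) = ⊤

variable {G : Type*} [Group G] {x y t0 r c1 c2 : G} {g : Fin 6 → G}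

variable {k : Type*} [Field k] [CharP k 2] {V : Type*} [AddCommGroup V] [Module k V] [FiniteDimensional k V]

omit [CharP k 2] [FiniteDimensional k V] in
theorem rho_inj (ρ : G →* Module.End k V) (a : G) : Function.Injective (ρ a) := by
  intro u v h
  have h1 : ρ a⁻¹ (ρ a u) = ρ a⁻¹ (ρ a v) := by rw [h]
  rw [← Module.End.mul_apply, ← Module.End.mul_apply, ← map_mul, inv_mul_cancel, map_one] at h1
  exact h1

omit [CharP k 2] in
/-- conjugate elements -/
theorem finrank_conj (ρ : G →* Module.End k V) {a b c : G} (h : c * a = b * c) :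
    finrank k (fx (ρ a)) = finrank k (fx (ρ b)) := by
  have key : ∀ a b c : G, c * a = b * c → finrank k (fx (ρ a)) ≤ finrank k (fx (ρ b)) := by
    intro a b c h
    let γ : fx (ρ a) →ₗ[k] fx (ρ b) := ((ρ c).comp (fx (ρ a)).subtype).codRestrict _ (fun u => by
      rw [mem_fx]
      change ρ b (ρ c u) = ρ c u
      rw [← Module.End.mul_apply, ← map_mul, ← h, map_mul, Module.End.mul_apply, mem_fx.1 u.2])
    apply LinearMap.finrank_le_finrank_of_injective (f := γ)
    rw [← LinearMap.ker_eq_bot, LinearMap.ker_eq_bot']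
    intro u hu
    apply Subtype.ext
    apply rho_inj ρ c
    rw [Submodule.coe_zero, map_zero]
    exact congrArg Subtype.val hu
  apply le_antisymm (key a b c h)
  apply key b a c⁻¹
  calc c⁻¹ * b = c⁻¹ * (b * c) * c⁻¹ := by group
    _ = c⁻¹ * (c * a) * c⁻¹ := by rw [h]
    _ = a * c⁻¹ := by group

omit [CharP k 2] [FiniteDimensional k V] in
theorem fx_inv {a b : G} (ρ : G →* Module.End k V) (h : a * b = b * a) {v : V} (hv : v ∈ fx (ρ b)) :
    ρ a v ∈ fx (ρ b) := by
  rw [mem_fx] at hv ⊢
  rw [← Module.End.mul_apply, ← map_mul, ← h, map_mul, Module.End.mul_apply, hv]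

omit [CharP k 2] [FiniteDimensional k V] in
theorem fx_pow (ρ : G →* Module.End k V) {a : G} {v : V} (hv : v ∈ fx (ρ a)) (n : ℕ) : v ∈ fx (ρ (a ^ n)) := by
  induction n with
  | zero => rw [pow_zero, map_one, mem_fx]; rfl
  | succ n ih =>
    rw [mem_fx] at ih hv ⊢
    rw [pow_succ, map_mul, Module.End.mul_apply, hv, ih]

omit [CharP k 2] [FiniteDimensional k V] in
theorem fx_mul (ρ : G →* Module.End k V) {a b : G} {v : V} (ha : v ∈ fx (ρ a)) (hb : v ∈ fx (ρ b)) :
    v ∈ fx (ρ (a * b)) := by
  rw [mem_fx] at ha hb ⊢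
  rw [map_mul, Module.End.mul_apply, hb, ha]

omit [CharP k 2] [FiniteDimensional k V] in
theorem fx_of_mul (ρ : G →* Module.End k V) {a b : G} {v : V} (ha : v ∈ fx (ρ a)) (hab : v ∈ fx (ρ (a * b))) :
    v ∈ fx (ρ b) := by
  rw [mem_fx] at ha hab ⊢
  apply rho_inj ρ a
  rw [ha, ← Module.End.mul_apply, ← map_mul, hab]

/-- **fixed vectors or functionals** -/
theorem Dat.exists_fixed (D : Dat x y t0 r c1 c2 g) {w : k} (hw : w ^ 2 + w + 1 = 0) (ρ : G →* Module.End k V)
    (hn : finrank k V = 7 ∨ finrank k V = 8) (hx1 : ρ x ≠ 1) :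
    (∃ v : V, v ≠ 0 ∧ ∀ a : G, ρ a v = v) ∨ ∃ φ : V →ₗ[k] k, φ ≠ 0 ∧ ∀ (a : G) (v : V), φ (ρ a v) = φ v := by
  have hx3 : ρ x * (ρ x * ρ x) = 1 := by rw [← map_mul, ← map_mul, D.x3, map_one]
  have hy5 : ρ y * (ρ y * (ρ y * (ρ y * ρ y))) = 1 := by
    rw [← map_mul, ← map_mul, ← map_mul, ← map_mul, D.y5, map_one]
  -- the fixed space of `x`
  have hf : finrank k (fx (ρ x)) + 6 = finrank k V := by
    have h1 := even3 hw hx3 (rho_inj ρ r) (by rw [← map_mul, D.rx, map_mul, map_mul])
    have h2 := three_dvd hw (x := ρ x) [ρ (g 2 * g 2), ρ (g 3 * g 3), ρ (g 4 * g 4), ρ (g 5 * g 5)] (by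
      have key : ∀ i, ρ (g i * g i) * ρ (g i * g i) = 1 ∧ ρ (g i * g i) * ρ x = ρ x * ρ (g i * g i) := by
        intro i
        constructor
        · rw [← map_mul, D.g4, map_one]
        · rw [← map_mul, ← map_mul, mul_assoc, D.gx, ← mul_assoc, D.gx, mul_assoc]
      intro a ha
      simp only [List.mem_cons, List.not_mem_nil, or_false] at ha
      rcases ha with rfl | rfl | rfl | rfl <;> exact key _) (by
      rw [List.prod_cons, List.prod_cons, List.prod_cons, List.prod_cons, List.prod_nil, mul_one, ← map_mul, ← map_mul,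
        ← map_mul]
      exact congrArg ρ D.ex)
    have h3 : finrank k (LinearMap.ker (ρ x - w • (1 : Module.End k V))) ≠ 0 := by
      intro h0
      apply hx1
      have h4 : fx (ρ x) = ⊤ := Submodule.eq_top_of_finrank_eq (by omega)
      apply LinearMap.ext
      intro v
      have : v ∈ fx (ρ x) := by rw [h4]; trivial
      exact mem_fx.1 this
    obtain ⟨m, hm⟩ := h2
    omega
  -- the squares act trivially
  have hg : ∀ (i : Fin 6), ∀ v ∈ fx (ρ x), v ∈ fx (ρ (g i * g i)) := by
    intro i v hv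
    let g' : Module.End k (fx (ρ x)) := (ρ (g i)).restrict (fun u hu => fx_inv ρ (D.gx i) hu)
    have h1 : g' * g' = 1 := by
      apply sq_fix (by omega)
      apply LinearMap.ext
      intro u
      apply Subtype.ext
      change ρ (g i) (ρ (g i) (ρ (g i) (ρ (g i) u))) = u
      rw [← Module.End.mul_apply, ← Module.End.mul_apply, ← Module.End.mul_apply, ← map_mul, ← map_mul, ← map_mul]
      have : g i * g i * g i * g i = 1 := by rw [← D.g4 i]; group
      rw [this, map_one]; rfl
    have h2 := DFunLike.congr_fun h1 ⟨v, hv⟩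
    rw [mem_fx, map_mul]
    exact congrArg Subtype.val h2
  -- `y` acts trivially on the fixed space of `x`
  have hxy : fx (ρ x) ≤ fx (ρ y) := by
    intro v hv
    rw [D.ey]
    exact fx_mul ρ (hg 0 v hv) (hg 1 v hv)
  -- restriction to the fixed space of `y`
  set U := fx (ρ y) with hU
  have hxU : ∀ u ∈ U, ρ x u ∈ U := fun u hu => fx_inv ρ D.xy hu
  have htU : ∀ u ∈ U, ρ t0 u ∈ U := fun u hu => fx_inv ρ D.ty hu
  have hrU : ∀ u ∈ U, ρ r u ∈ U := fun u hu => fx_inv ρ D.ry hu
  let x' : Module.End k U := (ρ x).restrict hxU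
  let t' : Module.End k U := (ρ t0).restrict htU
  let r' : Module.End k U := (ρ r).restrict hrU
  have hfx' : finrank k (fx x') = finrank k (fx (ρ x)) := by
    let γ : fx x' ≃ₗ[k] fx (ρ x) :=
      { toFun := fun u => ⟨u.1.1, by
          have := mem_fx.1 u.2
          rw [mem_fx]
          exact congrArg Subtype.val this⟩
        invFun := fun v => ⟨⟨v.1, hxy v.2⟩, by
          rw [mem_fx]
          apply Subtype.ext
          exact mem_fx.1 v.2⟩
        left_inv := fun u => rfl
        right_inv := fun v => rfl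
        map_add' := fun u v => rfl
        map_smul' := fun c u => rfl }
    exact γ.finrank_eq
  have hpar : finrank k U = finrank k (fx (ρ x)) + 2 * finrank k (LinearMap.ker (x' - w • (1 : Module.End k U))) := by
    rw [← hfx']
    apply even3 hw (r := r')
    · apply LinearMap.ext
      intro u
      apply Subtype.ext
      exact DFunLike.congr_fun hx3 (u : V)
    · intro u v h
      apply Subtype.ext
      apply rho_inj ρ r
      exact congrArg Subtype.val h
    · apply LinearMap.ext
      intro u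
      apply Subtype.ext
      change ρ r (ρ x u) = ρ x (ρ x (ρ r u))
      rw [← Module.End.mul_apply, ← Module.End.mul_apply, ← Module.End.mul_apply, ← map_mul, ← map_mul, ← map_mul,
        D.rx]
  -- the fixed space of `⟨y, k⟩`
  set C := fx (ρ y) ⊓ fx (ρ (t0 * x)) with hC
  have hyk : y * (t0 * x) = t0 * x * y := by rw [← mul_assoc, ← D.ty, mul_assoc, ← D.xy, mul_assoc]
  have hk5 : (t0 * x) ^ 5 = 1 := by
    rw [p5, D.k5]
  have hy5' : y ^ 5 = 1 := by rw [p5, D.y5]
  have hcomm : Commute y (t0 * x) := hyk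
  have hbd : 3 * finrank k U ≤ finrank k V + 2 * finrank k C := by
    have e1 := finrank_conj ρ D.hc1
    have e2 := finrank_conj ρ D.hc2
    have c1' : Commute y (y ^ 3 * (t0 * x) ^ 2) := ((Commute.refl y).pow_right 3).mul_right (hcomm.pow_right 2)
    have c2' : Commute y (y ^ 2 * (t0 * x) ^ 2) := ((Commute.refl y).pow_right 2).mul_right (hcomm.pow_right 2)
    have c3' : Commute (t0 * x) (y ^ 2 * (t0 * x) ^ 2) :=
      (hcomm.symm.pow_right 2).mul_right ((Commute.refl (t0 * x)).pow_right 2)
    have c4' : Commute (y ^ 3 * (t0 * x) ^ 2) (y ^ 2 * (t0 * x) ^ 2) := (c2'.pow_left 3).mul_left (c3'.pow_left 2)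
    -- from `k ^ 2` to `k`
    have hk2 : ∀ v : V, v ∈ fx (ρ ((t0 * x) ^ 2)) → v ∈ fx (ρ (t0 * x)) := by
      intro v hv
      have := fx_pow ρ hv 3
      rwa [← pow_mul, show 2 * 3 = 5 + 1 by norm_num, pow_succ, hk5, one_mul] at this
    have h12 : fx (ρ y) ⊓ fx (ρ (y ^ 3 * (t0 * x) ^ 2)) ≤ C := by
      rintro v ⟨h1, h2⟩
      exact ⟨h1, hk2 v (fx_of_mul ρ (fx_pow ρ h1 3) h2)⟩
    have h13 : fx (ρ y) ⊓ fx (ρ (y ^ 2 * (t0 * x) ^ 2)) ≤ C := by
      rintro v ⟨h1, h2⟩
      exact ⟨h1, hk2 v (fx_of_mul ρ (fx_pow ρ h1 2) h2)⟩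
    have h23 : fx (ρ (y ^ 3 * (t0 * x) ^ 2)) ⊓ fx (ρ (y ^ 2 * (t0 * x) ^ 2)) ≤ C := by
      rintro v ⟨h1, h2⟩
      have h3 : v ∈ fx (ρ y) := by
        have e : y ^ 2 * (t0 * x) ^ 2 * y = y ^ 3 * (t0 * x) ^ 2 := by
          rw [mul_assoc, ← (hcomm.pow_right 2).eq, ← mul_assoc, ← pow_succ]
        exact fx_of_mul ρ h2 (by rw [e]; exact h1)
      exact ⟨h3, hk2 v (fx_of_mul ρ (fx_pow ρ h3 2) h2)⟩
    have h5 : ρ (y ^ 2 * (t0 * x) ^ 2) * (ρ (y ^ 2 * (t0 * x) ^ 2) * (ρ (y ^ 2 * (t0 * x) ^ 2) *
        (ρ (y ^ 2 * (t0 * x) ^ 2) * ρ (y ^ 2 * (t0 * x) ^ 2)))) = 1 := by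
      rw [← map_mul, ← map_mul, ← map_mul, ← map_mul]
      have : y ^ 2 * (t0 * x) ^ 2 * (y ^ 2 * (t0 * x) ^ 2 * (y ^ 2 * (t0 * x) ^ 2 *
          (y ^ 2 * (t0 * x) ^ 2 * (y ^ 2 * (t0 * x) ^ 2)))) = (y ^ 2 * (t0 * x) ^ 2) ^ 5 := (p5 _).symm
      rw [this, ((hcomm.pow_left 2).pow_right 2).mul_pow, ← pow_mul, ← pow_mul, mul_comm 2 5, pow_mul, pow_mul, hy5',
        hk5, one_pow, mul_one, map_one]
    have h6 := fix_bound (y1 := ρ y) (y2 := ρ (y ^ 3 * (t0 * x) ^ 2)) (y3 := ρ (y ^ 2 * (t0 * x) ^ 2)) h5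
      (by rw [← map_mul, ← map_mul, c2'.eq]) (by rw [← map_mul, ← map_mul, c4'.eq]) h12 h13 h23
    rw [← e1, ← e2] at h6
    have h7 : finrank k U = finrank k (fx (ρ y)) := rfl
    omega
  have hfk : finrank k (fx (t' * x')) = finrank k C := by
    let γ : fx (t' * x') ≃ₗ[k] C :=
      { toFun := fun u => ⟨u.1.1, u.1.2, by
          have := mem_fx.1 u.2
          change (u.1.1 : V) ∈ fx (ρ (t0 * x))
          rw [mem_fx, map_mul]
          exact congrArg Subtype.val this⟩
        invFun := fun v => ⟨⟨v.1, v.2.1⟩, by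
          rw [mem_fx]
          apply Subtype.ext
          have := mem_fx.1 v.2.2
          rw [map_mul] at this
          exact this⟩
        left_inv := fun u => rfl
        right_inv := fun v => rfl
        map_add' := fun u v => rfl
        map_smul' := fun c u => rfl }
    exact γ.finrank_eq
  have ht' : t' * t' = 1 := by
    apply LinearMap.ext
    intro u
    apply Subtype.ext
    change ρ t0 (ρ t0 u) = u
    rw [← Module.End.mul_apply, ← map_mul, D.t2, map_one]
    rfl
  -- a vector of `U` fixed by `t0` and `x` is fixed by everything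
  have hfin1 : ∀ u : U, t' u = u → x' u = u → ∀ a : G, ρ a u = u := by
    intro u h1 h2 a
    have hx : (u : V) ∈ fx (ρ x) := mem_fx.2 (congrArg Subtype.val h2)
    have ha : a ∈ Subgroup.closure ({t0} ∪ Set.range fun i => g i * g i) := by rw [D.gen]; trivial
    induction ha using Subgroup.closure_induction with
    | mem a ha =>
      rcases ha with ha | ⟨i, rfl⟩
      · rw [Set.mem_singleton_iff.1 ha]
        exact congrArg Subtype.val h1
      · exact mem_fx.1 (hg i _ hx)
    | one => rw [map_one]; rfl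
    | mul a b _ _ ha hb => rw [map_mul, Module.End.mul_apply, hb, ha]
    | inv a _ ha =>
      apply rho_inj ρ a
      rw [← Module.End.mul_apply, ← map_mul, mul_inv_cancel, map_one, ha]
      rfl
  have rx := finrank_range_add x'
  have rt := rank_inv ht'
  have rk := finrank_range_add (t' * x')
  by_cases hcase : finrank k U = finrank k (fx (ρ x))
  · -- `x` and `t0` act trivially on `U`
    left
    have hx1 : ∀ u : U, x' u = u := by
      have h1 : fx x' = ⊤ := Submodule.eq_top_of_finrank_eq (by rw [hfx', hcase])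
      intro u
      have : u ∈ fx x' := by rw [h1]; trivial
      exact mem_fx.1 this
    have ht1 : ∀ u : U, t' u = u := by
      intro u
      have h1 : ∀ v : U, ρ (t0 * x) v = t' v := by
        intro v
        rw [map_mul, Module.End.mul_apply]
        have h2 : ρ x v = v := congrArg Subtype.val (hx1 v)
        rw [h2]
        rfl
      have h2 : ∀ v : U, t' (t' v) = v := fun v => DFunLike.congr_fun ht' v
      have h3 : ρ (t0 * x * (t0 * x * (t0 * x * (t0 * x * (t0 * x))))) u = (t' (t' (t' (t' (t' u)))) : V) := by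
        rw [map_mul, map_mul ρ _ (t0 * x * (t0 * x * (t0 * x))), map_mul ρ _ (t0 * x * (t0 * x)),
          map_mul ρ _ (t0 * x), Module.End.mul_apply, Module.End.mul_apply, Module.End.mul_apply,
          Module.End.mul_apply, h1, h1, h1, h1, h1]
      rw [D.k5, map_one, h2, h2] at h3
      exact Subtype.ext h3.symm
    have hpos : 0 < finrank k U := by omega
    obtain ⟨u, hu⟩ := (Module.finrank_pos_iff_exists_ne_zero (R := k)).1 hpos
    exact ⟨u, fun h => hu (Subtype.ext h), hfin1 u (ht1 u) (hx1 u)⟩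
  · have hsc := scott t' x' (by omega)
    rcases hsc with ⟨u, hu, h1, h2⟩ | hne
    · left
      exact ⟨u, fun h => hu (Subtype.ext h), hfin1 u h1 h2⟩
    · right
      -- the functional
      set R := LinearMap.range (t' - 1) ⊔ LinearMap.range (x' - 1) with hR
      obtain ⟨ψ, hψ, hψR⟩ : ∃ ψ : U →ₗ[k] k, ψ ≠ 0 ∧ R ≤ LinearMap.ker ψ :=
        Submodule.exists_le_ker_of_lt_top R (lt_top_iff_ne_top.2 hne)
      let φ : V →ₗ[k] k := ψ.comp ((e5 (ρ y)).codRestrict U (fun v => e5_mem hy5 v))
      have hφU : ∀ u : U, φ u = ψ u := by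
        intro u
        change ψ ⟨e5 (ρ y) u, _⟩ = ψ u
        congr 1
        exact Subtype.ext (e5_fix u.2)
      have hφt : ∀ v, φ (ρ t0 v) = φ v := by
        intro v
        change ψ ⟨e5 (ρ y) (ρ t0 v), _⟩ = ψ ⟨e5 (ρ y) v, _⟩
        have h1 : (⟨e5 (ρ y) (ρ t0 v), e5_mem hy5 _⟩ : U) = t' ⟨e5 (ρ y) v, e5_mem hy5 v⟩ := by
          apply Subtype.ext
          change e5 (ρ y) (ρ t0 v) = ρ t0 (e5 (ρ y) v)
          rw [e5_comm]
          rw [← map_mul, ← map_mul, D.ty]
        rw [h1, ← sub_eq_zero, ← map_sub]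
        have h2 : t' ⟨e5 (ρ y) v, e5_mem hy5 v⟩ - ⟨e5 (ρ y) v, e5_mem hy5 v⟩ ∈ R :=
          Submodule.mem_sup_left ⟨⟨e5 (ρ y) v, e5_mem hy5 v⟩, rfl⟩
        exact hψR h2
      have hφx : ∀ v, φ (ρ x v) = φ v := by
        intro v
        change ψ ⟨e5 (ρ y) (ρ x v), _⟩ = ψ ⟨e5 (ρ y) v, _⟩
        have h1 : (⟨e5 (ρ y) (ρ x v), e5_mem hy5 _⟩ : U) = x' ⟨e5 (ρ y) v, e5_mem hy5 v⟩ := by
          apply Subtype.ext
          change e5 (ρ y) (ρ x v) = ρ x (e5 (ρ y) v)
          rw [e5_comm]
          rw [← map_mul, ← map_mul, D.xy]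
        rw [h1, ← sub_eq_zero, ← map_sub]
        have h2 : x' ⟨e5 (ρ y) v, e5_mem hy5 v⟩ - ⟨e5 (ρ y) v, e5_mem hy5 v⟩ ∈ R :=
          Submodule.mem_sup_right ⟨⟨e5 (ρ y) v, e5_mem hy5 v⟩, rfl⟩
        exact hψR h2
      -- the average over `⟨x⟩`
      have hφg : ∀ i v, φ (ρ (g i * g i) v) = φ v := by
        intro i v
        have h3 : ∀ v, φ (v + ρ x v + ρ x (ρ x v)) = φ v := by
          intro v
          rw [map_add, map_add, hφx, hφx, hφx, add_assoc, add_self k, add_zero]
        have h4 : v + ρ x v + ρ x (ρ x v) ∈ fx (ρ x) := by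
          rw [mem_fx, map_add, map_add]
          rw [show ρ x (ρ x (ρ x v)) = v from DFunLike.congr_fun hx3 v]
          abel
        have h5 := mem_fx.1 (hg i _ h4)
        rw [← h3 (ρ (g i * g i) v)]
        have hc : g i * g i * x = x * (g i * g i) := by rw [mul_assoc, D.gx, ← mul_assoc, D.gx, mul_assoc]
        have h6 : ∀ v, ρ x (ρ (g i * g i) v) = ρ (g i * g i) (ρ x v) := by
          intro v
          rw [← Module.End.mul_apply, ← Module.End.mul_apply, ← map_mul, ← map_mul, hc]
        rw [h6, h6, ← map_add, ← map_add, h5, h3]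
      refine ⟨φ, ?_, ?_⟩
      · rintro h0
        apply hψ
        apply LinearMap.ext
        intro u
        rw [← hφU u, h0]
        rfl
      · intro a
        have ha : a ∈ Subgroup.closure ({t0} ∪ Set.range fun i => g i * g i) := by rw [D.gen]; trivial
        induction ha using Subgroup.closure_induction with
        | mem a ha =>
          rcases ha with ha | ⟨i, rfl⟩
          · rw [Set.mem_singleton_iff.1 ha]
            exact hφt
          · exact hφg i
        | one => intro v; rw [map_one]; rfl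
        | mul a b _ _ ha hb => intro v; rw [map_mul, Module.End.mul_apply, ha, hb]
        | inv a _ ha =>
          intro v
          rw [← ha (ρ a⁻¹ v), ← Module.End.mul_apply, ← map_mul, mul_inv_cancel, map_one]
          rfl

end Cfsg.Agent.H4.JT
end

-- part: H4/JT/Words
section
/-!
# The elements of `Dat` in the Hall-Janko group on 100 points
-/

set_option autoImplicit false
set_option maxRecDepth 100000

namespace Cfsg.Agent.H4.JT

open Cfsg Cfsg.Agent.J2.HundredGens Cfsg.Agent.SporadicA.PermTab Cfsg.Agent.SporadicA.J2Hundred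

namespace Words

/-- order 3, class 3A -/
def wx : List ℕ := [4, 3]
/-- order 5 -/
def wy : List ℕ := [0, 1]
/-- an involution commuting with `wy` -/
def wt : List ℕ := [2, 3, 1, 0, 1, 2, 3, 0, 1, 2, 3, 4, 3, 2, 3, 1, 2, 3, 0, 1, 0, 1, 2]
/-- conjugates `wy` -/
def wc1 : List ℕ := [3, 2, 3, 4, 3, 2, 3, 2, 1, 0, 1, 2, 3, 4, 1, 2, 3, 2]
/-- conjugates `wy` -/
def wc2 : List ℕ := [3, 2, 3, 4, 2, 3, 2, 3, 1, 0, 1, 2, 3, 4, 1, 2, 3, 2]
/-- elements of order four commuting with `wx` -/
def wg : Fin 6 → List ℕ := ![[4, 3, 2, 3, 4, 3, 2, 3, 2], [4, 3, 0, 1, 0, 1, 2, 3, 4, 3, 2, 3, 2, 1, 0, 1, 0],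
  [1, 2, 3, 4, 3, 2, 3, 1, 2, 3, 4, 3, 1, 2, 3, 2, 1, 0], [4, 3, 1, 0, 1, 2, 3, 4, 3, 2, 3, 2, 1, 0, 1],
  [0, 1, 2, 3, 4, 2, 3, 1, 2, 3, 4, 1, 2, 3, 2, 0, 1, 0, 1, 0],
  [0, 1, 2, 3, 4, 2, 3, 2, 3, 1, 0, 1, 2, 3, 4, 3, 2, 3, 2, 1, 0, 1, 0]]

theorem gm (L M : List ℕ) : gw L * gw M = gw (L ++ M) := Subtype.ext (pw_mul L M)

theorem ge {L M : List ℕ} (h : chk L M = true) : gw L = gw M := Subtype.ext (pw_eq h)

theorem g1 : gw [] = 1 := Subtype.ext pw_nil

theorem gen_eq {S : Subgroup G} (h : ∀ k < 5, gw [k] ∈ S) : S = ⊤ := by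
  have hle : Subgroup.closure gens ≤ S.map G.subtype := by
    rw [Subgroup.closure_le]
    rintro p (rfl | rfl | rfl | rfl | rfl)
    · exact ⟨gw [0], h 0 (by norm_num), mul_one _⟩
    · exact ⟨gw [1], h 1 (by norm_num), mul_one _⟩
    · exact ⟨gw [2], h 2 (by norm_num), mul_one _⟩
    · exact ⟨gw [3], h 3 (by norm_num), mul_one _⟩
    · exact ⟨gw [4], h 4 (by norm_num), mul_one _⟩
  rw [eq_top_iff]
  intro a _
  obtain ⟨b, hb, hab⟩ := hle a.2
  rwa [← Subtype.ext hab]

private noncomputable def _root_.Cfsg.Agent.LsF.f91ca9d_0 : {f // @Cfsg.Agent.J2.HundredGens.tab = f} := ⟨_, by first | (delta Cfsg.Agent.J2.HundredGens.tab; (try delta Cfsg.Agent.J2.HundredGens.gen.match_1); (try rewrite [Cfsg.Agent.LsF.instDecEq_eq, Cfsg.Agent.LsF.dite_eq]); exact rfl) | exact rfl⟩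
private noncomputable def _root_.Cfsg.Agent.LsF.f91ca9d_1 : {f // @Cfsg.Agent.J2.HundredGens.run = f} := ⟨_, by first | (delta Cfsg.Agent.J2.HundredGens.run; rewrite [Cfsg.Agent.LsF.f91ca9d_0.2, Cfsg.Agent.LsF.foldr_eq]; exact rfl) | exact rfl⟩
private noncomputable def _root_.Cfsg.Agent.LsF.f91ca9d_2 : {f // @Cfsg.Agent.J2.HundredGens.chk = f} := ⟨_, by first | (delta Cfsg.Agent.J2.HundredGens.chk; rewrite [Cfsg.Agent.LsF.f91ca9d_1.2]; exact rfl) | exact rfl⟩
private noncomputable def _root_.Cfsg.Agent.LsF.f91ca9d_3 : {f // @Cfsg.Agent.H4.JT.Words.wg = f} := ⟨_, by first | (delta Cfsg.Agent.H4.JT.Words.wg; rewrite [Cfsg.Agent.LsF.vecCons_eq]; exact rfl) | exact rfl⟩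
/-- **the data** -/
theorem dat : Dat (gw wx) (gw wy) (gw wt) (gw [4]) (gw wc1) (gw wc2) (fun i => gw (wg i)) where
  x3 := by simp only [gm]; rw [← g1]; exact ge (by decide +kernel)
  y5 := by simp only [gm]; rw [← g1]; exact ge (by decide +kernel)
  xy := by simp only [gm]; exact ge (by decide +kernel)
  t2 := by simp only [gm]; rw [← g1]; exact ge (by decide +kernel)
  ty := by simp only [gm]; exact ge (by decide +kernel)
  k5 := by simp only [gm]; rw [← g1]; exact ge (by ((try (rewrite [Cfsg.Agent.LsF.f91ca9d_2.2, Cfsg.Agent.LsF.lappend_pat])); decide +kernel))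
  rx := by simp only [gm]; exact ge (by decide +kernel)
  ry := by simp only [gm]; exact ge (by decide +kernel)
  gx i := by
    simp only [gm]
    apply ge
    revert i
    (refine of_decide_eq_true ?_; (try (rewrite [Cfsg.Agent.LsF.f91ca9d_2.2, Cfsg.Agent.LsF.f91ca9d_3.2, Cfsg.Agent.LsF.lappend_pat, Cfsg.Agent.LsF.dBoolEq_eq, Cfsg.Agent.LsF.dForallFin_eq, Cfsg.Agent.LsF.decide_eq])); decide +kernel)
  g4 i := by
    simp only [gm]
    rw [← g1]
    apply ge
    revert i
    (refine of_decide_eq_true ?_; (try (rewrite [Cfsg.Agent.LsF.f91ca9d_2.2, Cfsg.Agent.LsF.f91ca9d_3.2, Cfsg.Agent.LsF.lappend_pat, Cfsg.Agent.LsF.dBoolEq_eq, Cfsg.Agent.LsF.dForallFin_eq, Cfsg.Agent.LsF.decide_eq])); decide +kernel)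
  ey := by simp only [gm]; exact ge (by decide +kernel)
  ex := by simp only [gm]; exact ge (by ((try (rewrite [Cfsg.Agent.LsF.f91ca9d_2.2, Cfsg.Agent.LsF.f91ca9d_3.2, Cfsg.Agent.LsF.lappend_pat])); decide +kernel))
  hc1 := by simp only [pow_succ, pow_zero, one_mul, gm]; exact ge (by ((try (rewrite [Cfsg.Agent.LsF.f91ca9d_2.2, Cfsg.Agent.LsF.lappend_pat])); decide +kernel))
  hc2 := by simp only [pow_succ, pow_zero, one_mul, gm]; exact ge (by ((try (rewrite [Cfsg.Agent.LsF.f91ca9d_2.2, Cfsg.Agent.LsF.lappend_pat])); decide +kernel))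
  gen := by
    set S := Subgroup.closure ({gw wt} ∪ Set.range fun i => gw (wg i) * gw (wg i)) with hS
    have hg : ∀ i, gw (wg i) * gw (wg i) ∈ S := fun i => Subgroup.subset_closure (Or.inr ⟨i, rfl⟩)
    have ht : gw wt ∈ S := Subgroup.subset_closure (Or.inl rfl)
    have h0 : gw [0] ∈ S := by
      have : gw (wg 0) * gw (wg 0) = gw [0] := by rw [gm]; exact ge (by decide +kernel)
      rw [← this]; exact hg 0
    have h1 : gw [1] ∈ S := by
      have : gw (wg 1) * gw (wg 1) = gw [1] := by rw [gm]; exact ge (by decide +kernel)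
      rw [← this]; exact hg 1
    have hx : gw wx ∈ S := by
      have : gw wx = gw (wg 2) * gw (wg 2) * (gw (wg 3) * gw (wg 3) * (gw (wg 4) * gw (wg 4) *
        (gw (wg 5) * gw (wg 5)))) := by simp only [gm]; exact ge (by decide +kernel)
      rw [this]
      exact S.mul_mem (hg 2) (S.mul_mem (hg 3) (S.mul_mem (hg 4) (hg 5)))
    have h3 : gw [3] ∈ S := by
      have : gw [3] = gw wt * (gw wx * (gw wt * (gw wx * (gw wx * (gw wt * (gw wx * (gw wt * (gw wx *
        (gw wx * gw wt))))))))) := by simp only [gm]; exact ge (by ((try (rewrite [Cfsg.Agent.LsF.f91ca9d_2.2, Cfsg.Agent.LsF.lappend_pat])); decide +kernel))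
      rw [this]
      exact S.mul_mem ht (S.mul_mem hx (S.mul_mem ht (S.mul_mem hx (S.mul_mem hx (S.mul_mem ht (S.mul_mem hx
        (S.mul_mem ht (S.mul_mem hx (S.mul_mem hx ht)))))))))
    have h4 : gw [4] ∈ S := by
      have : gw [4] = gw wt * (gw wx * (gw wx * (gw wt * (gw wx * (gw wt * (gw wx * (gw wx * (gw wt *
        (gw wx * gw wt))))))))) := by simp only [gm]; exact ge (by ((try (rewrite [Cfsg.Agent.LsF.f91ca9d_2.2, Cfsg.Agent.LsF.lappend_pat])); decide +kernel))
      rw [this]
      exact S.mul_mem ht (S.mul_mem hx (S.mul_mem hx (S.mul_mem ht (S.mul_mem hx (S.mul_mem ht (S.mul_mem hx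
        (S.mul_mem hx (S.mul_mem ht (S.mul_mem hx ht)))))))))
    have h2 : gw [2] ∈ S := by
      have : gw [2] = gw wt * (gw [1] * ((gw (wg 4) * gw (wg 4)) * (gw wt * (gw [1] * gw [0])))) := by
        simp only [gm]; exact ge (by ((try (rewrite [Cfsg.Agent.LsF.f91ca9d_2.2, Cfsg.Agent.LsF.f91ca9d_3.2, Cfsg.Agent.LsF.lappend_pat])); decide +kernel))
      rw [this]
      exact S.mul_mem ht (S.mul_mem h1 (S.mul_mem (hg 4) (S.mul_mem ht (S.mul_mem h1 h0))))
    apply gen_eq
    intro k hk
    interval_cases k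
    · exact h0
    · exact h1
    · exact h2
    · exact h3
    · exact h4

theorem x_ne : gw wx ≠ 1 := by
  intro h
  have h1 : pw wx = 1 := congrArg Subtype.val h
  have h2 := pw_val wx 0
  rw [h1] at h2
  revert h2
  decide +kernel

end Words

end Cfsg.Agent.H4.JT
end

private theorem dce_a275d9e1ae3a : _root_.True := by
  try have : _root_.True := by simp only [_root_.Cfsg.Agent.H4.JT.fx.eq_1]
  exact _root_.True.intro
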