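import Cfsg.Agent.H924.D5F_m3
import Cfsg.Agent.H1.EightA
import Cfsg.Agent.J2.ModCheck
import Cfsg.Agent.J2.SixGens
import Cfsg.Agent.H1.TJ2
import Cfsg.Agent.H4.JT.Words
import Cfsg.Agent.H989.Cov.Twelve_m3
import Cfsg.Agent.J2Type.ThreeF
import Cfsg.Agent.KFacts.J2.SheetX
import Cfsg.Agent.H316.RedPerf_m3
import Cfsg.Agent.S1620
import Cfsg.Agent.S0279
import Cfsg.Agent.H124.SUThreeCent
import Cfsg.Agent.ClassicalGeometry.PSLTorus
import Cfsg.Agent.Lib.DivFast
import Cfsg.Agent.FastGrp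
import Cfsg.Agent.Prune
set_option linter.all false

section
prune_inst 0x7f00000000000000000000000000000000000000000000000000000000000000000000000000000000000000000000000000000000000000000000000000000000000000000000000000000000000000003fffffffffffffffffffffffffffbeffbdffffffff

-- part: H4/JT/DegOdd
section
set_option linter.all false
open scoped Cfsg.Agent.FastGrp

-- part: H4/JT/RepK
section
/-!
# The representation over an extension field

`rp K f : G →* End_K(K^ι)` for `f : G →* GL ι F`; `rp_irr` : it is irreducible if the image of `f` is absolutely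
irreducible; `trace_rp`.
-/

set_option autoImplicit false

namespace Cfsg.Agent.H4.JT

open Cfsg Cfsg.Geo Matrix Module Cfsg.Agent.H915.LD

universe u v w

variable {ι : Type} [Fintype ι] [DecidableEq ι] {F : Type u} [Field F] {G : Type w} [Group G]

/-- the representation over `K` -/
noncomputable def rp (K : Type v) [Field K] [Algebra F K] (f : G →* GL ι F) : G →* Module.End K (ι → K) :=
  ((Matrix.toLinAlgEquiv' : Matrix ι ι K ≃ₐ[K] _).toMonoidHom.comp
    ((algebraMap F K).mapMatrix.toMonoidHom)).comp ((Units.coeHom _).comp f)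

variable {K : Type v} [Field K] [Algebra F K] {f : G →* GL ι F}

theorem rp_eq (g : G) : rp K f g = Matrix.toLin' (((f g : GL ι F) : Matrix ι ι F).map (algebraMap F K)) := rfl

theorem rp_of_neg {g : G} (h : ((f g : GL ι F) : Matrix ι ι F) = -1) : rp K f g = -1 := by
  rw [rp_eq, h]
  have : (-1 : Matrix ι ι F).map (algebraMap F K) = -1 := by
    ext i j
    rw [Matrix.map_apply, Matrix.neg_apply, Matrix.neg_apply, map_neg]
    congr 1
    by_cases hij : i = j
    · subst hij; rw [one_apply_eq, one_apply_eq, map_one]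
    · rw [one_apply_ne hij, one_apply_ne hij, map_zero]
  rw [this, map_neg, Matrix.toLin'_one]
  rfl

theorem rp_of_one {g : G} (h : f g = 1) : rp K f g = 1 := by
  rw [rp_eq, h, Units.val_one, Matrix.map_one _ (map_zero _) (map_one _), Matrix.toLin'_one]
  rfl

/-- kernel -/
theorem of_rp_eq_one {g : G} (h : rp K f g = 1) : f g = 1 := by
  apply Units.ext
  rw [Units.val_one]
  have h1 : ((f g : GL ι F) : Matrix ι ι F).map (algebraMap F K) = 1 := by
    apply Matrix.toLin'.injective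
    rw [← rp_eq, h, Matrix.toLin'_one]
    rfl
  ext i j
  have h2 := congrFun (congrFun h1 i) j
  rw [Matrix.map_apply] at h2
  apply (algebraMap F K).injective
  rw [h2]
  by_cases hij : i = j
  · subst hij; rw [one_apply_eq, one_apply_eq, map_one]
  · rw [one_apply_ne hij, one_apply_ne hij, map_zero]

/-- irreducible over `K` -/
theorem rp_irr {P : Subgroup (GL ι F)} (hP : ActsAbsolutelyIrreducibly (matrixSet P)) (hf : f.range = P)
    (X : Submodule K (ι → K)) (hX : ∀ g : G, ∀ x ∈ X, rp K f g x ∈ X) : X = ⊥ ∨ X = ⊤ := by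
  apply H919.Q2.irr_ext (K := K) hP X
  rintro _ ⟨_, ⟨g, hg, rfl⟩, rfl⟩
  rw [SetLike.mem_coe, ← hf] at hg
  obtain ⟨g', rfl⟩ := hg
  rintro _ ⟨x, hx, rfl⟩
  exact hX g' x hx

end Cfsg.Agent.H4.JT
end

-- part: H4/JT/FrameAlg
section
/-!
# Anticommuting involutions

`AC e` : five anticommuting involutions `e i` of an algebra. `clifford_eq` : on a space of dimension at most 8, an
automorphism `v` with `v² = -1` inducing the permutation `(0 1)(2 3)` of the `e i`, together with an automorphism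
`x` of order three inducing `(1 2 3)`, is `½ (e 0 - e 1) (e 2 - e 3)`. `x_quad` : consequences for `x`.
-/

set_option autoImplicit false

namespace Cfsg.Agent.H4.JT

open Module H1.EightA

/-- anticommuting involutions -/
structure AC {R : Type*} [Ring R] (e : Fin 5 → R) : Prop where
  sq : ∀ i, e i * e i = 1
  anti : ∀ i j, i ≠ j → e i * e j = -(e j * e i)

namespace AC

variable {R : Type*} [Ring R] {e : Fin 5 → R} (H : AC e)
include H

theorem dd {i j : Fin 5} (h : i ≠ j) : (e i - e j) * (e i - e j) = 2 := by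
  have h1 := H.anti i j h
  have h2 : (e i - e j) * (e i - e j) = e i * e i - e i * e j - e j * e i + e j * e j := by noncomm_ring
  rw [h2, h1, H.sq, H.sq, ← one_add_one_eq_two]
  abel

theorem dk {i j k : Fin 5} (hi : i ≠ k) (hj : j ≠ k) : (e i - e j) * e k = -(e k * (e i - e j)) := by
  rw [sub_mul, H.anti i k hi, H.anti j k hj]
  noncomm_ring

theorem di {i j : Fin 5} (h : i ≠ j) : (e i - e j) * e i = -(e j * (e i - e j)) := by
  rw [sub_mul, H.sq, mul_sub, H.sq]
  noncomm_ring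

theorem dj {i j : Fin 5} (h : i ≠ j) : (e i - e j) * e j = -(e i * (e i - e j)) := by
  rw [sub_mul, H.sq, mul_sub, H.sq]
  noncomm_ring

theorem ddis {i j k l : Fin 5} (h1 : i ≠ k) (h2 : i ≠ l) (h3 : j ≠ k) (h4 : j ≠ l) :
    (e i - e j) * (e k - e l) = -((e k - e l) * (e i - e j)) := by
  rw [mul_sub, H.dk h1 h3, H.dk h2 h4]
  noncomm_ring

/-- `c = (e i - e j) (e k - e l)` -/
theorem cc {i j k l : Fin 5} (hij : i ≠ j) (hkl : k ≠ l) (h1 : i ≠ k) (h2 : i ≠ l) (h3 : j ≠ k) (h4 : j ≠ l) :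
    (e i - e j) * (e k - e l) * ((e i - e j) * (e k - e l)) = -4 := by
  have h5 : (e i - e j) * (e k - e l) * ((e i - e j) * (e k - e l)) =
      -(((e i - e j) * (e i - e j)) * ((e k - e l) * (e k - e l))) := by
    rw [mul_assoc, ← mul_assoc (e k - e l), H.ddis h1.symm h3.symm h2.symm h4.symm]
    noncomm_ring
  rw [h5, H.dd hij, H.dd hkl]
  norm_num

/-- action of `c` on the involutions -/
theorem ci {i j k l : Fin 5} (hij : i ≠ j) (h1 : i ≠ k) (h2 : i ≠ l) :
    (e i - e j) * (e k - e l) * e i = e j * ((e i - e j) * (e k - e l)) := by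
  rw [mul_assoc, H.dk h1.symm h2.symm, mul_neg, ← mul_assoc, H.di hij]
  noncomm_ring

theorem cj {i j k l : Fin 5} (hij : i ≠ j) (h1 : j ≠ k) (h2 : j ≠ l) :
    (e i - e j) * (e k - e l) * e j = e i * ((e i - e j) * (e k - e l)) := by
  rw [mul_assoc, H.dk h1.symm h2.symm, mul_neg, ← mul_assoc, H.dj hij]
  noncomm_ring

theorem ck {i j k l : Fin 5} (hkl : k ≠ l) (h1 : i ≠ l) (h2 : j ≠ l) :
    (e i - e j) * (e k - e l) * e k = e l * ((e i - e j) * (e k - e l)) := by
  rw [mul_assoc, H.di hkl, mul_neg, ← mul_assoc, H.dk h1 h2]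
  noncomm_ring

theorem cl {i j k l : Fin 5} (hkl : k ≠ l) (h1 : i ≠ k) (h2 : j ≠ k) :
    (e i - e j) * (e k - e l) * e l = e k * ((e i - e j) * (e k - e l)) := by
  rw [mul_assoc, H.dj hkl, mul_neg, ← mul_assoc, H.dk h1 h2]
  noncomm_ring

theorem cm {i j k l m : Fin 5} (h1 : i ≠ m) (h2 : j ≠ m) (h3 : k ≠ m) (h4 : l ≠ m) :
    (e i - e j) * (e k - e l) * e m = e m * ((e i - e j) * (e k - e l)) := by
  rw [mul_assoc, H.dk h3 h4, mul_neg, ← mul_assoc, H.dk h1 h2]
  noncomm_ring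

omit H in
theorem cprod {x0 x1 x2 x3 : R} (s0 : x0 * x0 = 1) (s1 : x1 * x1 = 1) (s2 : x2 * x2 = 1) (s3 : x3 * x3 = 1)
    (a10 : x1 * x0 = -(x0 * x1)) (a20 : x2 * x0 = -(x0 * x2)) (a30 : x3 * x0 = -(x0 * x3))
    (a21 : x2 * x1 = -(x1 * x2)) (a31 : x3 * x1 = -(x1 * x3)) (a32 : x3 * x2 = -(x2 * x3)) :
    (x0 - x1) * (x2 - x3) * ((x0 - x2) * (x3 - x1)) = 2 * ((x0 - x3) * (x1 - x2)) ∧
    (x0 - x2) * (x3 - x1) * ((x0 - x1) * (x2 - x3)) = -(2 * ((x0 - x3) * (x1 - x2))) := by
  have b10 : ∀ t, x1 * (x0 * t) = -(x0 * (x1 * t)) := fun t => by rw [← mul_assoc, a10]; noncomm_ring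
  have b20 : ∀ t, x2 * (x0 * t) = -(x0 * (x2 * t)) := fun t => by rw [← mul_assoc, a20]; noncomm_ring
  have b30 : ∀ t, x3 * (x0 * t) = -(x0 * (x3 * t)) := fun t => by rw [← mul_assoc, a30]; noncomm_ring
  have b21 : ∀ t, x2 * (x1 * t) = -(x1 * (x2 * t)) := fun t => by rw [← mul_assoc, a21]; noncomm_ring
  have b31 : ∀ t, x3 * (x1 * t) = -(x1 * (x3 * t)) := fun t => by rw [← mul_assoc, a31]; noncomm_ring
  have b32 : ∀ t, x3 * (x2 * t) = -(x2 * (x3 * t)) := fun t => by rw [← mul_assoc, a32]; noncomm_ring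
  have t0 : ∀ t, x0 * (x0 * t) = t := fun t => by rw [← mul_assoc, s0, one_mul]
  have t1 : ∀ t, x1 * (x1 * t) = t := fun t => by rw [← mul_assoc, s1, one_mul]
  have t2 : ∀ t, x2 * (x2 * t) = t := fun t => by rw [← mul_assoc, s2, one_mul]
  have t3 : ∀ t, x3 * (x3 * t) = t := fun t => by rw [← mul_assoc, s3, one_mul]
  constructor <;>
  · simp only [mul_sub, sub_mul, mul_assoc, a10, a20, a30, a21, a31, a32, b10, b20, b30, b21, b31, b32, s0, s1, s2,
      s3, t0, t1, t2, t3, mul_neg, neg_mul, mul_one, neg_neg, two_mul]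
    abel

/-- the product of two -/
theorem c12 : (e 0 - e 1) * (e 2 - e 3) * ((e 0 - e 2) * (e 3 - e 1)) = 2 * ((e 0 - e 3) * (e 1 - e 2)) :=
  (cprod (H.sq 0) (H.sq 1) (H.sq 2) (H.sq 3) (H.anti 1 0 (by decide)) (H.anti 2 0 (by decide))
    (H.anti 3 0 (by decide)) (H.anti 2 1 (by decide)) (H.anti 3 1 (by decide)) (H.anti 3 2 (by decide))).1

theorem c21 : (e 0 - e 2) * (e 3 - e 1) * ((e 0 - e 1) * (e 2 - e 3)) = -(2 * ((e 0 - e 3) * (e 1 - e 2))) :=
  (cprod (H.sq 0) (H.sq 1) (H.sq 2) (H.sq 3) (H.anti 1 0 (by decide)) (H.anti 2 0 (by decide))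
    (H.anti 3 0 (by decide)) (H.anti 2 1 (by decide)) (H.anti 3 1 (by decide)) (H.anti 3 2 (by decide))).2

omit H in
/-- conjugation -/
theorem conj {v : R} {π : Fin 5 → Fin 5} (hv : ∀ i, v * e i = e (π i) * v) (i j k l : Fin 5) :
    v * ((e i - e j) * (e k - e l)) = (e (π i) - e (π j)) * (e (π k) - e (π l)) * v := by
  have h1 : ∀ i j, v * (e i - e j) = (e (π i) - e (π j)) * v := by
    intro i j
    rw [mul_sub, hv, hv, sub_mul]
  rw [← mul_assoc, h1, mul_assoc, h1, mul_assoc]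

end AC

section space

variable {K : Type*} [Field K] {U : Type*} [AddCommGroup U] [Module K U] [FiniteDimensional K U]

/-- a non-zero invariant subspace has dimension at least four -/
theorem four_le_inv (h2 : (2 : K) ≠ 0) {e : Fin 5 → End K U} (H : AC e) {S : Submodule K U} (hS : S ≠ ⊥)
    (hinv : ∀ i, ∀ u ∈ S, e i u ∈ S) : 4 ≤ finrank K S := by
  have hee : ∀ i u, e i (e i u) = u := fun i u => DFunLike.congr_fun (H.sq i) u
  have hanti : ∀ i j, i ≠ j → ∀ u, e i (e j u) = -(e j (e i u)) := fun i j h u => DFunLike.congr_fun (H.anti i j h) u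
  have hinj : ∀ i, Function.Injective (e i) := fun i u v h => by
    rw [← hee i u, h, hee]
  have h1 := split h2 S (T := e 0) (hee 0) (hinv 0)
  have h01 : ∀ a : Bool, ∀ u ∈ S ⊓ Ei (e 0) a, e 1 u ∈ S ⊓ Ei (e 0) (!a) := by
    rintro a u ⟨hu, hua⟩
    refine ⟨hinv 1 u hu, ?_⟩
    change u ∈ Ei (e 0) a at hua
    change e 1 u ∈ Ei (e 0) (!a)
    rw [mem_Ei] at hua ⊢
    rw [hanti 0 1 (by decide), hua, map_smul]
    cases a <;> simp [sg]
  have e1 : finrank K (S ⊓ Ei (e 0) false : Submodule K U) ≤ finrank K (S ⊓ Ei (e 0) true : Submodule K U) :=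
    finrank_le_of_map (e 1) (hinj 1) (h01 false)
  have e2 : finrank K (S ⊓ Ei (e 0) true : Submodule K U) ≤ finrank K (S ⊓ Ei (e 0) false : Submodule K U) :=
    finrank_le_of_map (e 1) (hinj 1) (h01 true)
  have hev : Even (finrank K (S ⊓ Ei (e 0) false : Submodule K U)) := by
    refine even_of_anti h2 _ (A := e 1 * e 2) (B := e 2 * e 3) ((hinj 1).comp (hinj 2)) ((hinj 2).comp (hinj 3))
      ?_ ?_ ?_
    · rintro u ⟨hu, hua⟩
      change u ∈ Ei (e 0) false at hua
      rw [mem_Ei] at hua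
      refine ⟨hinv 1 _ (hinv 2 u hu), ?_⟩
      change e 1 (e 2 u) ∈ Ei (e 0) false
      rw [mem_Ei, hanti 0 1 (by decide), hanti 0 2 (by decide), hua, map_neg, map_smul, map_smul, neg_neg]
    · rintro u ⟨hu, hua⟩
      change u ∈ Ei (e 0) false at hua
      rw [mem_Ei] at hua
      refine ⟨hinv 2 _ (hinv 3 u hu), ?_⟩
      change e 2 (e 3 u) ∈ Ei (e 0) false
      rw [mem_Ei, hanti 0 2 (by decide), hanti 0 3 (by decide), hua, map_neg, map_smul, map_smul, neg_neg]
    · intro u _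
      change e 1 (e 2 (e 2 (e 3 u))) = -(e 2 (e 3 (e 1 (e 2 u))))
      rw [hee 2, hanti 3 1 (by decide), map_neg, hanti 2 1 (by decide), hanti 3 2 (by decide) u, map_neg, map_neg,
        hee 2, neg_neg, neg_neg]
  obtain ⟨k, hk⟩ := hev
  have h0 : finrank K S ≠ 0 := fun h => hS (Submodule.finrank_eq_zero.1 h)
  omega

/-- the case of small dimension -/
theorem clifford_eq (h2 : (2 : K) ≠ 0) (hU : finrank K U ≤ 8) {e : Fin 5 → End K U} (H : AC e) {v x : End K U}
    (hv : v * v = -1) (hvT : ∀ i, v * e i = e (![1, 0, 3, 2, 4] i) * v)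
    (hxT : ∀ i, x * e i = e (![0, 2, 3, 1, 4] i) * x) (x3 : x * x * x = 1) (hvx : v * x * v * x = x * x * v) :
    v = (2 : K)⁻¹ • ((e 0 - e 1) * (e 2 - e 3)) := by
  -- the conjugates
  obtain ⟨v2, hv2⟩ : ∃ t : End K U, t = x * v * (x * x) := ⟨_, rfl⟩
  obtain ⟨v3, hv3⟩ : ∃ t : End K U, t = x * x * v * x := ⟨_, rfl⟩
  have x3' : x * (x * x) = 1 := by rw [← mul_assoc]; exact x3
  have hv2x : v2 * x = x * v := by rw [hv2, mul_assoc, x3, mul_one]
  have hv3x : v3 * x = x * v2 := by rw [hv2, hv3]; simp only [mul_assoc]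
  have hvv2 : v * v2 = v3 := by
    have : v * v2 = v * x * v * x * x := by rw [hv2]; simp only [mul_assoc]
    rw [this, hvx, hv3]
  have hv22 : v2 * v2 = -1 := by
    have : v2 * v2 = x * v * (x * (x * x)) * v * (x * x) := by rw [hv2]; simp only [mul_assoc]
    rw [this, x3', mul_one, mul_assoc x v v, hv, mul_neg, mul_one, neg_mul, x3']
  have hv33 : v3 * v3 = -1 := by
    have : v3 * v3 = x * x * v * (x * (x * x)) * v * x := by rw [hv3]; simp only [mul_assoc]
    rw [this, x3', mul_one, mul_assoc (x * x) v v, hv, mul_neg, mul_one, neg_mul, x3]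
  have hv2v : v2 * v = -v3 := by
    -- from `(v v2)^2 = -1`
    have h1 : v * v2 * (v * v2) = -1 := by rw [hvv2]; exact hv33
    have h2' : v * (v * v2 * (v * v2)) * v2 = v2 * v := by
      calc v * (v * v2 * (v * v2)) * v2 = (v * v) * (v2 * v) * (v2 * v2) := by simp only [mul_assoc]
        _ = v2 * v := by rw [hv, hv22]; noncomm_ring
    rw [← h2', h1, mul_neg, mul_one, neg_mul, hvv2]
  -- conjugation
  have hv2T : ∀ i, v2 * e i = e (![2, 3, 0, 1, 4] i) * v2 := by
    have hxx : ∀ i, (x * x) * e i = e (![0, 3, 1, 2, 4] i) * (x * x) := by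
      intro i
      rw [mul_assoc, hxT, ← mul_assoc, hxT, mul_assoc]
      congr 2
      fin_cases i <;> rfl
    intro i
    rw [hv2, mul_assoc, mul_assoc, hxx, ← mul_assoc v, hvT, mul_assoc, ← mul_assoc x, hxT, mul_assoc]
    congr 1
    fin_cases i <;> rfl
  obtain ⟨c1, hc1⟩ : ∃ t : End K U, t = (e 0 - e 1) * (e 2 - e 3) := ⟨_, rfl⟩
  obtain ⟨c2, hc2⟩ : ∃ t : End K U, t = (e 0 - e 2) * (e 3 - e 1) := ⟨_, rfl⟩
  obtain ⟨c3, hc3⟩ : ∃ t : End K U, t = (e 0 - e 3) * (e 1 - e 2) := ⟨_, rfl⟩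
  have xc1 : x * c1 = c2 * x := by rw [hc1, hc2]; exact AC.conj hxT 0 1 2 3
  have xc2 : x * c2 = c3 * x := by rw [hc2, hc3]; exact AC.conj hxT 0 2 3 1
  have vc1 : v * c1 = c1 * v := by
    have h1 : v * c1 = (e 1 - e 0) * (e 3 - e 2) * v := by rw [hc1]; exact AC.conj hvT 0 1 2 3
    rw [h1, hc1]
    noncomm_ring
  have vc2 : v * c2 = -(c2 * v) := by
    have h1 : v * c2 = (e 1 - e 3) * (e 2 - e 0) * v := by rw [hc2]; exact AC.conj hvT 0 2 3 1
    have h3 := H.ddis (i := 0) (j := 2) (k := 3) (l := 1) (by decide) (by decide) (by decide) (by decide)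
    rw [h1, hc2, h3]
    noncomm_ring
  have v2c1 : v2 * c1 = -(c1 * v2) := by
    have h1 : v2 * c1 = (e 2 - e 3) * (e 0 - e 1) * v2 := by rw [hc1]; exact AC.conj hv2T 0 1 2 3
    have h3 := H.ddis (i := 0) (j := 1) (k := 2) (l := 3) (by decide) (by decide) (by decide) (by decide)
    rw [h1, hc1, h3]
    noncomm_ring
  have v2c2 : v2 * c2 = c2 * v2 := by
    have h1 : v2 * c2 = (e 2 - e 0) * (e 1 - e 3) * v2 := by rw [hc2]; exact AC.conj hv2T 0 2 3 1
    rw [h1, hc2]
    noncomm_ring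
  have c11 : c1 * c1 = -4 := by
    rw [hc1]; exact H.cc (by decide) (by decide) (by decide) (by decide) (by decide) (by decide)
  have c22 : c2 * c2 = -4 := by
    rw [hc2]; exact H.cc (by decide) (by decide) (by decide) (by decide) (by decide) (by decide)
  have c12 : c1 * c2 = 2 * c3 := by rw [hc1, hc2, hc3]; exact H.c12
  have c21 : c2 * c1 = -(2 * c3) := by rw [hc1, hc2, hc3]; exact H.c21
  -- the operators
  have h4 : (2 : K)⁻¹ * (2 : K)⁻¹ * 4 = 1 := by
    have : (4 : K) = 2 * 2 := by norm_num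
    rw [this, mul_mul_mul_comm, inv_mul_cancel₀ h2, one_mul]
  obtain ⟨D1, hD1⟩ : ∃ t : End K U, t = -((2 : K)⁻¹ • (c1 * v)) := ⟨_, rfl⟩
  obtain ⟨D2, hD2⟩ : ∃ t : End K U, t = -((2 : K)⁻¹ • (c2 * v2)) := ⟨_, rfl⟩
  obtain ⟨D3, hD3⟩ : ∃ t : End K U, t = -((2 : K)⁻¹ • (c3 * v3)) := ⟨_, rfl⟩
  have four : (4 : End K U) = (4 : K) • 1 := by
    rw [← Algebra.algebraMap_eq_smul_one]; exact (map_ofNat (algebraMap K (End K U)) 4).symm
  have two : (2 : End K U) = (2 : K) • 1 := by
    rw [← Algebra.algebraMap_eq_smul_one]; exact (map_ofNat (algebraMap K (End K U)) 2).symm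
  have hD11 : D1 * D1 = 1 := by
    have : D1 * D1 = ((2 : K)⁻¹ * (2 : K)⁻¹) • (c1 * (v * c1) * v) := by
      rw [hD1, neg_mul_neg, smul_mul_smul_comm]
      congr 1
    rw [this, vc1, show c1 * (c1 * v) * v = c1 * c1 * (v * v) by simp only [mul_assoc], c11, hv, neg_mul_neg, mul_one,
      four, smul_smul, h4, one_smul]
  have hD22 : D2 * D2 = 1 := by
    have : D2 * D2 = ((2 : K)⁻¹ * (2 : K)⁻¹) • (c2 * (v2 * c2) * v2) := by
      rw [hD2, neg_mul_neg, smul_mul_smul_comm]
      congr 1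
    rw [this, v2c2, show c2 * (c2 * v2) * v2 = c2 * c2 * (v2 * v2) by simp only [mul_assoc], c22, hv22, neg_mul_neg,
      mul_one, four, smul_smul, h4, one_smul]
  have h22 : (2 : K)⁻¹ * (2 : K)⁻¹ * 2 = (2 : K)⁻¹ := by rw [mul_assoc, inv_mul_cancel₀ h2, mul_one]
  have hD12 : D1 * D2 = D3 := by
    have : D1 * D2 = ((2 : K)⁻¹ * (2 : K)⁻¹) • (c1 * (v * c2) * v2) := by
      rw [hD1, hD2, neg_mul_neg, smul_mul_smul_comm]
      congr 1
    rw [this, vc2, show c1 * -(c2 * v) * v2 = -((c1 * c2) * (v * v2)) by noncomm_ring, c12, hvv2, two, smul_mul_assoc,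
      one_mul, smul_mul_assoc, smul_neg, smul_smul, h22, hD3]
  have hD21 : D2 * D1 = D3 := by
    have : D2 * D1 = ((2 : K)⁻¹ * (2 : K)⁻¹) • (c2 * (v2 * c1) * v) := by
      rw [hD1, hD2, neg_mul_neg, smul_mul_smul_comm]
      congr 1
    rw [this, v2c1, show c2 * -(c1 * v2) * v = -((c2 * c1) * (v2 * v)) by noncomm_ring, c21, hv2v, neg_mul_neg, two,
      smul_mul_assoc, one_mul, smul_mul_assoc, smul_neg, smul_smul, h22, hD3]
  have hxD1 : x * D1 = D2 * x := by
    rw [hD1, hD2, mul_neg, neg_mul, mul_smul_comm, smul_mul_assoc, ← mul_assoc, xc1, mul_assoc, mul_assoc, hv2x]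
  have hxD2 : x * D2 = D3 * x := by
    rw [hD2, hD3, mul_neg, neg_mul, mul_smul_comm, smul_mul_assoc, ← mul_assoc, xc2, mul_assoc, mul_assoc, hv3x]
  have hD1e : ∀ i, D1 * e i = e i * D1 := by
    intro i
    have h1 : ∀ i, c1 * e (![1, 0, 3, 2, 4] i) = e i * c1 := by
      rw [hc1]
      intro i
      fin_cases i
      · exact H.cj (by decide) (by decide) (by decide)
      · exact H.ci (by decide) (by decide) (by decide)
      · exact H.cl (by decide) (by decide) (by decide)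
      · exact H.ck (by decide) (by decide) (by decide)
      · exact H.cm (by decide) (by decide) (by decide) (by decide)
    rw [hD1, neg_mul, smul_mul_assoc, mul_assoc, hvT, ← mul_assoc, h1, mul_assoc, mul_neg, mul_smul_comm]
  have hD2e : ∀ i, D2 * e i = e i * D2 := by
    intro i
    have h1 : ∀ i, c2 * e (![2, 3, 0, 1, 4] i) = e i * c2 := by
      rw [hc2]
      intro i
      fin_cases i
      · exact H.cj (by decide) (by decide) (by decide)
      · exact H.ck (by decide) (by decide) (by decide)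
      · exact H.ci (by decide) (by decide) (by decide)
      · exact H.cl (by decide) (by decide) (by decide)
      · exact H.cm (by decide) (by decide) (by decide) (by decide)
    rw [hD2, neg_mul, smul_mul_assoc, mul_assoc, hv2T, ← mul_assoc, h1, mul_assoc, mul_neg, mul_smul_comm]
  -- `D1 = 1`
  have key : D1 = 1 := by
    have d11 : ∀ u, D1 (D1 u) = u := fun u => DFunLike.congr_fun hD11 u
    have d22 : ∀ u, D2 (D2 u) = u := fun u => DFunLike.congr_fun hD22 u
    have d12 : ∀ u, D1 (D2 u) = D3 u := fun u => DFunLike.congr_fun hD12 u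
    have d21 : ∀ u, D2 (D1 u) = D3 u := fun u => DFunLike.congr_fun hD21 u
    have xd1 : ∀ u, x (D1 u) = D2 (x u) := fun u => DFunLike.congr_fun hxD1 u
    have xd2 : ∀ u, x (D2 u) = D3 (x u) := fun u => DFunLike.congr_fun hxD2 u
    have hxi : Function.Injective x := by
      intro u u' h
      have h1 : ∀ u, x (x (x u)) = u := fun u => DFunLike.congr_fun x3' u
      rw [← h1 u, h, h1]
    have mE : ∀ (D : End K U) (u : U), u ∈ Ei D true ↔ D u = -u := by
      intro D u
      rw [mem_Ei]; simp [sg]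
    have mE' : ∀ (D : End K U) (u : U), u ∈ Ei D false ↔ D u = u := by
      intro D u
      rw [mem_Ei]; simp [sg]
    have a1 : finrank K (Ei D1 true ⊓ Ei D2 false : Submodule K U) ≤
        finrank K (Ei D1 true ⊓ Ei D2 true : Submodule K U) := by
      apply finrank_le_of_map x hxi
      rintro u ⟨h1, h3⟩
      change u ∈ Ei D1 true at h1
      change u ∈ Ei D2 false at h3
      rw [mE] at h1
      rw [mE'] at h3
      have e2 : D2 (x u) = -(x u) := by rw [← xd1, h1, map_neg]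
      have e3 : D3 (x u) = x u := by rw [← xd2, h3]
      refine ⟨(mE _ _).2 ?_, (mE _ _).2 e2⟩
      have e4 : D1 (D2 (x u)) = x u := by rw [d12, e3]
      rw [e2, map_neg] at e4
      exact neg_eq_iff_eq_neg.1 e4
    have a2 : finrank K (Ei D1 true ⊓ Ei D2 true : Submodule K U) ≤
        finrank K (Ei D1 false ⊓ Ei D2 true : Submodule K U) := by
      apply finrank_le_of_map x hxi
      rintro u ⟨h1, h3⟩
      change u ∈ Ei D1 true at h1
      change u ∈ Ei D2 true at h3
      rw [mE] at h1 h3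
      have e2 : D2 (x u) = -(x u) := by rw [← xd1, h1, map_neg]
      have e3 : D3 (x u) = -(x u) := by rw [← xd2, h3, map_neg]
      refine ⟨(mE' _ _).2 ?_, (mE _ _).2 e2⟩
      have e4 : D1 (D2 (x u)) = -(x u) := by rw [d12, e3]
      rw [e2, map_neg, neg_inj] at e4
      exact e4
    have a3 : finrank K (Ei D1 false ⊓ Ei D2 true : Submodule K U) ≤
        finrank K (Ei D1 true ⊓ Ei D2 false : Submodule K U) := by
      apply finrank_le_of_map x hxi
      rintro u ⟨h1, h3⟩
      change u ∈ Ei D1 false at h1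
      change u ∈ Ei D2 true at h3
      rw [mE'] at h1
      rw [mE] at h3
      have e2 : D2 (x u) = x u := by rw [← xd1, h1]
      have e3 : D3 (x u) = -(x u) := by rw [← xd2, h3, map_neg]
      refine ⟨(mE _ _).2 ?_, (mE' _ _).2 e2⟩
      have e4 : D1 (D2 (x u)) = -(x u) := by rw [d12, e3]
      rw [e2] at e4
      exact e4
    have s1 := split h2 (⊤ : Submodule K U) (T := D1) d11 (fun _ _ => trivial)
    rw [top_inf_eq, top_inf_eq, finrank_top] at s1
    have comm : ∀ a, ∀ u ∈ Ei D1 a, D2 u ∈ Ei D1 a := by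
      intro a u hu
      rw [mem_Ei] at hu ⊢
      rw [d12, ← d21, hu, map_smul]
    have s2 := split h2 (Ei D1 true) (T := D2) d22 (comm true)
    have s3 := split h2 (Ei D1 false) (T := D2) d22 (comm false)
    have inv : ∀ a b, ∀ i, ∀ u ∈ Ei D1 a ⊓ Ei D2 b, e i u ∈ Ei D1 a ⊓ Ei D2 b := by
      rintro a b i u ⟨h1, h3⟩
      change u ∈ Ei D1 a at h1
      change u ∈ Ei D2 b at h3
      rw [mem_Ei] at h1 h3
      refine ⟨mem_Ei.2 ?_, mem_Ei.2 ?_⟩
      · have : D1 (e i u) = e i (D1 u) := DFunLike.congr_fun (hD1e i) u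
        rw [this, h1, map_smul]
      · have : D2 (e i u) = e i (D2 u) := DFunLike.congr_fun (hD2e i) u
        rw [this, h3, map_smul]
    by_cases h0 : finrank K (Ei D1 true ⊓ Ei D2 false : Submodule K U) = 0
    · have h00 : finrank K (Ei D1 true) = 0 := by omega
      have h01 : Ei D1 true = ⊥ := Submodule.finrank_eq_zero.1 h00
      apply LinearMap.ext
      intro u
      have h02 : u - D1 u ∈ Ei D1 true := by
        rw [mE, map_sub, d11]; abel
      rw [h01, Submodule.mem_bot, sub_eq_zero] at h02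
      exact h02.symm
    · exfalso
      have pos : ∀ a b, finrank K (Ei D1 a ⊓ Ei D2 b : Submodule K U) ≠ 0 →
          4 ≤ finrank K (Ei D1 a ⊓ Ei D2 b : Submodule K U) := by
        intro a b h
        refine four_le_inv h2 H ?_ (inv a b)
        intro h'
        rw [h', finrank_bot] at h
        exact h rfl
      have p1 := pos true false h0
      have p2 := pos true true (by omega)
      have p3 := pos false true (by omega)
      omega
  -- conclusion
  have h5 : c1 * D1 = 2 * v := by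
    have : c1 * D1 = -((2 : K)⁻¹ • (c1 * c1 * v)) := by
      rw [hD1, mul_neg, mul_smul_comm, mul_assoc]
    rw [this, c11, four, two, neg_mul, smul_neg, neg_neg, smul_mul_assoc, one_mul, smul_mul_assoc, one_mul, smul_smul]
    congr 1
    have : (4 : K) = 2 * 2 := by norm_num
    rw [this, ← mul_assoc, inv_mul_cancel₀ h2, one_mul]
  rw [key, mul_one] at h5
  rw [← hc1, h5, two, smul_mul_assoc, one_mul, smul_smul, inv_mul_cancel₀ h2, one_smul]

/-- the formula for `x` -/
theorem x_quad (h2 : (2 : K) ≠ 0) {e : Fin 5 → End K U} (H : AC e) {x w : End K U}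
    (hw : w = (2 : K)⁻¹ • ((e 4 - e 0) * (e 1 - e 2)))
    (hxT : ∀ i, x * e i = e (![0, 2, 3, 1, 4] i) * x) (x3 : x * x * x = 1) (hxw : x * x = -(w * x * w)) :
    x * x + x + 1 = 0 := by
  have x3' : x * (x * x) = 1 := by rw [← mul_assoc]; exact x3
  have h4 : (2 : K)⁻¹ * (2 : K)⁻¹ * 4 = 1 := by
    have : (4 : K) = 2 * 2 := by norm_num
    rw [this, mul_mul_mul_comm, inv_mul_cancel₀ h2, one_mul]
  have two : (2 : End K U) = (2 : K) • 1 := by
    rw [← Algebra.algebraMap_eq_smul_one]; exact (map_ofNat (algebraMap K (End K U)) 2).symm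
  obtain ⟨A, hA⟩ : ∃ t : End K U, t = e 1 - e 2 := ⟨_, rfl⟩
  obtain ⟨B, hB⟩ : ∃ t : End K U, t = e 2 - e 3 := ⟨_, rfl⟩
  obtain ⟨C, hC⟩ : ∃ t : End K U, t = e 4 - e 0 := ⟨_, rfl⟩
  have hAA : A * A = 2 := by rw [hA]; exact H.dd (by decide)
  have hBB : B * B = 2 := by rw [hB]; exact H.dd (by decide)
  have hCC : C * C = 2 := by rw [hC]; exact H.dd (by decide)
  have hAC' : A * C = -(C * A) := by rw [hA, hC]; exact H.ddis (by decide) (by decide) (by decide) (by decide)
  have hAB : A * B + B * A = -2 := by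
    have e1 : A * B + B * A = (e 1 * e 2 + e 2 * e 1) - (e 1 * e 3 + e 3 * e 1) - (e 2 * e 2 + e 2 * e 2) +
        (e 2 * e 3 + e 3 * e 2) := by
      rw [hA, hB]; noncomm_ring
    rw [e1, H.anti 1 2 (by decide), H.anti 1 3 (by decide), H.anti 2 3 (by decide), H.sq, ← one_add_one_eq_two]
    abel
  have hxw' : x * w = (2 : K)⁻¹ • (C * B) * x := by
    rw [hw, mul_smul_comm, smul_mul_assoc, hC, hB]
    congr 1
    exact AC.conj hxT 4 0 1 2
  have hx : x = (2 : K)⁻¹ • (A * B) := by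
    have e1 : x * x = -(w * ((2 : K)⁻¹ • (C * B)) * x) := by
      rw [hxw, mul_assoc, hxw', ← mul_assoc]
    have e2 : x = -(w * ((2 : K)⁻¹ • (C * B))) := by
      calc x = x * x * (x * x) := by rw [mul_assoc, ← mul_assoc x x x, x3, mul_one]
        _ = -(w * ((2 : K)⁻¹ • (C * B)) * x) * (x * x) := by rw [← e1]
        _ = -(w * ((2 : K)⁻¹ • (C * B)) * (x * (x * x))) := by rw [neg_mul, mul_assoc _ x]
        _ = -(w * ((2 : K)⁻¹ • (C * B))) := by rw [x3', mul_one]
    rw [e2, hw, ← hC, ← hA, smul_mul_smul_comm]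
    have e3 : C * A * (C * B) = -(C * C * (A * B)) := by
      rw [mul_assoc, ← mul_assoc A C B, hAC']
      noncomm_ring
    rw [e3, hCC, two, smul_neg, neg_neg, smul_mul_assoc, one_mul, smul_smul, mul_assoc, inv_mul_cancel₀ h2, mul_one]
  have hxx : x * x = -x - 1 := by
    have e1 : A * B * (A * B) = -(2 * (A * B)) - 4 := by
      have e2 : B * A = -2 - A * B := by rw [← hAB]; abel
      calc A * B * (A * B) = A * (B * A) * B := by simp only [mul_assoc]
        _ = A * (-2 - A * B) * B := by rw [e2]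
        _ = -(2 * (A * B)) - (A * A) * (B * B) := by noncomm_ring
        _ = -(2 * (A * B)) - 4 := by rw [hAA, hBB]; norm_num
    have four : (4 : End K U) = (4 : K) • 1 := by
      rw [← Algebra.algebraMap_eq_smul_one]; exact (map_ofNat (algebraMap K (End K U)) 4).symm
    conv_lhs => rw [hx]
    rw [smul_mul_smul_comm, e1, smul_sub, smul_neg, two, four, smul_smul, h4, one_smul, smul_mul_assoc, one_mul,
      smul_smul, mul_assoc, inv_mul_cancel₀ h2, mul_one, ← hx]
  rw [hxx]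
  abel

end space

end Cfsg.Agent.H4.JT
end

-- part: H4/JT/Frame
section
/-!
# Frames of reflections in the double cover of the Hall-Janko group

`FD` : relations between elements of a group `G` with a central involution `ng`.
`FD.minus` : an irreducible representation over an algebraically closed field of characteristic not two, with
`ng ↦ -1`, of degree at most 12, in which the reflections commuting with `z` act trivially on the `-1`-eigenspace of
`z`, has degree 6.
-/

set_option autoImplicit false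

namespace Cfsg.Agent.H4.JT

open Module H1.EightA

/-- the relations -/
structure FD {G : Type*} [Group G] (ng z s v x w h g g' y1 y2 : G) (T : Fin 5 → G) : Prop where
  nn : ng * ng = 1
  nc : ∀ a : G, a * ng = ng * a
  zz : z * z = 1
  TT : ∀ i, T i * T i = 1
  zT : ∀ i, z * T i = T i * z
  anti : ∀ i j, i ≠ j → T i * T j = ng * (z * (T j * T i))
  prod : T 0 * T 1 * T 2 * T 3 * T 4 = ng * z
  ss : s * s = 1
  sz : s * z = T 0 * s
  sx : s * x = x * s
  vz : v * z = z * v
  vT : ∀ i, v * T i = T (![1, 0, 3, 2, 4] i) * v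
  vv : v * v = ng
  xz : x * z = z * x
  xT : ∀ i, x * T i = T (![0, 2, 3, 1, 4] i) * x
  x3 : x * x * x = 1
  vx : v * x * v * x = x * x * v
  wg : w * g = g * v
  gz : g * z = z * g
  gT : ∀ i, g * T i = T (![4, 0, 1, 2, 3] i) * g
  xw : x * x = ng * (w * x * w)
  hg : h * g' = g' * v
  gz' : g' * z = z * g'
  gT' : ∀ i, g' * T i = T (![2, 4, 1, 0, 3] i) * g'
  t12 : T 1 * T 2 = x * (x * ((s * h * s) * (x * ((s * h * s) * (x * (x * ((s * h * s) * (x *
    (s * T 1 * s * (s * T 3 * s))))))))))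
  t13 : T 1 * T 3 = x * ((s * h * s) * (x * (x * ((s * h * s) * (x * ((s * h * s) * (x * ((s * h * s) *
    (s * T 4 * s * (s * T 1 * s))))))))))
  ts : T 1 * s * T 1 = s * T 1 * s
  yz : y1 * z = z * y1
  yT : ∀ i, y1 * T i = T (![0, 4, 3, 2, 1] i) * y1
  yz' : y2 * z = z * y2
  yT' : ∀ i, y2 * T i = T (![0, 3, 4, 1, 2] i) * y2
  gen : Subgroup.closure ({ng, z, s, h, x} ∪ Set.range T) = ⊤

variable {G : Type*} [Group G] {ng z s v x w h g g' y1 y2 : G} {T : Fin 5 → G}

theorem FD.wz (D : FD ng z s v x w h g g' y1 y2 T) : w * z = z * w := by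
  have h1 : w = g * v * g⁻¹ := by rw [← D.wg, mul_inv_cancel_right]
  have h2 : g⁻¹ * z = z * g⁻¹ := by rw [inv_mul_eq_iff_eq_mul, ← mul_assoc, D.gz, mul_inv_cancel_right]
  rw [h1, mul_assoc, h2, ← mul_assoc, mul_assoc g, D.vz, ← mul_assoc, D.gz]
  simp only [mul_assoc]

theorem FD.hz (D : FD ng z s v x w h g g' y1 y2 T) : h * z = z * h := by
  have h1 : h = g' * v * g'⁻¹ := by rw [← D.hg, mul_inv_cancel_right]
  have h2 : g'⁻¹ * z = z * g'⁻¹ := by rw [inv_mul_eq_iff_eq_mul, ← mul_assoc, D.gz', mul_inv_cancel_right]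
  rw [h1, mul_assoc, h2, ← mul_assoc, mul_assoc g', D.vz, ← mul_assoc, D.gz']
  simp only [mul_assoc]

theorem FD.hh (D : FD ng z s v x w h g g' y1 y2 T) : h * h = ng := by
  have h1 : h = g' * v * g'⁻¹ := by rw [← D.hg, mul_inv_cancel_right]
  calc h * h = g' * (v * v) * g'⁻¹ := by rw [h1]; group
    _ = ng := by rw [D.vv, D.nc, mul_inv_cancel_right]

section rep

variable {K : Type*} [Field K] {V : Type*} [AddCommGroup V] [Module K V] (ρ : G →* End K V)

theorem rho_injective (a : G) : Function.Injective (ρ a) := by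
  intro u v h
  have h1 : ρ a⁻¹ (ρ a u) = ρ a⁻¹ (ρ a v) := by rw [h]
  rw [← End.mul_apply, ← End.mul_apply, ← map_mul, inv_mul_cancel, map_one] at h1
  exact h1

theorem rho_mul (a b : G) (u : V) : ρ (a * b) u = ρ a (ρ b u) := by rw [map_mul]; rfl

theorem mEt {A : End K V} {u : V} : u ∈ Ei A true ↔ A u = -u := by
  rw [mem_Ei]; simp [sg]

theorem mEf {A : End K V} {u : V} : u ∈ Ei A false ↔ A u = u := by
  rw [mem_Ei]; simp [sg]

/-- restriction to the fixed space of `z` -/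
def rU {z : G} (a : G) (ha : a * z = z * a) : End K (Ei (ρ z) false) :=
  (ρ a).restrict (fun u hu => by
    rw [mEf] at hu ⊢
    rw [← rho_mul, ← ha, rho_mul, hu])

variable [FiniteDimensional K V]

/-- dimensions -/
theorem FD.dims (D : FD ng z s v x w h g g' y1 y2 T) (h2 : (2 : K) ≠ 0) (hng : ρ ng = -1)
    (hfix : ∀ i u, ρ z u = -u → ρ (T i) u = u) :
    2 * finrank K V = 3 * finrank K (Ei (ρ z) false) ∧ Ei (ρ (T 0)) true ≤ Ei (ρ z) false ∧
      2 * finrank K (Ei (ρ (T 0)) true) = finrank K (Ei (ρ z) false) := by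
  have hzz : ∀ u, ρ z (ρ z u) = u := fun u => by rw [← rho_mul, D.zz, map_one]; rfl
  have hTT : ∀ i u, ρ (T i) (ρ (T i) u) = u := fun i u => by rw [← rho_mul, D.TT, map_one]; rfl
  have s1 := split h2 (⊤ : Submodule K V) (T := ρ z) hzz (fun _ _ => trivial)
  rw [top_inf_eq, top_inf_eq, finrank_top] at s1
  have hle : Ei (ρ (T 0)) true ≤ Ei (ρ z) false := by
    intro u hu
    rw [mEt] at hu
    have h1 : ρ z (u - ρ z u) = -(u - ρ z u) := by rw [map_sub, hzz]; abel
    have h3 := hfix 0 _ h1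
    have h4 : ρ (T 0) (ρ z u) = -(ρ z u) := by rw [← rho_mul, ← D.zT, rho_mul, hu, map_neg]
    rw [map_sub, hu, h4] at h3
    rw [mEf]
    have h5 : (2 : K) • (u - ρ z u) = 0 := by
      rw [two_smul]
      nth_rw 1 [← h3]
      abel
    exact (sub_eq_zero.1 ((smul_eq_zero.1 h5).resolve_left h2)).symm
  have hEq : finrank K (Ei (ρ (T 0)) true) = finrank K (Ei (ρ z) true) := by
    apply le_antisymm
    · apply finrank_le_of_map (ρ s) (rho_injective ρ s)
      intro u hu
      rw [mEt] at hu ⊢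
      rw [← rho_mul, show z * s = s * T 0 by
        have := D.sz
        calc z * s = s * (s * z) * s := by rw [← mul_assoc, D.ss, one_mul]
          _ = s * T 0 * (s * s) := by rw [D.sz]; group
          _ = s * T 0 := by rw [D.ss, mul_one], rho_mul, hu, map_neg]
    · apply finrank_le_of_map (ρ s) (rho_injective ρ s)
      intro u hu
      rw [mEt] at hu ⊢
      rw [← rho_mul, ← D.sz, rho_mul, hu, map_neg]
  have hcomm : ∀ u ∈ Ei (ρ z) false, ρ (T 0) u ∈ Ei (ρ z) false := by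
    intro u hu
    rw [mEf] at hu ⊢
    rw [← rho_mul, D.zT, rho_mul, hu]
  have s2 := split h2 (Ei (ρ z) false) (T := ρ (T 0)) (hTT 0) hcomm
  have hmap : ∀ a : Bool, ∀ u ∈ Ei (ρ z) false ⊓ Ei (ρ (T 0)) a, ρ (T 1) u ∈ Ei (ρ z) false ⊓ Ei (ρ (T 0)) (!a) := by
    rintro a u ⟨h1, h3⟩
    change u ∈ Ei (ρ z) false at h1
    change u ∈ Ei (ρ (T 0)) a at h3
    rw [mEf] at h1
    rw [mem_Ei] at h3
    refine ⟨mEf.2 ?_, mem_Ei.2 ?_⟩
    · rw [← rho_mul, D.zT, rho_mul, h1]
    · rw [← rho_mul, D.anti 0 1 (by decide), rho_mul, rho_mul, rho_mul, hng]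
      change -(ρ z (ρ (T 1) (ρ (T 0) u))) = _
      rw [h3, map_smul, map_smul, ← rho_mul, D.zT, rho_mul, h1]
      cases a <;> simp [sg]
  have e1 : finrank K (Ei (ρ z) false ⊓ Ei (ρ (T 0)) false : Submodule K V) ≤
      finrank K (Ei (ρ z) false ⊓ Ei (ρ (T 0)) true : Submodule K V) :=
    finrank_le_of_map (ρ (T 1)) (rho_injective ρ _) (hmap false)
  have e2 : finrank K (Ei (ρ z) false ⊓ Ei (ρ (T 0)) true : Submodule K V) ≤
      finrank K (Ei (ρ z) false ⊓ Ei (ρ (T 0)) false : Submodule K V) :=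
    finrank_le_of_map (ρ (T 1)) (rho_injective ρ _) (hmap true)
  rw [inf_eq_right.2 hle] at e1 e2 s2
  refine ⟨by omega, hle, by omega⟩

/-- the involutions on the fixed space -/
theorem FD.ac (D : FD ng z s v x w h g g' y1 y2 T) (hng : ρ ng = -1) :
    AC (fun i => rU ρ (z := z) (T i) (D.zT i).symm) where
  sq i := by
    apply LinearMap.ext
    intro u
    apply Subtype.ext
    change ρ (T i) (ρ (T i) u) = u
    rw [← rho_mul, D.TT, map_one]; rfl
  anti i j hij := by
    apply LinearMap.ext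
    intro u
    apply Subtype.ext
    change ρ (T i) (ρ (T j) u) = -(ρ (T j) (ρ (T i) u))
    have hu : ρ z u = u := mEf.1 u.2
    rw [← rho_mul, D.anti i j hij, rho_mul, hng]
    change -(ρ (z * (T j * T i)) u) = _
    rw [show z * (T j * T i) = T j * (T i * z) by rw [← mul_assoc, D.zT, mul_assoc, D.zT], rho_mul, rho_mul, hu]

/-- the formula for the conjugates of `v` -/
theorem FD.v_eq (D : FD ng z s v x w h g g' y1 y2 T) (h2 : (2 : K) ≠ 0) (hng : ρ ng = -1)
    (hU : finrank K (Ei (ρ z) false) ≤ 8) :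
    rU ρ v D.vz = (2 : K)⁻¹ • ((rU ρ (T 0) (D.zT 0).symm - rU ρ (T 1) (D.zT 1).symm) *
      (rU ρ (T 2) (D.zT 2).symm - rU ρ (T 3) (D.zT 3).symm)) := by
  refine clifford_eq h2 hU (D.ac ρ hng) (v := rU ρ v D.vz) (x := rU ρ x D.xz) ?_ ?_ ?_ ?_ ?_
  · apply LinearMap.ext
    intro u
    apply Subtype.ext
    change ρ v (ρ v u) = -(u : V)
    rw [← rho_mul, D.vv, hng]; rfl
  · intro i
    apply LinearMap.ext
    intro u
    apply Subtype.ext
    change ρ v (ρ (T i) u) = ρ (T (![1, 0, 3, 2, 4] i)) (ρ v u)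
    rw [← rho_mul, D.vT, rho_mul]
  · intro i
    apply LinearMap.ext
    intro u
    apply Subtype.ext
    change ρ x (ρ (T i) u) = ρ (T (![0, 2, 3, 1, 4] i)) (ρ x u)
    rw [← rho_mul, D.xT, rho_mul]
  · apply LinearMap.ext
    intro u
    apply Subtype.ext
    change ρ x (ρ x (ρ x u)) = u
    rw [← rho_mul, ← rho_mul, D.x3, map_one]; rfl
  · apply LinearMap.ext
    intro u
    apply Subtype.ext
    change ρ v (ρ x (ρ v (ρ x u))) = ρ x (ρ x (ρ v u))
    rw [← rho_mul, ← rho_mul, ← rho_mul, D.vx, rho_mul, rho_mul]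

/-- the conjugate of `v` by `a` -/
theorem FD.conj_eq (D : FD ng z s v x w h g g' y1 y2 T) (h2 : (2 : K) ≠ 0) (hng : ρ ng = -1)
    (hU : finrank K (Ei (ρ z) false) ≤ 8) {a b : G} (hab : b * a = a * v) (haz : a * z = z * a) {π : Fin 5 → Fin 5}
    (haT : ∀ i, a * T i = T (π i) * a) {u : V} (hu : ρ z u = u) :
    ρ b u = (2 : K)⁻¹ • (ρ (T (π 0)) (ρ (T (π 2)) u - ρ (T (π 3)) u) - ρ (T (π 1)) (ρ (T (π 2)) u - ρ (T (π 3)) u)) := by
  have haz' : z * a⁻¹ = a⁻¹ * z := by
    rw [eq_inv_mul_iff_mul_eq, ← mul_assoc, haz, mul_inv_cancel_right]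
  have hu' : ρ z (ρ a⁻¹ u) = ρ a⁻¹ u := by rw [← rho_mul, haz', rho_mul, hu]
  have h1 := congrArg Subtype.val (DFunLike.congr_fun (D.v_eq ρ h2 hng hU) ⟨ρ a⁻¹ u, mEf.2 hu'⟩)
  have h3 : ρ v (ρ a⁻¹ u) = (2 : K)⁻¹ • (ρ (T 0) (ρ (T 2) (ρ a⁻¹ u) - ρ (T 3) (ρ a⁻¹ u)) -
      ρ (T 1) (ρ (T 2) (ρ a⁻¹ u) - ρ (T 3) (ρ a⁻¹ u))) := h1
  have h4 : ρ b u = ρ a (ρ v (ρ a⁻¹ u)) := by
    rw [← rho_mul, ← rho_mul, ← hab, mul_inv_cancel_right]
  have h5 : ∀ i j, ρ a (ρ (T i) (ρ (T j) (ρ a⁻¹ u))) = ρ (T (π i)) (ρ (T (π j)) u) := by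
    intro i j
    rw [← rho_mul ρ a, haT, rho_mul, ← rho_mul ρ a, haT, rho_mul, ← rho_mul ρ a a⁻¹, mul_inv_cancel, map_one]
    rfl
  rw [h4, h3, map_smul, map_sub, map_sub, map_sub, map_sub, map_sub, h5, h5, h5, h5, map_sub, map_sub]

/-- `x² + x + 1 = 0` -/
theorem FD.quad (D : FD ng z s v x w h g g' y1 y2 T) (h2 : (2 : K) ≠ 0) (hng : ρ ng = -1)
    (hfix : ∀ i u, ρ z u = -u → ρ (T i) u = u) (hU : finrank K (Ei (ρ z) false) ≤ 8) (u : V) :
    ρ x (ρ x u) = -(ρ x u) - u := by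
  have hUx : ∀ u : V, ρ z u = u → ρ x (ρ x u) + ρ x u + u = 0 := by
    intro u hu
    have hw : rU ρ w D.wz = (2 : K)⁻¹ • ((rU ρ (T 4) (D.zT 4).symm - rU ρ (T 0) (D.zT 0).symm) *
        (rU ρ (T 1) (D.zT 1).symm - rU ρ (T 2) (D.zT 2).symm)) := by
      apply LinearMap.ext
      intro u
      apply Subtype.ext
      exact D.conj_eq ρ h2 hng hU D.wg D.gz D.gT (mEf.1 u.2)
    have h1 := x_quad h2 (D.ac ρ hng) (x := rU ρ x D.xz) (w := rU ρ w D.wz) hw (by
      intro i
      apply LinearMap.ext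
      intro u
      apply Subtype.ext
      change ρ x (ρ (T i) u) = ρ (T (![0, 2, 3, 1, 4] i)) (ρ x u)
      rw [← rho_mul, D.xT, rho_mul]) (by
      apply LinearMap.ext
      intro u
      apply Subtype.ext
      change ρ x (ρ x (ρ x u)) = u
      rw [← rho_mul, ← rho_mul, D.x3, map_one]; rfl) (by
      apply LinearMap.ext
      intro u
      apply Subtype.ext
      change ρ x (ρ x u) = -(ρ w (ρ x (ρ w u)))
      rw [← rho_mul, D.xw, rho_mul, hng, rho_mul, rho_mul]; rfl)
    exact congrArg Subtype.val (DFunLike.congr_fun h1 ⟨u, mEf.2 hu⟩)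
  have hzz : ∀ u, ρ z (ρ z u) = u := fun u => by rw [← rho_mul, D.zz, map_one]; rfl
  obtain ⟨-, hle, -⟩ := D.dims ρ h2 hng hfix
  have hmin : ∀ u : V, ρ z u = -u → ρ x (ρ x u) + ρ x u + u = 0 := by
    intro u hu
    have h1 : ρ (T 0) (ρ s u) = -(ρ s u) := by rw [← rho_mul, ← D.sz, rho_mul, hu, map_neg]
    have h3 := hUx (ρ s u) (mEf.1 (hle (mEt.2 h1)))
    have hsx : ∀ u, ρ x (ρ s u) = ρ s (ρ x u) := fun u => by rw [← rho_mul, ← D.sx, rho_mul]
    rw [hsx, hsx, ← map_add, ← map_add] at h3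
    exact (map_eq_zero_iff _ (rho_injective ρ s)).1 h3
  have h3 := hUx (u + ρ z u) (by rw [map_add, hzz, add_comm])
  have h4 := hmin (u - ρ z u) (by rw [map_sub, hzz]; abel)
  have h5 : (2 : K) • (ρ x (ρ x u) + ρ x u + u) = 0 := by
    have : (2 : K) • (ρ x (ρ x u) + ρ x u + u) = (ρ x (ρ x (u + ρ z u)) + ρ x (u + ρ z u) + (u + ρ z u)) +
        (ρ x (ρ x (u - ρ z u)) + ρ x (u - ρ z u) + (u - ρ z u)) := by
      simp only [map_add, map_sub]
      rw [two_smul]
      abel
    rw [this, h3, h4, add_zero]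
  have h6 := (smul_eq_zero.1 h5).resolve_left h2
  rw [add_assoc, add_eq_zero_iff_eq_neg] at h6
  rw [h6]; abel

end rep

end Cfsg.Agent.H4.JT
end

-- part: H4/JT/Fast
section
/-!
# Kernel-fast checks of relations in the double cover of the Hall-Janko group

`rv i` (`i < 315`) : the 315 roots up to units; `Wd L` : the product of the reflections with numbers in `L`;
`fchk L M = true` implies `Wd L = Wd M`, `fchkN L M = true` implies `Wd L = -Wd M` (computation modulo 29).
-/

set_option autoImplicit false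
set_option maxRecDepth 100000

namespace Cfsg.Agent.H4.JT.Fast

open Subgroup Cfsg.Spor Cfsg.Agent.J2.ZTau Cfsg.Agent.J2.Ico Cfsg.Agent.J2.Lattice Cfsg.Agent.J2.Refl
  Cfsg.Agent.J2.Group Cfsg.Agent.J2.Norm Cfsg.Agent.J2.ModPrime Cfsg.Agent.J2.ModCheck Cfsg.Agent.J2.Stab
  Cfsg.Agent.J2.SixGens

/-- the table of roots -/
def tT : ℕ := 0x9658ddc659699249248e396bc659699249247ac91da9e929924924a9c92ba9e9299249249237647ab9168e4b2b925ae47ab9168e4b2b7ab9169237648e4b2ba9d9329237648e4b2b7ab916925ae48e4b2ba9d932925ae48e4b2b923764a9d9328e4b2b925ae4a9d9328e4b2baea5a492376c8e492b75eca492376c8e492b92376caea5a48e492b925adcaea5a48e492b92376c75eca48e492b925adc75eca48e492baea5a4925adc8e492b75eca4925adc8e492b92376496471da9d932925ae496471da9d93296471d923764a9d9328e4b2b923764a9d93296471d925ae4a9d9328e4b2b925ae4a9d9329237648e4b2ba9d932925ae48e4b2ba9d9329249249658ddc659699658dd924924c659698e396b924924c659699249248e396bc659699249247ac91da9e9297ac91d924924a9e929a9c92b9249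24a9e929924924a9c92ba9e9298e49647ab91692592b9648e47ab91692592b923764aea7a492592b925ae4aea7a492592b7ab9168e496492592ba9d9328e496492592baea7a492376492592b75eaa492376492592baea7a4925ae492592b75eaa4925ae492592b7ab9169648e492592ba9d9329648e492592b92376475eaa492592b925ae475eaa492592b8e4964a9d93292592b9648e4a9d93292592b8e47647ab91e8e492b964ae47ab91e8e492b7ab91e8e47648e492ba9d92a8e47648e492b7ab91e964ae48e492ba9d92a964ae48e492b8e4764a9d92a8e492b964ae4a9d92a8e492b92376c7ab91e925923925adc7ab91e9259237ab91e92376c925923a9d92a92376c9259238e4764aea5a4925923964ae4aea5a4925923aea5a48e476492592375eca48e4764925923aea5a4964ae492592375eca4964ae49259238e476475eca4925923964ae475eca49259237ab91e925adc925923a9d92a925adc92592392376ca9d92a925923925adca9d92a92592392592479daa5aec92392392479daa5aec92379daa5925924aec923aab7a3925924aec92379daa5923924aec923aab7a3923924aec923925924aab7a3aec923923924aab7a3aec9239249257eb8d79249239249237eb8d7924923924925ae95e5924923924923ae95e5924923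7eb8d7924925924923ae95e592492592492375fc63924925924923a5d9719249259249237eb8d7924923924923ae95e592492392492375fc63924923924923a5d97192492392492392492575fc6392492392492375fc63924923924925a5d971924923924923a5d9719249238e496492391da9d9329648e492391da9d93292391d8e4964a9d93292592b8e4964a9d93292391d9648e4a9d93292592b9648e4a9d9328e496492592ba9d9329648e492592ba9d9328e476496491da9d92a964ae496491da9d92a96491d8e4764a9d92a8e492b8e4764a9d92a96491d964ae4a9d92a8e492b964ae4a9d92a8e47648e492ba9d92a964ae48e492ba9d92a96492472b964ade8ea8e492472b964ade8ea72b964964924ade8eab1d8e4964924ade8ea72b9648e4924ade8eab1d8e48e4924ade8ea964924b1d8e4ade8ea8e4924b1d8e4ade8ea924964924964a5d9719248e4924964a5d9719249649248e4a5d9719248e49248e4a5d9718e49648e4964ade8e99648e48e4964ade8e98e49649648e4ade8e99648e49648e4ade8e992b76476491eb258e391dae476491eb258e376491e92b764b258e3ae492a92b764b258e376491e91dae4b258e3ae492a91dae4b258e392b764ae492ab258e391dae4ae492ab258e376492496c91daa592aae492496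c91daa592a96c91d764924aa592a8dc92b764924aa592a96c91dae4924aa592a8dc92bae4924aa592a7649248dc92baa592aae49248dc92baa592a92b764723965ae492a91dae4723965ae492a72396592b764ae492ab258e392b764ae492a72396591dae4ae492ab258e391dae4ae492a92b764b258e3ae492a91dae4b258e3ae492a8e3964aeb7a492492b9658e4aeb7a492492baeb7a48e396492492b75daa48e396492492baeb7a49658e492492b75daa49658e492492b8e396475daa492492b9658e475daa492492b923964aab7a49259239258e4aab7a4925923aab7a492396492592379daa4923964925923aab7a49258e492592379daa49258e492592392396479daa49259239258e479daa492592392476476b91e8e5923924ae476b91e8e592376b91e9247648e5923add92a9247648e592376b91e924ae48e5923add92a924ae48e5923924764add92a8e5923924ae4add92a8e59239249647eb9169249239248e47eb916924923924964ae95a49249239248e4ae95a49249237eb916924964924923ae95a492496492492375fca4924964924923a5d9329249649249237eb9169248e4924923ae95a49248e492492375fca49248e4924923a5d9329248e492492392496475fca49249239248e475fca4924923924964a5d9329249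239248e4a5d9329249238e496476a91e8e49239648e476a91e8e492376a91e8e49648e4923ade92a8e49648e492376a91e9648e48e4923ade92a9648e48e49238e4964ade92a8e49239648e4ade92a8e4923924964924925a5d9329248e4924925a5d932924925924964a5d932924923924964a5d9329249259248e4a5d9329249239248e4a5d932924964924923a5d9329248e4924923a5d9328e4964964925ade92a9648e4964925ade92a9649258e4964ade92a8e49238e4964ade92a9649259648e4ade92a8e49239648e4ade92a8e49648e4923ade92a9648e48e4923ade92a924764963925add92a924ae4963925add92a963925924764add92a8e5923924764add92a963925924ae4add92a8e5923924ae4add92a9247648e5923add92a924ae48e5923add92a92496476b9169249239248e476b91692492376b916924964924923add93292496492492376b9169248e4924923add9329248e4924923924964add9329249239248e4add932924923964924964add925ae38e4924964add925ae3964add964924925ae38e476b964924925ae3964add8e4924925ae38e476b8e4924925ae39649248e476b925ae38e49248e476b925ae3924964924925add9329248e4924925add932924925924964add932924923924964add932924925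9248e4add9329249239248e4add932924964924923add9329248e4924923add93276492592b96592b924ae492392b96592b92492b96576492592b92491d8e376492592b92492b965ae492392b92491d8e3ae492392b92476492591d8e392b924ae492391d8e392b92491d92492b965ae492392b92492b965ae492392b96591d924ae492391d8e391d924ae492392b96592b924ae492391d8e392b924ae492391d92491d8e3ae492392b92491d8e3ae492391d92476492591d8e392b92476492591d8e376492591d92491d8e3ae492391d92491d8e376492592b92491d8e3ae492392b92491d8e391d924ae492391d8e392b924ae492391d8e392492576b96592492392492376b96592492376b965924925924923add8e392492592492376b965924923924923add8e3924923924923924925add8e3924923924923add8e3924923924925924925add8e3924923924925add8e3924925924923add8e3924923924923add8e39249659248e39249249248e59248e39249249249639248e39249249248e39248e39249249259248e4b249239249239248e4b249239248e4b249259249239249647249259249239248e4b2492392492392496472492392492392492592496472492392492392496472492392496492496492492591c8e492496492492591c9649248e492492591c8e49248e492492591c9249249249659248e39249249248e59248e39249659249249248e39248e59249249248e39249639249249248e39248e39249249248e39249249249639248e39249249248e39248e3924922924924924924924924924922924924924924924924924922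

/-- the code of a root -/
def tb (i : ℕ) : ℕ := Nat.mod (Nat.shiftRight tT (Nat.mul 72 i)) 4722366482869645213696

/-- the root -/
def rv (i : ℕ) : Vec := dec (tb i)

/-- check all numbers below a bound -/
def allB (f : ℕ → Bool) : ℕ → Bool
  | 0 => true
  | n + 1 => f n && allB f n

theorem allB_iff {f : ℕ → Bool} {n : ℕ} (h : allB f n = true) {i : ℕ} (hi : i < n) : f i = true := by
  induction n with
  | zero => omega
  | succ n ih =>
    have h1 : (f n && allB f n) = true := h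
    rw [Bool.and_eq_true] at h1
    rcases Nat.lt_succ_iff_lt_or_eq.1 hi with h2 | h2
    · exact ih h1.2 h2
    · rw [h2]; exact h1.1

private theorem hB_of (x : Icos) (h0 : (x.p0.a + x.p1.a + x.p3.b) % 2 = 0) (h1 : (x.p0.b + x.p1.b + x.p3.a + x.p3.b) % 2 = 0) (h2 : (x.p0.a + x.p1.a + x.p2.b) % 2 = 0) (h3 : (x.p0.b + x.p1.b + x.p2.a + x.p2.b) % 2 = 0) (h4 : (x.p0.a + x.p0.b + x.p1.a + x.p1.b + x.p3.a) % 2 = 0) (h5 : (x.p0.a + x.p0.b + x.p1.a + x.p1.b + x.p2.a) % 2 = 0) : hB x = true := by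
  have e : star hh = ⟨⟨-1, 0⟩, ⟨-1, 0⟩, ⟨1, -1⟩, ⟨-1, 1⟩⟩ := by decide
  show ev (x * star hh) = true
  rw [e]
  simp only [ev, mul_p0, mul_p1, mul_p2, mul_p3, add_a, add_b, sub_a, sub_b, mul_a, mul_b, S_a, S_b, Bool.and_eq_true, beq_iff_eq]
  omega

private theorem hsB_of (x : Icos) (h0 : (x.p1.a + x.p3.b) % 2 = 0) (h1 : (x.p1.b + x.p3.a + x.p3.b) % 2 = 0) (h2 : (x.p0.a + x.p2.b) % 2 = 0) (h3 : (x.p0.b + x.p2.a + x.p2.b) % 2 = 0) (h4 : (x.p0.a + x.p0.b + x.p1.a + x.p1.b + x.p2.a + x.p3.a) % 2 = 0) (h5 : (x.p0.a + x.p1.a + x.p2.b + x.p3.b) % 2 = 0) : hsB x = true := by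
  have e : hh = ⟨⟨2, -2⟩, ⟨1, 0⟩, ⟨-1, 1⟩, ⟨1, -1⟩⟩ := rfl
  show ev (x * hh) = true
  rw [e]
  simp only [ev, mul_p0, mul_p1, mul_p2, mul_p3, add_a, add_b, sub_a, sub_b, mul_a, mul_b, S_a, S_b, Bool.and_eq_true, beq_iff_eq]
  omega

/-- the test of a root on its digits -/
private noncomputable def rt (d0 d1 d2 d3 d4 d5 d6 d7 d8 d9 d10 d11 d12 d13 d14 d15 d16 d17 d18 d19 d20 d21 d22 d23 : ℕ) : Bool :=
  Bool.rec false (Bool.rec false (Bool.rec false (Bool.rec false (Bool.rec false (Bool.rec false (Bool.rec false (Bool.rec false (Bool.rec false (Bool.rec false (Bool.rec false (Bool.rec false (Bool.rec false (Bool.rec false (Bool.rec false (Bool.rec false (Bool.rec false (Bool.rec false (Bool.rec false (Bool.rec false (true)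
    (Nat.beq (Nat.add (Nat.add (Nat.add (Nat.add (Nat.add (Nat.add (Nat.add (Nat.add (Nat.add (Nat.add (Nat.add (Nat.add (Nat.add (Nat.add (Nat.add (Nat.add (Nat.add (Nat.add 288 (Nat.mul (Nat.mul 2 d0) d1)) (Nat.mul d0 d5)) (Nat.mul d0 d6)) (Nat.mul d1 d1)) (Nat.mul d1 d4)) (Nat.mul d1 d5)) (Nat.mul d1 d7)) (Nat.mul (Nat.mul 2 d2) d3)) (Nat.mul d2 d7)) (Nat.mul d3 d3)) (Nat.mul d3 d6)) (Nat.mul d3 d7)) (Nat.mul (Nat.mul 2 d4) d5)) (Nat.mul d5 d5)) (Nat.mul (Nat.mul 2 d6) d7)) (Nat.mul d7 d7)) (Nat.add (Nat.add (Nat.add (Nat.add (Nat.add (Nat.add (Nat.add (Nat.add (Nat.add (Nat.add (Nat.add (Nat.add (Nat.add (Nat.add (Nat.add (Nat.add 288 (Nat.mul (Nat.mul 2 d8) d9)) (Nat.mul d8 d13)) (Nat.mul d8 d14)) (Nat.mul d9 d9)) (Nat.mul d9 d12)) (Nat.mul d9 d13)) (Nat.mul d9 d15)) (Nat.mul (Nat.mul 2 d10) d11)) (Nat.mul d10 d15)) (Nat.mul d11 d11)) (Nat.mul d11 d14)) (Nat.mul d11 d15)) (Nat.mul (Nat.mul 2 d12) d13)) (Nat.mul d13 d13)) (Nat.mul (Nat.mul 2 d14)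 d15)) (Nat.mul d15 d15))) (Nat.add (Nat.add (Nat.add (Nat.add (Nat.add (Nat.add (Nat.add (Nat.add (Nat.add (Nat.add (Nat.add (Nat.add (Nat.add (Nat.add (Nat.add (Nat.add 288 (Nat.mul (Nat.mul 2 d16) d17)) (Nat.mul d16 d21)) (Nat.mul d16 d22)) (Nat.mul d17 d17)) (Nat.mul d17 d20)) (Nat.mul d17 d21)) (Nat.mul d17 d23)) (Nat.mul (Nat.mul 2 d18) d19)) (Nat.mul d18 d23)) (Nat.mul d19 d19)) (Nat.mul d19 d22)) (Nat.mul d19 d23)) (Nat.mul (Nat.mul 2 d20) d21)) (Nat.mul d21 d21)) (Nat.mul (Nat.mul 2 d22) d23)) (Nat.mul d23 d23))) (Nat.add (Nat.add (Nat.add (Nat.add (Nat.add (Nat.add (Nat.add (Nat.add (Nat.add (Nat.add (Nat.add (Nat.mul 16 d0) (Nat.mul 28 d1)) (Nat.mul 8 d2)) (Nat.mul d2 d4)) (Nat.mul 20 d3)) (Nat.mul d3 d5)) (Nat.mul 8 d4)) (Nat.mul 20 d5)) (Nat.mul 16 d6)) (Nat.mul 28 d7)) (Nat.add (Nat.add (Nat.add (Nat.add (Nat.add (Nat.add (Nat.add (Nat.add (Nat.add (Nat.mul 16 d8) (Nat.mul 28 d9)) (Nat.mul 8 d10)) (Nat.mul d10 d12)) (Nat.mul 20 d11)) (Nat.mul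 d11 d13)) (Nat.mul 8 d12)) (Nat.mul 20 d13)) (Nat.mul 16 d14)) (Nat.mul 28 d15))) (Nat.add (Nat.add (Nat.add (Nat.add (Nat.add (Nat.add (Nat.add (Nat.add (Nat.add (Nat.mul 16 d16) (Nat.mul 28 d17)) (Nat.mul 8 d18)) (Nat.mul d18 d20)) (Nat.mul 20 d19)) (Nat.mul d19 d21)) (Nat.mul 8 d20)) (Nat.mul 20 d21)) (Nat.mul 16 d22)) (Nat.mul 28 d23)))))
    (Nat.beq (Nat.add (Nat.add (Nat.add (Nat.add (Nat.add (Nat.add (Nat.add (Nat.add (Nat.add (Nat.add (Nat.add (Nat.add (Nat.add (Nat.add (Nat.add (Nat.add (Nat.add 192 (Nat.mul d0 d0)) (Nat.mul d0 d4)) (Nat.mul d0 d7)) (Nat.mul d1 d1)) (Nat.mul d1 d5)) (Nat.mul d1 d6)) (Nat.mul d2 d2)) (Nat.mul d2 d4)) (Nat.mul d2 d6)) (Nat.mul d3 d3)) (Nat.mul d3 d7)) (Nat.mul d4 d4)) (Nat.mul d5 d5)) (Nat.mul d6 d6)) (Nat.mul d7 d7)) (Nat.add (Nat.add (Nat.add (Nat.add (Nat.add (Nat.add (Nat.add (Nat.add (Nat.add (Nat.add (Nat.add (Nat.add (Nat.add (Nat.add (Nat.add 192 (Nat.mul d8 d8)) (Nat.mul d8 d12)) (Nat.mul d8 d15))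 (Nat.mul d9 d9)) (Nat.mul d9 d13)) (Nat.mul d9 d14)) (Nat.mul d10 d10)) (Nat.mul d10 d12)) (Nat.mul d10 d14)) (Nat.mul d11 d11)) (Nat.mul d11 d15)) (Nat.mul d12 d12)) (Nat.mul d13 d13)) (Nat.mul d14 d14)) (Nat.mul d15 d15))) (Nat.add (Nat.add (Nat.add (Nat.add (Nat.add (Nat.add (Nat.add (Nat.add (Nat.add (Nat.add (Nat.add (Nat.add (Nat.add (Nat.add (Nat.add 192 (Nat.mul d16 d16)) (Nat.mul d16 d20)) (Nat.mul d16 d23)) (Nat.mul d17 d17)) (Nat.mul d17 d21)) (Nat.mul d17 d22)) (Nat.mul d18 d18)) (Nat.mul d18 d20)) (Nat.mul d18 d22)) (Nat.mul d19 d19)) (Nat.mul d19 d23)) (Nat.mul d20 d20)) (Nat.mul d21 d21)) (Nat.mul d22 d22)) (Nat.mul d23 d23))) (Nat.add (Nat.add (Nat.add (Nat.add (Nat.add (Nat.add (Nat.add (Nat.add (Nat.add (Nat.add (Nat.add (Nat.add (Nat.add (Nat.mul 12 d0) (Nat.mul d0 d6)) (Nat.mul 16 d1)) (Nat.mul 12 d2)) (Nat.mul d2 d5)) (Nat.mul 8 d3)) (Nat.mul d3 d4)) (Nat.mul 12 d4)) (Nat.mul 8 d5)) (Nat.mul 12 d6)) (Nat.mul 16 d7)) (Nat.add (Nat.add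 (Nat.add (Nat.add (Nat.add (Nat.add (Nat.add (Nat.add (Nat.add (Nat.add (Nat.mul 12 d8) (Nat.mul d8 d14)) (Nat.mul 16 d9)) (Nat.mul 12 d10)) (Nat.mul d10 d13)) (Nat.mul 8 d11)) (Nat.mul d11 d12)) (Nat.mul 12 d12)) (Nat.mul 8 d13)) (Nat.mul 12 d14)) (Nat.mul 16 d15))) (Nat.add (Nat.add (Nat.add (Nat.add (Nat.add (Nat.add (Nat.add (Nat.add (Nat.add (Nat.add (Nat.mul 12 d16) (Nat.mul d16 d22)) (Nat.mul 16 d17)) (Nat.mul 12 d18)) (Nat.mul d18 d21)) (Nat.mul 8 d19)) (Nat.mul d19 d20)) (Nat.mul 12 d20)) (Nat.mul 8 d21)) (Nat.mul 12 d22)) (Nat.mul 16 d23))) 4)))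
    (Nat.beq (Nat.mod (Nat.add (Nat.add (Nat.add (Nat.add (Nat.add (Nat.add (Nat.add (Nat.add (Nat.add (Nat.add (Nat.add d0 d2) d5) d7) d8) d10) d13) d15) d16) d18) d21) d23) 2) 0))
    (Nat.beq (Nat.mod (Nat.add (Nat.add (Nat.add (Nat.add (Nat.add (Nat.add (Nat.add (Nat.add (Nat.add (Nat.add (Nat.add (Nat.add (Nat.add (Nat.add (Nat.add (Nat.add (Nat.add d0 d1) d2) d3) d4) d6) d8) d9) d10) d11) d12) d14) d16) d17) d18) d19) d20) d22) 2) 0))
    (Nat.beq (Nat.mod (Nat.add (Nat.add (Nat.add (Nat.add (Nat.add (Nat.add (Nat.add (Nat.add d1 d4) d5) d9) d12) d13) d17) d20) d21) 2) 0))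
    (Nat.beq (Nat.mod (Nat.add (Nat.add (Nat.add (Nat.add (Nat.add d0 d5) d8) d13) d16) d21) 2) 0))
    (Nat.beq (Nat.mod (Nat.add (Nat.add (Nat.add (Nat.add (Nat.add (Nat.add (Nat.add (Nat.add d3 d6) d7) d11) d14) d15) d19) d22) d23) 2) 0))
    (Nat.beq (Nat.mod (Nat.add (Nat.add (Nat.add (Nat.add (Nat.add d2 d7) d10) d15) d18) d23) 2) 0))
    (Nat.beq (Nat.mod (Nat.add (Nat.add (Nat.add (Nat.add (Nat.add (Nat.add (Nat.add (Nat.add (Nat.add d8 d9) d10) d11) d12) d16) d17) d18) d19) d20) 2) 0))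
    (Nat.beq (Nat.mod (Nat.add (Nat.add (Nat.add (Nat.add (Nat.add (Nat.add (Nat.add (Nat.add (Nat.add d8 d9) d10) d11) d14) d16) d17) d18) d19) d22) 2) 0))
    (Nat.beq (Nat.mod (Nat.add (Nat.add (Nat.add (Nat.add (Nat.add (Nat.add (Nat.add d9 d11) d12) d13) d17) d19) d20) d21) 2) 0))
    (Nat.beq (Nat.mod (Nat.add (Nat.add (Nat.add (Nat.add (Nat.add d8 d10) d13) d16) d18) d21) 2) 0))
    (Nat.beq (Nat.mod (Nat.add (Nat.add (Nat.add (Nat.add (Nat.add (Nat.add (Nat.add d9 d11) d14) d15) d17) d19) d22) d23) 2) 0))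
    (Nat.beq (Nat.mod (Nat.add (Nat.add (Nat.add (Nat.add (Nat.add d8 d10) d15) d16) d18) d23) 2) 0))
    (Nat.beq (Nat.mod (Nat.add (Nat.add (Nat.add (Nat.add (Nat.add (Nat.add (Nat.add (Nat.add (Nat.add d0 d1) d2) d3) d4) d8) d9) d10) d11) d12) 2) 0))
    (Nat.beq (Nat.mod (Nat.add (Nat.add (Nat.add (Nat.add (Nat.add (Nat.add (Nat.add (Nat.add (Nat.add d0 d1) d2) d3) d6) d8) d9) d10) d11) d14) 2) 0))
    (Nat.beq (Nat.mod (Nat.add (Nat.add (Nat.add (Nat.add (Nat.add (Nat.add (Nat.add d1 d3) d4) d5) d9) d11) d12) d13) 2) 0))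
    (Nat.beq (Nat.mod (Nat.add (Nat.add (Nat.add (Nat.add (Nat.add d0 d2) d5) d8) d10) d13) 2) 0))
    (Nat.beq (Nat.mod (Nat.add (Nat.add (Nat.add (Nat.add (Nat.add (Nat.add (Nat.add d1 d3) d6) d7) d9) d11) d14) d15) 2) 0))
    (Nat.beq (Nat.mod (Nat.add (Nat.add (Nat.add (Nat.add (Nat.add d0 d2) d7) d8) d10) d15) 2) 0)

private theorem modq (a : ℕ) : Nat.mod a 2 = a % 2 := rfl

private theorem and_sp {a b : Bool} (h : (Bool.rec false a b : Bool) = true) : a = true ∧ b = true := by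
  cases b
  · exact Bool.noConfusion h
  · exact ⟨h, rfl⟩

private theorem rt_spec {d0 d1 d2 d3 d4 d5 d6 d7 d8 d9 d10 d11 d12 d13 d14 d15 d16 d17 d18 d19 d20 d21 d22 d23 : ℕ} (h : rt d0 d1 d2 d3 d4 d5 d6 d7 d8 d9 d10 d11 d12 d13 d14 d15 d16 d17 d18 d19 d20 d21 d22 d23 = true) :
    rootB ⟨⟨⟨Int.subNatNat d0 4, Int.subNatNat d1 4⟩, ⟨Int.subNatNat d2 4, Int.subNatNat d3 4⟩, ⟨Int.subNatNat d4 4, Int.subNatNat d5 4⟩, ⟨Int.subNatNat d6 4, Int.subNatNat d7 4⟩⟩,
      ⟨⟨Int.subNatNat d8 4, Int.subNatNat d9 4⟩, ⟨Int.subNatNat d10 4, Int.subNatNat d11 4⟩, ⟨Int.subNatNat d12 4, Int.subNatNat d13 4⟩, ⟨Int.subNatNat d14 4, Int.subNatNat d15 4⟩⟩,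
      ⟨⟨Int.subNatNat d16 4, Int.subNatNat d17 4⟩, ⟨Int.subNatNat d18 4, Int.subNatNat d19 4⟩, ⟨Int.subNatNat d20 4, Int.subNatNat d21 4⟩, ⟨Int.subNatNat d22 4, Int.subNatNat d23 4⟩⟩⟩ = true := by
  obtain ⟨h, k0⟩ := and_sp h
  replace k0 := Nat.eq_of_beq_eq_true k0
  obtain ⟨h, k1⟩ := and_sp h
  replace k1 := Nat.eq_of_beq_eq_true k1
  obtain ⟨h, k2⟩ := and_sp h
  replace k2 := Nat.eq_of_beq_eq_true k2
  obtain ⟨h, k3⟩ := and_sp h
  replace k3 := Nat.eq_of_beq_eq_true k3
  obtain ⟨h, k4⟩ := and_sp h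
  replace k4 := Nat.eq_of_beq_eq_true k4
  obtain ⟨h, k5⟩ := and_sp h
  replace k5 := Nat.eq_of_beq_eq_true k5
  obtain ⟨h, k6⟩ := and_sp h
  replace k6 := Nat.eq_of_beq_eq_true k6
  obtain ⟨h, k7⟩ := and_sp h
  replace k7 := Nat.eq_of_beq_eq_true k7
  obtain ⟨h, k8⟩ := and_sp h
  replace k8 := Nat.eq_of_beq_eq_true k8
  obtain ⟨h, k9⟩ := and_sp h
  replace k9 := Nat.eq_of_beq_eq_true k9
  obtain ⟨h, k10⟩ := and_sp h
  replace k10 := Nat.eq_of_beq_eq_true k10
  obtain ⟨h, k11⟩ := and_sp h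
  replace k11 := Nat.eq_of_beq_eq_true k11
  obtain ⟨h, k12⟩ := and_sp h
  replace k12 := Nat.eq_of_beq_eq_true k12
  obtain ⟨h, k13⟩ := and_sp h
  replace k13 := Nat.eq_of_beq_eq_true k13
  obtain ⟨h, k14⟩ := and_sp h
  replace k14 := Nat.eq_of_beq_eq_true k14
  obtain ⟨h, k15⟩ := and_sp h
  replace k15 := Nat.eq_of_beq_eq_true k15
  obtain ⟨h, k16⟩ := and_sp h
  replace k16 := Nat.eq_of_beq_eq_true k16
  obtain ⟨h, k17⟩ := and_sp h
  replace k17 := Nat.eq_of_beq_eq_true k17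
  obtain ⟨h, k18⟩ := and_sp h
  replace k18 := Nat.eq_of_beq_eq_true k18
  obtain ⟨h, k19⟩ := and_sp h
  replace k19 := Nat.eq_of_beq_eq_true k19
  simp only [Nat.add_eq, Nat.mul_eq, modq] at k0 k1 k2 k3 k4 k5 k6 k7 k8 k9 k10 k11 k12 k13 k14 k15 k16 k17 k18 k19
  replace k18 := congrArg (fun n : ℕ => (n : ℤ)) k18
  replace k19 := congrArg (fun n : ℕ => (n : ℤ)) k19
  simp only [Nat.cast_add, Nat.cast_mul, Nat.cast_ofNat] at k18 k19
  show (hB _ && (hB _ && hsB _) && decide (_ = _)) = true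
  rw [hB_of, hB_of, hsB_of, Bool.true_and, Bool.true_and, Bool.true_and, decide_eq_true_iff]
  · ext
    · simp only [normZ, add_a, add_b, sub_a, sub_b, mul_a, mul_b, S_a, S_b, Int.subNatNat_eq_coe, Nat.cast_ofNat]
      linear_combination k18
    · simp only [normZ, add_a, add_b, sub_a, sub_b, mul_a, mul_b, S_a, S_b, Int.subNatNat_eq_coe, Nat.cast_ofNat]
      linear_combination k19
  · clear * - k12
    simp only [add_p0, add_p1, add_p2, add_p3, sub_p0, sub_p1, sub_p2, sub_p3, add_a, add_b, sub_a, sub_b, Int.subNatNat_eq_coe]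
    omega
  · clear * - k13
    simp only [add_p0, add_p1, add_p2, add_p3, sub_p0, sub_p1, sub_p2, sub_p3, add_a, add_b, sub_a, sub_b, Int.subNatNat_eq_coe]
    omega
  · clear * - k14
    simp only [add_p0, add_p1, add_p2, add_p3, sub_p0, sub_p1, sub_p2, sub_p3, add_a, add_b, sub_a, sub_b, Int.subNatNat_eq_coe]
    omega
  · clear * - k15
    simp only [add_p0, add_p1, add_p2, add_p3, sub_p0, sub_p1, sub_p2, sub_p3, add_a, add_b, sub_a, sub_b, Int.subNatNat_eq_coe]
    omega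
  · clear * - k16
    simp only [add_p0, add_p1, add_p2, add_p3, sub_p0, sub_p1, sub_p2, sub_p3, add_a, add_b, sub_a, sub_b, Int.subNatNat_eq_coe]
    omega
  · clear * - k17
    simp only [add_p0, add_p1, add_p2, add_p3, sub_p0, sub_p1, sub_p2, sub_p3, add_a, add_b, sub_a, sub_b, Int.subNatNat_eq_coe]
    omega
  · clear * - k6
    simp only [add_p0, add_p1, add_p2, add_p3, sub_p0, sub_p1, sub_p2, sub_p3, add_a, add_b, sub_a, sub_b, Int.subNatNat_eq_coe]
    omega
  · clear * - k7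
    simp only [add_p0, add_p1, add_p2, add_p3, sub_p0, sub_p1, sub_p2, sub_p3, add_a, add_b, sub_a, sub_b, Int.subNatNat_eq_coe]
    omega
  · clear * - k8
    simp only [add_p0, add_p1, add_p2, add_p3, sub_p0, sub_p1, sub_p2, sub_p3, add_a, add_b, sub_a, sub_b, Int.subNatNat_eq_coe]
    omega
  · clear * - k9
    simp only [add_p0, add_p1, add_p2, add_p3, sub_p0, sub_p1, sub_p2, sub_p3, add_a, add_b, sub_a, sub_b, Int.subNatNat_eq_coe]
    omega
  · clear * - k10
    simp only [add_p0, add_p1, add_p2, add_p3, sub_p0, sub_p1, sub_p2, sub_p3, add_a, add_b, sub_a, sub_b, Int.subNatNat_eq_coe]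
    omega
  · clear * - k11
    simp only [add_p0, add_p1, add_p2, add_p3, sub_p0, sub_p1, sub_p2, sub_p3, add_a, add_b, sub_a, sub_b, Int.subNatNat_eq_coe]
    omega
  · clear * - k0
    simp only [add_p0, add_p1, add_p2, add_p3, sub_p0, sub_p1, sub_p2, sub_p3, add_a, add_b, sub_a, sub_b, Int.subNatNat_eq_coe]
    omega
  · clear * - k1
    simp only [add_p0, add_p1, add_p2, add_p3, sub_p0, sub_p1, sub_p2, sub_p3, add_a, add_b, sub_a, sub_b, Int.subNatNat_eq_coe]
    omega
  · clear * - k2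
    simp only [add_p0, add_p1, add_p2, add_p3, sub_p0, sub_p1, sub_p2, sub_p3, add_a, add_b, sub_a, sub_b, Int.subNatNat_eq_coe]
    omega
  · clear * - k3
    simp only [add_p0, add_p1, add_p2, add_p3, sub_p0, sub_p1, sub_p2, sub_p3, add_a, add_b, sub_a, sub_b, Int.subNatNat_eq_coe]
    omega
  · clear * - k4
    simp only [add_p0, add_p1, add_p2, add_p3, sub_p0, sub_p1, sub_p2, sub_p3, add_a, add_b, sub_a, sub_b, Int.subNatNat_eq_coe]
    omega
  · clear * - k5
    simp only [add_p0, add_p1, add_p2, add_p3, sub_p0, sub_p1, sub_p2, sub_p3, add_a, add_b, sub_a, sub_b, Int.subNatNat_eq_coe]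
    omega

/-- evaluate first -/
private noncomputable def f1 (n : ℕ) (k : ℕ → Bool) : Bool := Nat.rec (k 0) (fun m _ => k m) (Nat.succ n)

/-- the test of a root on its code -/
private noncomputable def rtn (m : ℕ) : Bool :=
  f1 m fun n =>
  f1 ((n >>> (3 * 0)) % 8) fun d0 =>
  f1 ((n >>> (3 * (0 + 1))) % 8) fun d1 =>
  f1 ((n >>> (3 * (0 + 2))) % 8) fun d2 =>
  f1 ((n >>> (3 * (0 + 3))) % 8) fun d3 =>
  f1 ((n >>> (3 * (0 + 4))) % 8) fun d4 =>
  f1 ((n >>> (3 * (0 + 5))) % 8) fun d5 =>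
  f1 ((n >>> (3 * (0 + 6))) % 8) fun d6 =>
  f1 ((n >>> (3 * (0 + 7))) % 8) fun d7 =>
  f1 ((n >>> (3 * 8)) % 8) fun d8 =>
  f1 ((n >>> (3 * (8 + 1))) % 8) fun d9 =>
  f1 ((n >>> (3 * (8 + 2))) % 8) fun d10 =>
  f1 ((n >>> (3 * (8 + 3))) % 8) fun d11 =>
  f1 ((n >>> (3 * (8 + 4))) % 8) fun d12 =>
  f1 ((n >>> (3 * (8 + 5))) % 8) fun d13 =>
  f1 ((n >>> (3 * (8 + 6))) % 8) fun d14 =>
  f1 ((n >>> (3 * (8 + 7))) % 8) fun d15 =>
  f1 ((n >>> (3 * 16)) % 8) fun d16 =>
  f1 ((n >>> (3 * (16 + 1))) % 8) fun d17 =>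
  f1 ((n >>> (3 * (16 + 2))) % 8) fun d18 =>
  f1 ((n >>> (3 * (16 + 3))) % 8) fun d19 =>
  f1 ((n >>> (3 * (16 + 4))) % 8) fun d20 =>
  f1 ((n >>> (3 * (16 + 5))) % 8) fun d21 =>
  f1 ((n >>> (3 * (16 + 6))) % 8) fun d22 =>
  f1 ((n >>> (3 * (16 + 7))) % 8) fun d23 =>
  rt d0 d1 d2 d3 d4 d5 d6 d7 d8 d9 d10 d11 d12 d13 d14 d15 d16 d17 d18 d19 d20 d21 d22 d23

private theorem rt_all : allB (fun i => rtn (tb i)) 315 = true := by decide +kernel

private theorem allB_mono {f g : ℕ → Bool} (h : ∀ i, f i = true → g i = true) {n : ℕ} (hf : allB f n = true) :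
    allB g n = true := by
  induction n with
  | zero => rfl
  | succ n ih =>
    have h1 : (f n && allB f n) = true := hf
    rw [Bool.and_eq_true] at h1
    show (g n && allB g n) = true
    rw [h n h1.1, ih h1.2]
    rfl

theorem root_all : allB (fun i => rootB (rv i)) 315 = true := allB_mono (fun _ h => rt_spec h) rt_all

theorem root_rv {i : ℕ} (hi : i < 315) : IsRoot (rv i) := rootB_iff.1 (allB_iff root_all hi)

/-- the word -/
def wq (L : List ℕ) : List Vec := L.map rv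

/-- the element -/
noncomputable def Wd (L : List ℕ) : W := wd (wq L)

theorem Wd_append (L M : List ℕ) : Wd (L ++ M) = Wd L * Wd M := by
  unfold Wd wq; rw [List.map_append, wd_append]

theorem Wd_nil : Wd [] = 1 := wd_nil

/-- residues of a vector -/
structure QV where
  /-- coordinate -/
  x : Q4
  /-- coordinate -/
  y : Q4
  /-- coordinate -/
  z : Q4

/-- `q` represents `v` -/
def RelV (v : Vec) (q : QV) : Prop := Rel v.x q.x ∧ Rel v.y q.y ∧ Rel v.z q.z

/-- residues of a code -/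
def qv (n : ℕ) : QV := ⟨qdec n 0, qdec n 8, qdec n 16⟩

theorem rel_dec (n : ℕ) : RelV (dec n) (qv n) := ⟨rel_ic n 0, rel_ic n 8, rel_ic n 16⟩

/-- reduction -/
def qr (q : Q4) : Q4 := ⟨Nat.mod q.a 29, Nat.mod q.b 29, Nat.mod q.c 29, Nat.mod q.d 29⟩

theorem Rel.qr {x : Icos} {q : Q4} (h : Rel x q) : Rel x (qr q) := by
  obtain ⟨a0, a1, a2, a3⟩ := h
  refine ⟨?_, ?_, ?_, ?_⟩
  · rw [a0]; exact (cmod _).symm
  · rw [a1]; exact (cmod _).symm
  · rw [a2]; exact (cmod _).symm
  · rw [a3]; exact (cmod _).symm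

/-- one reflection with given half product -/
def stepH (h : Q4) (g v : QV) : QV := ⟨qr (qref h v.x g.x), qr (qref h v.y g.y), qr (qref h v.z g.z)⟩

/-- one reflection -/
def step (g v : QV) : QV := stepH (qr (qhip v.x v.y v.z g.x g.y g.z)) g v

/-- run a word -/
def runq (L : List ℕ) (v : QV) : QV := L.foldr (fun i v => step (qv (tb i)) v) v

theorem step_rel {g v : Vec} {a b : QV} (hg : IsRoot g) (hv : InLam v) (ha : RelV g a) (hb : RelV v b) :
    RelV (Cfsg.Agent.J2.Lattice.refl g v) (step a b) := by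
  have hh : Rel (hip v g) (qr (qhip b.x b.y b.z a.x a.y a.z)) := by
    apply Rel.qr
    refine Rel.half (hip_add_hip hv hg.1) ?_
    exact Rel.add (Rel.add (Rel.mul hb.1 (Rel.star ha.1)) (Rel.mul hb.2.1 (Rel.star ha.2.1)))
      (Rel.mul hb.2.2 (Rel.star ha.2.2))
  exact ⟨Rel.qr (Rel.sub hb.1 (Rel.mul hh ha.1)), Rel.qr (Rel.sub hb.2.1 (Rel.mul hh ha.2.1)),
    Rel.qr (Rel.sub hb.2.2 (Rel.mul hh ha.2.2))⟩

/-- all letters are numbers of roots -/
def okL (L : List ℕ) : Bool := L.all (fun i => Nat.ble i 314)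

theorem okL_cons {i : ℕ} {L : List ℕ} (h : okL (i :: L) = true) : i < 315 ∧ okL L = true := by
  unfold okL at h ⊢
  rw [List.all_cons, Bool.and_eq_true] at h
  exact ⟨Nat.lt_succ_of_le (Nat.le_of_ble_eq_true h.1), h.2⟩

theorem run_rel {L : List ℕ} (hL : okL L = true) {v : Vec} {b : QV} (hv : IsRoot v) (hb : RelV v b) :
    IsRoot (run (wq L) v) ∧ RelV (run (wq L) v) (runq L b) := by
  induction L with
  | nil => exact ⟨hv, hb⟩
  | cons i L ih =>
    obtain ⟨hi, hL'⟩ := okL_cons hL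
    obtain ⟨h1, h2⟩ := ih hL'
    exact ⟨isRoot_refl (root_rv hi) h1, step_rel (root_rv hi) h1.1 (rel_dec _) h2⟩

theorem rootsB_wq {L : List ℕ} (hL : okL L = true) : rootsB (wq L) = true := by
  induction L with
  | nil => rfl
  | cons i L ih =>
    obtain ⟨hi, hL'⟩ := okL_cons hL
    have h1 := ih hL'
    unfold rootsB at h1 ⊢
    unfold wq at h1 ⊢
    rw [List.map_cons, List.all_cons, h1, rootB_iff.2 (root_rv hi)]
    rfl

/-- equality of residues -/
def qveq (a b : QV) : Bool := qeq a.x b.x && (qeq a.y b.y && qeq a.z b.z)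

/-- negation -/
def qneg (a : QV) : QV := ⟨qsmul 28 a.x, qsmul 28 a.y, qsmul 28 a.z⟩

theorem eq_of_qveq {s t : Vec} {a b : QV} (hs : IsRoot s) (ht : IsRoot t) (ha : RelV s a) (hb : RelV t b)
    (h : qveq a b = true) : s = t := by
  unfold qveq at h
  rw [Bool.and_eq_true, Bool.and_eq_true] at h
  obtain ⟨h0, h1, h2⟩ := h
  have e0 := Rel.eq ha.1 hb.1 h0
  have e1 := Rel.eq ha.2.1 hb.2.1 h1
  have e2 := Rel.eq ha.2.2 hb.2.2 h2
  exact eq_of_rho hs ht e0.1 e0.2.1 e0.2.2.1 e0.2.2.2 e1.1 e1.2.1 e1.2.2.1 e1.2.2.2 e2.1 e2.2.1 e2.2.2.1 e2.2.2.2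

theorem isRoot_neg {v : Vec} (h : IsRoot v) : IsRoot (-v) := by
  have h1 := isRoot_smul (u := (-1 : Icos)) h (by decide)
  have h2 : (-1 : Icos) • v = -v := neg_one_smul Icos v
  rwa [h2] at h1

theorem rel_neg {v : Vec} {a : QV} (h : RelV v a) : RelV (-v) (qneg a) := by
  have key : ∀ {x : Icos} {q : Q4}, Rel x q → Rel (-x) (qsmul 28 q) := by
    intro x q hx
    obtain ⟨a0, a1, a2, a3⟩ := hx
    refine ⟨?_, ?_, ?_, ?_⟩ <;>
      simp only [neg_p0, neg_p1, neg_p2, neg_p3, map_neg, a0, a1, a2, a3, qsmul, cmul, c28] <;> ring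
  exact ⟨key h.1, key h.2.1, key h.2.2⟩

/-- code of `e1` -/
def k1 : ℕ := 2698495133068368693542
/-- code of `e2` -/
def k2 : ℕ := 2698495133068402247972
/-- code of `e3` -/
def k3 : ℕ := 2698495696018322114852

theorem dk1 : dec k1 = e1 := by decide +kernel
theorem dk2 : dec k2 = e2 := by decide +kernel
theorem dk3 : dec k3 = e3 := by decide +kernel

/-- compare two words on one vector -/
def cmp (L M : List ℕ) (v : QV) : Bool := qveq (runq L v) (runq M v)

/-- compare two words on one vector up to sign -/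
def cmpN (L M : List ℕ) (v : QV) : Bool := qveq (runq L v) (qneg (runq M v))

/-- the two words agree -/
def fchk (L M : List ℕ) : Bool :=
  okL L && (okL M && (cmp L M (qv k1) && (cmp L M (qv k2) && cmp L M (qv k3))))

/-- the two words agree up to sign -/
def fchkN (L M : List ℕ) : Bool :=
  okL L && (okL M && (cmpN L M (qv k1) && (cmpN L M (qv k2) && cmpN L M (qv k3))))

theorem cmp_eq {L M : List ℕ} (hL : okL L = true) (hM : okL M = true) {n : ℕ} (hn : IsRoot (dec n))
    (h : cmp L M (qv n) = true) : run (wq L) (dec n) = run (wq M) (dec n) := by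
  obtain ⟨a1, a2⟩ := run_rel hL hn (rel_dec n)
  obtain ⟨b1, b2⟩ := run_rel hM hn (rel_dec n)
  exact eq_of_qveq a1 b1 a2 b2 h

theorem cmpN_eq {L M : List ℕ} (hL : okL L = true) (hM : okL M = true) {n : ℕ} (hn : IsRoot (dec n))
    (h : cmpN L M (qv n) = true) : run (wq L) (dec n) = -run (wq M) (dec n) := by
  obtain ⟨a1, a2⟩ := run_rel hL hn (rel_dec n)
  obtain ⟨b1, b2⟩ := run_rel hM hn (rel_dec n)
  exact eq_of_qveq a1 (isRoot_neg b1) a2 (rel_neg b2) h

theorem chk_of_fchk {L M : List ℕ} (h : fchk L M = true) : Cfsg.Agent.J2.SixGens.chk (wq L) (wq M) = true := by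
  unfold fchk at h
  simp only [Bool.and_eq_true] at h
  obtain ⟨hL, hM, h1, h2, h3⟩ := h
  have e1' := cmp_eq hL hM (by rw [dk1]; exact root_e1) h1
  have e2' := cmp_eq hL hM (by rw [dk2]; exact root_e2) h2
  have e3' := cmp_eq hL hM (by rw [dk3]; exact root_e3) h3
  rw [dk1] at e1'; rw [dk2] at e2'; rw [dk3] at e3'
  unfold Cfsg.Agent.J2.SixGens.chk
  rw [rootsB_wq hL, rootsB_wq hM, Bool.true_and, Bool.true_and, decide_eq_true_iff]
  exact ⟨e1', e2', e3'⟩

theorem chkN_of_fchkN {L M : List ℕ} (h : fchkN L M = true) : Cfsg.Agent.J2.SixGens.chkN (wq L) (wq M) = true := by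
  unfold fchkN at h
  simp only [Bool.and_eq_true] at h
  obtain ⟨hL, hM, h1, h2, h3⟩ := h
  have e1' := cmpN_eq hL hM (by rw [dk1]; exact root_e1) h1
  have e2' := cmpN_eq hL hM (by rw [dk2]; exact root_e2) h2
  have e3' := cmpN_eq hL hM (by rw [dk3]; exact root_e3) h3
  rw [dk1] at e1'; rw [dk2] at e2'; rw [dk3] at e3'
  unfold Cfsg.Agent.J2.SixGens.chkN
  rw [rootsB_wq hL, rootsB_wq hM, Bool.true_and, Bool.true_and, decide_eq_true_iff]
  exact ⟨e1', e2', e3'⟩

theorem Wd_eq {L M : List ℕ} (h : fchk L M = true) : Wd L = Wd M := wd_eq (chk_of_fchk h)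

theorem Wd_eqN {L M : List ℕ} (h : fchkN L M = true) : Wd L = ⟨Equiv.neg Lam, neg_mem_W⟩ * Wd M :=
  wd_eqN (chkN_of_fchkN h)

end Cfsg.Agent.H4.JT.Fast
end

-- part: H4/JT/CertA
section
/-!
# Elements of the double cover of the Hall-Janko group: certificates

Powers, orders and conjugations of the 21 words of `J2Lift`.
-/

set_option autoImplicit false
set_option maxRecDepth 100000

namespace Cfsg.Agent.H4.JT.CA

open Subgroup Cfsg.Spor Cfsg.Agent.J2.ZTau Cfsg.Agent.J2.Ico Cfsg.Agent.J2.Lattice Cfsg.Agent.J2.Refl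
  Cfsg.Agent.J2.Group Cfsg.Agent.J2.Stab Cfsg.Agent.J2.SixGens
open Cfsg.Agent.H1.J2Lift Cfsg.Agent.H1.J2Words Cfsg.Agent.H4.JT.Fast

/-- the letters -/
def D2 (k : ℕ) : List ℕ := match k with
  | 0 => [0]
  | 1 => [125]
  | 2 => [141, 125]
  | 3 => [125, 141]
  | 4 => [1, 24, 267, 277]
  | 5 => [0, 260, 296, 239]
  | 6 => [239, 296, 260, 0]
  | 7 => [1, 313, 109, 108]
  | 8 => [163]
  | _ => [314]

theorem d0 : chk (let2 0) (wq (D2 0)) = true := chk_j2fq (by rw [rootsB_wq (L := D2 0) (by decide +kernel), Bool.and_true]; decide +kernel) (by decide +kernel)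
theorem d1 : chk (let2 1) (wq (D2 1)) = true := chk_j2fq (by rw [rootsB_wq (L := D2 1) (by decide +kernel), Bool.and_true]; decide +kernel) (by decide +kernel)
theorem d2 : chk (let2 2) (wq (D2 2)) = true := chk_j2fq (by rw [rootsB_wq (L := D2 2) (by decide +kernel), Bool.and_true]; decide +kernel) (by decide +kernel)
theorem d3 : chk (let2 3) (wq (D2 3)) = true := chk_j2fq (by rw [rootsB_wq (L := D2 3) (by decide +kernel), Bool.and_true]; decide +kernel) (by decide +kernel)
theorem d4 : chk (let2 4) (wq (D2 4)) = true := chk_j2fq (by rw [rootsB_wq (L := D2 4) (by decide +kernel), Bool.and_true]; decide +kernel) (by decide +kernel)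
theorem d5 : chk (let2 5) (wq (D2 5)) = true := chk_j2fq (by rw [rootsB_wq (L := D2 5) (by decide +kernel), Bool.and_true]; decide +kernel) (by decide +kernel)
theorem d6 : chk (let2 6) (wq (D2 6)) = true := chk_j2fq (by rw [rootsB_wq (L := D2 6) (by decide +kernel), Bool.and_true]; decide +kernel) (by decide +kernel)
theorem d7 : chk (let2 7) (wq (D2 7)) = true := chk_j2fq (by rw [rootsB_wq (L := D2 7) (by decide +kernel), Bool.and_true]; decide +kernel) (by decide +kernel)
theorem d8 : chk (let2 8) (wq (D2 8)) = true := chk_j2fq (by rw [rootsB_wq (L := D2 8) (by decide +kernel), Bool.and_true]; decide +kernel) (by decide +kernel)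
theorem d9 : chk (let2 9) (wq (D2 9)) = true := chk_j2fq (by rw [rootsB_wq (L := D2 9) (by decide +kernel), Bool.and_true]; decide +kernel) (by decide +kernel)

theorem let2_eq (k : ℕ) : wd (let2 k) = Wd (D2 k) := by
  match k with
  | 0 => exact wd_eq d0
  | 1 => exact wd_eq d1
  | 2 => exact wd_eq d2
  | 3 => exact wd_eq d3
  | 4 => exact wd_eq d4
  | 5 => exact wd_eq d5
  | 6 => exact wd_eq d6
  | 7 => exact wd_eq d7
  | 8 => exact wd_eq d8
  | (n + 9) => exact wd_eq d9

/-- conjugating word -/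
def cz : List ℕ := [1, 24, 268, 270]
end Cfsg.Agent.H4.JT.CA
end

-- part: H4/JT/FrameCert
section
/-!
# The frame of reflections in the double cover of the Hall-Janko group
-/

set_option autoImplicit false
set_option maxRecDepth 100000

namespace Cfsg.Agent.H4.JT.FC

open Subgroup Cfsg.Spor Cfsg.Agent.J2.ZTau Cfsg.Agent.J2.Ico Cfsg.Agent.J2.Lattice Cfsg.Agent.J2.Refl
  Cfsg.Agent.J2.Group Cfsg.Agent.J2.Stab Cfsg.Agent.J2.SixGens
open Cfsg.Agent.H1.J2Lift Cfsg.Agent.H4.JT.Fast Cfsg.Agent.H4.JT.CA Cfsg.Agent.H4.JT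

/-- a word -/
def zl : List ℕ := [0]
/-- a word -/
def sl : List ℕ := [265]
/-- a word -/
def vl : List ℕ := [6, 176, 22, 114]
/-- a word -/
def xl : List ℕ := [0, 120, 128, 226]
/-- a word -/
def wl : List ℕ := [1, 12, 29, 311]
/-- a word -/
def hl' : List ℕ := [1, 25, 12, 185]
/-- a word -/
def gl : List ℕ := [0, 47, 85, 162]
/-- a word -/
def gl' : List ℕ := [0, 74, 16, 132]
/-- a word -/
def yl : List ℕ := [11, 68, 55, 79]
/-- a word -/
def yl' : List ℕ := [1, 24, 268, 270]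
/-- the reflections -/
def Tl : Fin 5 → List ℕ := ![[313], [24], [2], [23], [312]]

theorem WN {L M : List ℕ} (h : fchkN L M = true) : Wd L = ng * Wd M := Wd_eqN h

theorem ng1 : Wd (vl ++ vl) = ng := by
  have h : Wd (vl ++ vl) = ng * Wd [] := WN (by decide +kernel)
  rw [h, Wd_nil, mul_one]

theorem l1 : fchk (D2 8) ([23] ++ sl ++ hl' ++ sl ++ hl' ++ sl ++ hl' ++ sl ++ hl' ++ sl ++ [23]) = true := by
  decide +kernel
theorem l2 : fchkN (D2 9) ([313] ++ zl) = true := by decide +kernel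
theorem l3 : fchkN (D2 7) (hl' ++ sl ++ [24] ++ [2] ++ sl ++ hl' ++ [23] ++ [313]) = true := by decide +kernel
theorem l4 : fchkN (D2 4) (sl ++ [24] ++ [312] ++ sl ++ [2] ++ [24]) = true := by decide +kernel

/-- the generators -/
def gset : Set W := {ng, Wd zl, Wd sl, Wd hl', Wd xl} ∪ Set.range (fun i => Wd (Tl i))

theorem gen_top : Subgroup.closure gset = ⊤ := by
  set S := Subgroup.closure gset with hS
  have cN : ng ∈ S := Subgroup.subset_closure (Or.inl (by simp))
  have cz : Wd zl ∈ S := Subgroup.subset_closure (Or.inl (by simp))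
  have cs : Wd sl ∈ S := Subgroup.subset_closure (Or.inl (by simp))
  have ch : Wd hl' ∈ S := Subgroup.subset_closure (Or.inl (by simp))
  have cT : ∀ i, Wd (Tl i) ∈ S := fun i => Subgroup.subset_closure (Or.inr ⟨i, rfl⟩)
  have c0 : Wd [313] ∈ S := cT 0
  have c1 : Wd [24] ∈ S := cT 1
  have c2 : Wd [2] ∈ S := cT 2
  have c3 : Wd [23] ∈ S := cT 3
  have c4 : Wd [312] ∈ S := cT 4
  have m0 : wd (letr 0) ∈ S := by
    have : wd (letr 0) = Wd zl := let2_eq 0
    rw [this]; exact cz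
  have m1 : wd (letr 1) ∈ S := by
    have : wd (letr 1) = Wd (D2 8) := let2_eq 8
    rw [this, Wd_eq l1]
    simp only [Wd_append]
    exact S.mul_mem (S.mul_mem (S.mul_mem (S.mul_mem (S.mul_mem (S.mul_mem (S.mul_mem (S.mul_mem (S.mul_mem
      (S.mul_mem c3 cs) ch) cs) ch) cs) ch) cs) ch) cs) c3
  have m2 : wd (letr 2) ∈ S := by
    have : wd (letr 2) = Wd (D2 9) := let2_eq 9
    rw [this, WN l2]
    simp only [Wd_append]
    exact S.mul_mem cN (S.mul_mem c0 cz)
  have m3 : wd (letr 3) ∈ S := by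
    have : wd (letr 3) = Wd (D2 7) := let2_eq 7
    rw [this, WN l3]
    simp only [Wd_append]
    exact S.mul_mem cN (S.mul_mem (S.mul_mem (S.mul_mem (S.mul_mem (S.mul_mem (S.mul_mem (S.mul_mem ch cs) c1) c2) cs)
      ch) c3) c0)
  have m4 : wd (letr 4) ∈ S := by
    have : wd (letr 4) = Wd (D2 4) := let2_eq 4
    rw [this, WN l4]
    simp only [Wd_append]
    exact S.mul_mem cN (S.mul_mem (S.mul_mem (S.mul_mem (S.mul_mem (S.mul_mem cs c1) c4) cs) c2) c1)
  have hm : ((S.map pr).comap psi.toMonoidHom) = ⊤ := by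
    apply Words.gen_eq
    intro k hk
    rw [Subgroup.mem_comap]
    have h1 : psi.toMonoidHom (Cfsg.Agent.J2.HundredGens.gw [k]) = J (letr k) := psi_letr k
    rw [h1]
    refine ⟨wd (letr k), ?_, rfl⟩
    interval_cases k
    · exact m0
    · exact m1
    · exact m2
    · exact m3
    · exact m4
  rw [eq_top_iff]
  intro a _
  obtain ⟨b, hb⟩ := psi.surjective (pr a)
  have h1 : b ∈ (S.map pr).comap psi.toMonoidHom := by rw [hm]; trivial
  rw [Subgroup.mem_comap] at h1
  obtain ⟨c, hc, hcb⟩ := h1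
  have h2 : pr (c⁻¹ * a) = 1 := by
    rw [map_mul, map_inv, hcb, ← hb]
    exact inv_mul_cancel _
  have h3 : a = c * (c⁻¹ * a) := by group
  rw [h3]
  refine S.mul_mem hc ?_
  rcases mem_center (pr_eq_one.1 h2) with h | h
  · rw [h]; exact S.one_mem
  · rw [h]; exact cN

theorem a1 : fchk (zl ++ zl) [] = true := by decide +kernel
theorem a2 : ∀ i, fchk (Tl i ++ Tl i) [] = true := by decide +kernel
theorem a3 : ∀ i, fchk (zl ++ Tl i) (Tl i ++ zl) = true := by decide +kernel
theorem a4 : ∀ i j, i ≠ j → fchkN (Tl i ++ Tl j) (zl ++ (Tl j ++ Tl i)) = true := by decide +kernel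
theorem a5 : fchkN (Tl 0 ++ Tl 1 ++ Tl 2 ++ Tl 3 ++ Tl 4) zl = true := by decide +kernel
theorem a6 : fchk (sl ++ sl) [] = true := by decide +kernel
theorem a7 : fchk (sl ++ zl) (Tl 0 ++ sl) = true := by decide +kernel
theorem a8 : fchk (sl ++ xl) (xl ++ sl) = true := by decide +kernel
theorem a9 : fchk (vl ++ zl) (zl ++ vl) = true := by decide +kernel
theorem a10 : ∀ i, fchk (vl ++ Tl i) (Tl (![1, 0, 3, 2, 4] i) ++ vl) = true := by decide +kernel
theorem a11 : fchk (xl ++ zl) (zl ++ xl) = true := by decide +kernel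
theorem a12 : ∀ i, fchk (xl ++ Tl i) (Tl (![0, 2, 3, 1, 4] i) ++ xl) = true := by decide +kernel
theorem a13 : fchk (xl ++ xl ++ xl) [] = true := by decide +kernel
theorem a14 : fchk (vl ++ xl ++ vl ++ xl) (xl ++ xl ++ vl) = true := by decide +kernel
theorem a15 : fchk (wl ++ gl) (gl ++ vl) = true := by decide +kernel
theorem a16 : fchk (gl ++ zl) (zl ++ gl) = true := by decide +kernel
theorem a17 : ∀ i, fchk (gl ++ Tl i) (Tl (![4, 0, 1, 2, 3] i) ++ gl) = true := by decide +kernel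
theorem a18 : fchkN (xl ++ xl) (wl ++ xl ++ wl) = true := by decide +kernel
theorem a19 : fchk (hl' ++ gl') (gl' ++ vl) = true := by decide +kernel
theorem a20 : fchk (gl' ++ zl) (zl ++ gl') = true := by decide +kernel
theorem a21 : ∀ i, fchk (gl' ++ Tl i) (Tl (![2, 4, 1, 0, 3] i) ++ gl') = true := by decide +kernel
theorem a22 : fchk (Tl 1 ++ Tl 2) (xl ++ (xl ++ ((sl ++ hl' ++ sl) ++ (xl ++ ((sl ++ hl' ++ sl) ++ (xl ++ (xl ++
    ((sl ++ hl' ++ sl) ++ (xl ++ (sl ++ Tl 1 ++ sl ++ (sl ++ Tl 3 ++ sl))))))))))) = true := by decide +kernel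
theorem a23 : fchk (Tl 1 ++ Tl 3) (xl ++ ((sl ++ hl' ++ sl) ++ (xl ++ (xl ++ ((sl ++ hl' ++ sl) ++ (xl ++
    ((sl ++ hl' ++ sl) ++ (xl ++ ((sl ++ hl' ++ sl) ++ (sl ++ Tl 4 ++ sl ++ (sl ++ Tl 1 ++ sl))))))))))) = true := by
  decide +kernel
theorem a24 : fchk (Tl 1 ++ sl ++ Tl 1) (sl ++ Tl 1 ++ sl) = true := by decide +kernel
theorem a25 : fchk (yl ++ zl) (zl ++ yl) = true := by decide +kernel
theorem a26 : ∀ i, fchk (yl ++ Tl i) (Tl (![0, 4, 3, 2, 1] i) ++ yl) = true := by decide +kernel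
theorem a27 : fchk (yl' ++ zl) (zl ++ yl') = true := by decide +kernel
theorem a28 : ∀ i, fchk (yl' ++ Tl i) (Tl (![0, 3, 4, 1, 2] i) ++ yl') = true := by decide +kernel

/-- **the frame** -/
theorem fd : FD (G := W) ng (Wd zl) (Wd sl) (Wd vl) (Wd xl) (Wd wl) (Wd hl') (Wd gl) (Wd gl') (Wd yl) (Wd yl')
    (fun i => Wd (Tl i)) where
  nn := ng_sq
  nc := ng_comm
  zz := by rw [← Wd_append, ← Wd_nil]; exact Wd_eq a1
  TT i := by rw [← Wd_append, ← Wd_nil]; exact Wd_eq (a2 i)
  zT i := by rw [← Wd_append, ← Wd_append]; exact Wd_eq (a3 i)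
  anti i j h := by simp only [← Wd_append]; exact WN (a4 i j h)
  prod := by simp only [← Wd_append]; exact WN a5
  ss := by rw [← Wd_append, ← Wd_nil]; exact Wd_eq a6
  sz := by rw [← Wd_append, ← Wd_append]; exact Wd_eq a7
  sx := by rw [← Wd_append, ← Wd_append]; exact Wd_eq a8
  vz := by rw [← Wd_append, ← Wd_append]; exact Wd_eq a9
  vT i := by rw [← Wd_append, ← Wd_append]; exact Wd_eq (a10 i)
  vv := by rw [← Wd_append]; exact ng1
  xz := by rw [← Wd_append, ← Wd_append]; exact Wd_eq a11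
  xT i := by rw [← Wd_append, ← Wd_append]; exact Wd_eq (a12 i)
  x3 := by rw [← Wd_append, ← Wd_append, ← Wd_nil]; exact Wd_eq a13
  vx := by simp only [← Wd_append]; exact Wd_eq a14
  wg := by rw [← Wd_append, ← Wd_append]; exact Wd_eq a15
  gz := by rw [← Wd_append, ← Wd_append]; exact Wd_eq a16
  gT i := by rw [← Wd_append, ← Wd_append]; exact Wd_eq (a17 i)
  xw := by simp only [← Wd_append]; exact WN a18
  hg := by rw [← Wd_append, ← Wd_append]; exact Wd_eq a19
  gz' := by rw [← Wd_append, ← Wd_append]; exact Wd_eq a20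
  gT' i := by rw [← Wd_append, ← Wd_append]; exact Wd_eq (a21 i)
  t12 := by simp only [← Wd_append]; exact Wd_eq a22
  t13 := by simp only [← Wd_append]; exact Wd_eq a23
  ts := by simp only [← Wd_append]; exact Wd_eq a24
  yz := by rw [← Wd_append, ← Wd_append]; exact Wd_eq a25
  yT i := by rw [← Wd_append, ← Wd_append]; exact Wd_eq (a26 i)
  yz' := by rw [← Wd_append, ← Wd_append]; exact Wd_eq a27
  yT' i := by rw [← Wd_append, ← Wd_append]; exact Wd_eq (a28 i)
  gen := gen_top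

end Cfsg.Agent.H4.JT.FC
end

-- part: H4/JT/FrameMinus
section
/-!
# Frames: the faithful case

`FD.minus` : degree at most 12 implies degree 6.
-/

set_option autoImplicit false

namespace Cfsg.Agent.H4.JT

open Module H1.EightA

variable {K : Type*} [Field K] {V : Type*} [AddCommGroup V] [Module K V]

/-- a common eigenvector -/
theorem common_eig [IsAlgClosed K] [FiniteDimensional K V] [Nontrivial V] (A B : End K V) (h : A * B = B * A) :
    ∃ u : V, u ≠ 0 ∧ ∃ a b : K, A u = a • u ∧ B u = b • u := by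
  obtain ⟨a, ha⟩ := End.exists_eigenvalue A
  have hinv : ∀ u ∈ A.eigenspace a, B u ∈ A.eigenspace a := by
    intro u hu
    rw [End.mem_eigenspace_iff] at hu ⊢
    have : A (B u) = B (A u) := DFunLike.congr_fun h u
    rw [this, hu, map_smul]
  have : Nontrivial (A.eigenspace a) := Submodule.nontrivial_iff_ne_bot.2 ha
  obtain ⟨b, hb⟩ := End.exists_eigenvalue (B.restrict hinv)
  obtain ⟨u, hu⟩ := hb.exists_hasEigenvector
  refine ⟨u, fun h0 => hu.2 (Subtype.ext h0), a, b, End.mem_eigenspace_iff.1 u.2, ?_⟩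
  exact congrArg Subtype.val (End.mem_eigenspace_iff.1 hu.1)

variable {G : Type*} [Group G] {ng z s v x w h g g' y1 y2 : G} {T : Fin 5 → G} [FiniteDimensional K V]

/-- **the faithful case** -/
theorem FD.minus [IsAlgClosed K] (D : FD ng z s v x w h g g' y1 y2 T) (ρ : G →* End K V) (h2 : (2 : K) ≠ 0)
    (hng : ρ ng = -1) (hfix : ∀ i u, ρ z u = -u → ρ (T i) u = u) (hn : finrank K V ≤ 12) (hpos : 0 < finrank K V)
    (hirr : ∀ X : Submodule K V, (∀ a, ∀ u ∈ X, ρ a u ∈ X) → X = ⊥ ∨ X = ⊤) : finrank K V = 6 := by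
  obtain ⟨d1, hle, d2⟩ := D.dims ρ h2 hng hfix
  have hU : finrank K (Ei (ρ z) false) ≤ 8 := by omega
  have hU4 : 4 ≤ finrank K (Ei (ρ z) false) := by
    rw [← finrank_top K (Ei (ρ z) false)]
    refine four_le_inv h2 (D.ac ρ hng) ?_ (fun _ _ _ => trivial)
    intro h0
    have h1 : finrank K (Ei (ρ z) false) = 0 := by
      rw [← finrank_top K (Ei (ρ z) false), h0, finrank_bot]
    omega
  have hq := D.quad ρ h2 hng hfix hU
  -- elementary relations
  have zs : z * s = s * T 0 := by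
    calc z * s = s * (s * z) * s := by rw [← mul_assoc, D.ss, one_mul]
      _ = s * T 0 * (s * s) := by rw [D.sz]; group
      _ = s * T 0 := by rw [D.ss, mul_one]
  have Ts : T 0 * s = s * z := D.sz.symm
  have sT : s * T 0 = z * s := zs.symm
  have ss : ∀ u, ρ s (ρ s u) = u := fun u => by rw [← rho_mul, D.ss, map_one]; rfl
  have TT : ∀ i u, ρ (T i) (ρ (T i) u) = u := fun i u => by rw [← rho_mul, D.TT, map_one]; rfl
  set L : Submodule K V := Ei (ρ (T 0)) true with hL
  have mL : ∀ {u}, u ∈ L ↔ ρ (T 0) u = -u := fun {u} => mEt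
  have zL : ∀ u ∈ L, ρ z u = u := fun u hu => mEf.1 (hle hu)
  have sL : ∀ u ∈ L, ρ z (ρ s u) = -(ρ s u) := by
    intro u hu
    rw [← rho_mul, zs, rho_mul, mL.1 hu, map_neg]
  have tsL : ∀ i, ∀ u ∈ L, ρ (T i) (ρ s u) = ρ s u := fun i u hu => hfix i _ (sL u hu)
  have rL : ∀ i, ∀ u ∈ L, ρ (s * T i * s) u = u := by
    intro i u hu
    rw [rho_mul, rho_mul, tsL i u hu, ss]
  have rL' : ∀ i, ∀ u ∈ L, ρ s (ρ (T i) (ρ s u)) = u := by
    intro i u hu
    rw [tsL i u hu, ss]
  -- the operators `H`, `X`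
  set H : End K V := ρ (s * h * s) with hH
  set X : End K V := ρ x with hX
  have HH : ∀ u, H (H u) = -u := by
    intro u
    rw [hH, ← rho_mul]
    have : s * h * s * (s * h * s) = ng := by
      calc s * h * s * (s * h * s) = s * h * (s * s) * h * s := by group
        _ = s * (h * h) * s := by rw [D.ss]; group
        _ = ng := by rw [D.hh, D.nc, mul_assoc, D.ss, mul_one]
    rw [this, hng]; rfl
  have HL : ∀ u ∈ L, H u ∈ L := by
    intro u hu
    rw [mL] at hu ⊢
    rw [hH, ← rho_mul]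
    have : T 0 * (s * h * s) = s * h * s * T 0 := by
      calc T 0 * (s * h * s) = (T 0 * s) * h * s := by group
        _ = s * (h * z) * s := by rw [Ts, D.hz]; group
        _ = s * h * (z * s) := by group
        _ = s * h * s * T 0 := by rw [zs]; group
    rw [this, rho_mul, hu, map_neg]
  have XL : ∀ u ∈ L, X u ∈ L := by
    intro u hu
    rw [mL] at hu ⊢
    rw [hX, ← rho_mul]
    have : T 0 * x = x * T 0 := (D.xT 0).symm
    rw [this, rho_mul, hu, map_neg]
  set Q : End K V := H * X + X * H + H with hQ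
  have hQu : ∀ u, Q u = H (X u) + X (H u) + H u := fun u => rfl
  have QL : ∀ u ∈ L, Q u ∈ L := fun u hu =>
    L.add_mem (L.add_mem (HL _ (XL _ hu)) (XL _ (HL _ hu))) (HL _ hu)
  have HQ : ∀ u, H (Q u) = Q (H u) := by
    intro u
    rw [hQu, hQu, map_add, map_add, HH, HH, map_neg]
    abel
  have hLpos : Nontrivial L := by
    rw [← Module.finrank_pos_iff (R := K)]
    omega
  obtain ⟨l, hl0, c, t, hHl, hQl⟩ := common_eig (H.restrict HL) (Q.restrict QL) (by
    apply LinearMap.ext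
    intro u
    apply Subtype.ext
    exact HQ u)
  have hHl' : H (l : V) = c • (l : V) := congrArg Subtype.val hHl
  have hQl' : Q (l : V) = t • (l : V) := congrArg Subtype.val hQl
  -- the subspace `Y`
  set Y : Submodule K V := Submodule.span K {(l : V), X l} with hY
  have lY : (l : V) ∈ Y := Submodule.subset_span (Set.mem_insert _ _)
  have xlY : X (l : V) ∈ Y := Submodule.subset_span (Set.mem_insert_of_mem _ rfl)
  have YL : Y ≤ L := by
    rw [hY, Submodule.span_le]
    rintro _ (rfl | rfl)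
    · exact l.2
    · exact XL _ l.2
  have HY : ∀ u ∈ Y, H u ∈ Y := by
    have : Y ≤ Y.comap H := by
      rw [hY, Submodule.span_le]
      rintro _ (rfl | rfl)
      · change H (l : V) ∈ Y
        rw [hHl']
        exact Y.smul_mem _ lY
      · change H (X (l : V)) ∈ Y
        have e1 : H (X (l : V)) = t • (l : V) - c • X (l : V) - c • (l : V) := by
          rw [← hQl', hQu, hHl', map_smul]
          abel
        rw [e1]
        exact Y.sub_mem (Y.sub_mem (Y.smul_mem _ lY) (Y.smul_mem _ xlY)) (Y.smul_mem _ lY)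
    exact this
  have XY : ∀ u ∈ Y, X u ∈ Y := by
    have : Y ≤ Y.comap X := by
      rw [hY, Submodule.span_le]
      rintro _ (rfl | rfl)
      · exact xlY
      · change X (X (l : V)) ∈ Y
        rw [hX, hq]
        exact Y.sub_mem (Y.neg_mem xlY) lY
    exact this
  have Y12 : ∀ u ∈ Y, ρ (T 1) (ρ (T 2) u) ∈ Y := by
    intro u hu
    rw [← rho_mul, D.t12]
    simp only [rho_mul]
    rw [rL' 3 u (YL hu), rL' 1 u (YL hu)]
    have e : ∀ u, ρ s (ρ h (ρ s u)) = H u := fun u => by rw [hH, rho_mul, rho_mul]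
    simp only [e]
    exact XY _ (XY _ (HY _ (XY _ (HY _ (XY _ (XY _ (HY _ (XY _ hu))))))))
  have Y13 : ∀ u ∈ Y, ρ (T 1) (ρ (T 3) u) ∈ Y := by
    intro u hu
    rw [← rho_mul, D.t13]
    simp only [rho_mul]
    rw [rL' 1 u (YL hu), rL' 4 u (YL hu)]
    have e : ∀ u, ρ s (ρ h (ρ s u)) = H u := fun u => by rw [hH, rho_mul, rho_mul]
    simp only [e]
    exact XY _ (HY _ (XY _ (XY _ (HY _ (XY _ (HY _ (XY _ (HY _ hu))))))))
  -- the subspace `W`
  set W : Submodule K V := Y ⊔ Y.map (ρ (T 1)) ⊔ Y.map (ρ s) with hW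
  have w1 : ∀ u ∈ Y, u ∈ W := fun u hu => Submodule.mem_sup_left (Submodule.mem_sup_left hu)
  have w2 : ∀ u ∈ Y, ρ (T 1) u ∈ W := fun u hu => Submodule.mem_sup_left (Submodule.mem_sup_right ⟨u, hu, rfl⟩)
  have w3 : ∀ u ∈ Y, ρ s u ∈ W := fun u hu => Submodule.mem_sup_right ⟨u, hu, rfl⟩
  have key : ∀ a : G, (∀ u ∈ Y, ρ a u ∈ W) → (∀ u ∈ Y, ρ a (ρ (T 1) u) ∈ W) → (∀ u ∈ Y, ρ a (ρ s u) ∈ W) →
      ∀ u ∈ W, ρ a u ∈ W := by
    intro a a1 a2 a3
    have : W ≤ W.comap (ρ a) := by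
      rw [hW]
      refine sup_le (sup_le ?_ ?_) ?_
      · exact fun u hu => a1 u hu
      · rintro _ ⟨u, hu, rfl⟩
        exact a2 u hu
      · rintro _ ⟨u, hu, rfl⟩
        exact a3 u hu
    exact this
  have zY1 : ∀ u ∈ Y, ρ z (ρ (T 1) u) = ρ (T 1) u := by
    intro u hu
    rw [← rho_mul, D.zT, rho_mul, zL u (YL hu)]
  -- anticommutation on the fixed space of `z`
  have anti : ∀ i j, i ≠ j → ∀ u, ρ z u = u → ρ (T i) (ρ (T j) u) = -(ρ (T j) (ρ (T i) u)) := by
    intro i j hij u hu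
    rw [← rho_mul, D.anti i j hij, rho_mul, hng]
    change -(ρ (z * (T j * T i)) u) = _
    rw [show z * (T j * T i) = T j * (T i * z) by rw [← mul_assoc, D.zT, mul_assoc, D.zT], rho_mul, rho_mul, hu]
  have iz : ∀ u ∈ W, ρ z u ∈ W := by
    apply key
    · intro u hu; rw [zL u (YL hu)]; exact w1 u hu
    · intro u hu; rw [zY1 u hu]; exact w2 u hu
    · intro u hu; rw [sL u (YL hu)]; exact W.neg_mem (w3 u hu)
  have ing : ∀ u ∈ W, ρ ng u ∈ W := by
    intro u hu
    rw [hng]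
    exact W.neg_mem hu
  have i0 : ∀ u ∈ W, ρ (T 0) u ∈ W := by
    apply key
    · intro u hu; rw [mL.1 (YL hu)]; exact W.neg_mem (w1 u hu)
    · intro u hu
      rw [anti 0 1 (by decide) u (zL u (YL hu)), mL.1 (YL hu), map_neg, neg_neg]
      exact w2 u hu
    · intro u hu; rw [tsL 0 u (YL hu)]; exact w3 u hu
  have i1 : ∀ u ∈ W, ρ (T 1) u ∈ W := by
    apply key
    · exact w2
    · intro u hu; rw [TT]; exact w1 u hu
    · intro u hu; rw [tsL 1 u (YL hu)]; exact w3 u hu
  have i2 : ∀ u ∈ W, ρ (T 2) u ∈ W := by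
    apply key
    · intro u hu
      rw [← TT 1 (ρ (T 2) u)]
      exact w2 _ (Y12 u hu)
    · intro u hu
      rw [anti 2 1 (by decide) u (zL u (YL hu))]
      exact W.neg_mem (w1 _ (Y12 u hu))
    · intro u hu; rw [tsL 2 u (YL hu)]; exact w3 u hu
  have i3 : ∀ u ∈ W, ρ (T 3) u ∈ W := by
    apply key
    · intro u hu
      rw [← TT 1 (ρ (T 3) u)]
      exact w2 _ (Y13 u hu)
    · intro u hu
      rw [anti 3 1 (by decide) u (zL u (YL hu))]
      exact W.neg_mem (w1 _ (Y13 u hu))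
    · intro u hu; rw [tsL 3 u (YL hu)]; exact w3 u hu
  have i4 : ∀ u ∈ W, ρ (T 4) u ∈ W := by
    intro u hu
    have e : T 4 = T 3 * (T 2 * (T 1 * (T 0 * (ng * z)))) := by
      have hi : ∀ i, (T i)⁻¹ = T i := fun i => inv_eq_of_mul_eq_one_left (D.TT i)
      calc T 4 = (T 3)⁻¹ * ((T 2)⁻¹ * ((T 1)⁻¹ * ((T 0)⁻¹ * (T 0 * T 1 * T 2 * T 3 * T 4)))) := by group
        _ = T 3 * (T 2 * (T 1 * (T 0 * (ng * z)))) := by rw [D.prod, hi, hi, hi, hi]
    rw [e]
    simp only [rho_mul]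
    exact i3 _ (i2 _ (i1 _ (i0 _ (ing _ (iz _ hu)))))
  have is : ∀ u ∈ W, ρ s u ∈ W := by
    apply key
    · exact w3
    · intro u hu
      have e : s * T 1 = T 1 * (s * T 1 * s) := by
        rw [← D.ts]
        calc s * T 1 = (T 1 * T 1) * s * T 1 := by rw [D.TT, one_mul]
          _ = T 1 * (T 1 * s * T 1) := by group
      rw [← rho_mul, e, rho_mul, rL 1 u (YL hu)]
      exact w2 u hu
    · intro u hu; rw [ss]; exact w1 u hu
  have ih : ∀ u ∈ W, ρ h u ∈ W := by
    have hform : ∀ u ∈ W, ρ z u = u → ρ h u ∈ W := by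
      intro u hu hz
      rw [D.conj_eq ρ h2 hng hU D.hg D.gz' D.gT' hz]
      exact W.smul_mem _ (W.sub_mem (i2 _ (W.sub_mem (i1 _ hu) (i0 _ hu))) (i4 _ (W.sub_mem (i1 _ hu) (i0 _ hu))))
    apply key
    · intro u hu
      exact hform u (w1 u hu) (zL u (YL hu))
    · intro u hu
      exact hform _ (w2 u hu) (zY1 u hu)
    · intro u hu
      have e : h * s = s * (s * h * s) := by
        calc h * s = (s * s) * h * s := by rw [D.ss, one_mul]
          _ = s * (s * h * s) := by group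
      rw [← rho_mul, e, rho_mul]
      exact w3 _ (HY u hu)
  have ix : ∀ u ∈ W, ρ x u ∈ W := by
    apply key
    · intro u hu
      exact w1 _ (XY u hu)
    · intro u hu
      have e : x * T 1 = T 2 * x := D.xT 1
      rw [← rho_mul, e, rho_mul]
      exact i2 _ (w1 _ (XY u hu))
    · intro u hu
      rw [← rho_mul, ← D.sx, rho_mul]
      exact w3 _ (XY u hu)
  have hall : ∀ a : G, ∀ u ∈ W, ρ a u ∈ W := by
    intro a
    have ha : a ∈ Subgroup.closure ({ng, z, s, h, x} ∪ Set.range T) := by rw [D.gen]; trivial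
    induction ha using Subgroup.closure_induction with
    | mem a ha =>
      rcases ha with ha | ⟨i, rfl⟩
      · rcases ha with rfl | rfl | rfl | rfl | rfl
        · exact ing
        · exact iz
        · exact is
        · exact ih
        · exact ix
      · fin_cases i
        · exact i0
        · exact i1
        · exact i2
        · exact i3
        · exact i4
    | one =>
      intro u hu
      rw [map_one]; exact hu
    | mul a b _ _ ha hb =>
      intro u hu
      rw [rho_mul]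
      exact ha _ (hb _ hu)
    | inv a _ ha =>
      intro u hu
      have hinj : Function.Injective ((ρ a).restrict ha) := fun u v huv =>
        Subtype.ext (rho_injective ρ a (congrArg Subtype.val huv))
      obtain ⟨v, hv⟩ := (LinearMap.injective_iff_surjective.1 hinj) ⟨u, hu⟩
      have hv' : ρ a (v : V) = u := congrArg Subtype.val hv
      rw [← hv', ← rho_mul, inv_mul_cancel, map_one]
      exact v.2
  have hWtop : W = ⊤ := by
    refine (hirr W hall).resolve_left fun h0 => hl0 ?_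
    have h1 := w1 _ lY
    rw [h0, Submodule.mem_bot] at h1
    exact Subtype.ext h1
  have hY2 : finrank K Y ≤ 2 := by
    classical
    have h1 := finrank_span_finset_le_card (R := K) ({(l : V), X l} : Finset V)
    rw [Finset.coe_pair] at h1
    exact h1.trans (Finset.card_le_two)
  have h3 : finrank K W ≤ 6 := by
    have e1 := Submodule.finrank_add_le_finrank_add_finrank (Y ⊔ Y.map (ρ (T 1))) (Y.map (ρ s))
    have e2 := Submodule.finrank_add_le_finrank_add_finrank Y (Y.map (ρ (T 1)))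
    have e3 := Submodule.finrank_map_le (ρ (T 1)) Y
    have e4 := Submodule.finrank_map_le (ρ s) Y
    rw [hW]
    omega
  rw [hWtop, finrank_top] at h3
  omega

end Cfsg.Agent.H4.JT
end

-- part: H4/JT/FramePlus
section
/-!
# Frames: the case where the central involution acts trivially

`FD.plus` : the degree is at least 13.
-/

set_option autoImplicit false

namespace Cfsg.Agent.H4.JT

open Module H1.EightA

variable {K : Type*} [Field K] {V : Type*} [AddCommGroup V] [Module K V] [FiniteDimensional K V]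

theorem exists_sign (h2 : (2 : K) ≠ 0) {S : Submodule K V} (hS : S ≠ ⊥) {A : End K V} (hA : ∀ u, A (A u) = u)
    (hinv : ∀ u ∈ S, A u ∈ S) : ∃ a : Bool, S ⊓ Ei A a ≠ ⊥ := by
  by_contra hcon
  push Not at hcon
  have h1 := split h2 S hA hinv
  rw [hcon false, hcon true, finrank_bot] at h1
  exact hS (Submodule.finrank_eq_zero.1 h1)

omit [FiniteDimensional K V] in
theorem sg_sq (a : Bool) : sg K a * sg K a = 1 := by cases a <;> simp [sg]

omit [FiniteDimensional K V] in
theorem sg_ne_zero (a : Bool) : sg K a ≠ 0 := by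
  intro h
  have := sg_sq (K := K) a
  rw [h, mul_zero] at this
  exact zero_ne_one this

omit [FiniteDimensional K V] in
theorem sg_not (a : Bool) : sg K (!a) = -sg K a := by cases a <;> simp [sg]

/-- the four permutations -/
def sgm (m : Fin 4) : Fin 5 → Fin 5 := match m with
  | 0 => id
  | 1 => ![0, 4, 3, 2, 1]
  | 2 => ![0, 3, 4, 1, 2]
  | 3 => ![0, 2, 1, 4, 3]

theorem sgm_ok : ∀ k : Fin 5, k ≠ 0 → ∀ m m' : Fin 4, m' ≠ m → ∃ j : Fin 5, j ≠ 0 ∧ j ≠ k ∧ sgm m j = sgm m' k := by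
  decide

theorem sign_ok : ∀ a b c : Bool, ∃ k : Fin 5, k ≠ 0 ∧ ∀ j : Fin 5, j ≠ 0 → j ≠ k →
    (![true, a, b, c, !(xor a (xor b c))] : Fin 5 → Bool) j = !(![true, a, b, c, !(xor a (xor b c))] : Fin 5 → Bool) k := by
  decide

theorem sign_ok' : ∀ a b c : Bool, ∃ j : Fin 5, (![true, a, b, c, !(xor a (xor b c))] : Fin 5 → Bool) j = false := by
  decide

theorem gam_ok : ∀ j : Fin 5, (![4, 0, 1, 2, 3] : Fin 5 → Fin 5)^[(j : ℕ)] j = 0 := by decide

variable {G : Type*} [Group G] {ng z s v x w h g g' y1 y2 : G} {T : Fin 5 → G}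

/-- **the case `ng ↦ 1`** -/
theorem FD.plus (D : FD ng z s v x w h g g' y1 y2 T) (ρ : G →* End K V) (h2 : (2 : K) ≠ 0)
    (hng : ρ ng = 1) (hz : ρ z ≠ 1) : 13 ≤ finrank K V := by
  have hzz : ∀ u, ρ z (ρ z u) = u := fun u => by rw [← rho_mul, D.zz, map_one]; rfl
  have TT : ∀ i u, ρ (T i) (ρ (T i) u) = u := fun i u => by rw [← rho_mul, D.TT, map_one]; rfl
  have zT : ∀ i u, ρ z (ρ (T i) u) = ρ (T i) (ρ z u) := fun i u => by rw [← rho_mul, D.zT, rho_mul]
  have anti : ∀ i j, i ≠ j → ∀ u, ρ (T i) (ρ (T j) u) = ρ (T j) (ρ (T i) (ρ z u)) := by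
    intro i j hij u
    rw [← rho_mul, D.anti i j hij, rho_mul, hng]
    change ρ (z * (T j * T i)) u = _
    rw [show z * (T j * T i) = T j * (T i * z) by rw [← mul_assoc, D.zT, mul_assoc, D.zT], rho_mul, rho_mul]
  have zs : z * s = s * T 0 := by
    calc z * s = s * (s * z) * s := by rw [← mul_assoc, D.ss, one_mul]
      _ = s * T 0 * (s * s) := by rw [D.sz]; group
      _ = s * T 0 := by rw [D.ss, mul_one]
  have hEq : finrank K (Ei (ρ (T 0)) true) = finrank K (Ei (ρ z) true) := by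
    apply le_antisymm
    · apply finrank_le_of_map (ρ s) (rho_injective ρ s)
      intro u hu
      rw [mEt] at hu ⊢
      rw [← rho_mul, zs, rho_mul, hu, map_neg]
    · apply finrank_le_of_map (ρ s) (rho_injective ρ s)
      intro u hu
      rw [mEt] at hu ⊢
      rw [← rho_mul, ← D.sz, rho_mul, hu, map_neg]
  have s1 := split h2 (⊤ : Submodule K V) (T := ρ z) hzz (fun _ _ => trivial)
  rw [top_inf_eq, top_inf_eq, finrank_top] at s1
  have s2 := split h2 (Ei (ρ z) true) (T := ρ (T 0)) (TT 0) (fun u hu => by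
    rw [mEt] at hu ⊢
    rw [zT, hu, map_neg])
  have s3 := split h2 (Ei (ρ z) false) (T := ρ (T 0)) (TT 0) (fun u hu => by
    rw [mEf] at hu ⊢
    rw [zT, hu])
  have s4 := split h2 (Ei (ρ (T 0)) true) (T := ρ z) hzz (fun u hu => by
    rw [mEt] at hu ⊢
    rw [← zT, hu, map_neg])
  rw [inf_comm (Ei (ρ (T 0)) true) (Ei (ρ z) false), inf_comm (Ei (ρ (T 0)) true) (Ei (ρ z) true)] at s4
  have e1 : finrank K (Ei (ρ z) true ⊓ Ei (ρ (T 0)) false : Submodule K V) ≤
      finrank K (Ei (ρ z) true ⊓ Ei (ρ (T 0)) true : Submodule K V) := by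
    apply finrank_le_of_map (ρ (T 1)) (rho_injective ρ _)
    rintro u ⟨h1, h3⟩
    have h1' := mEt.1 h1
    have h3' := mEf.1 h3
    refine ⟨mEt.2 ?_, mEt.2 ?_⟩
    · rw [zT, h1', map_neg]
    · rw [anti 0 1 (by decide), h1', map_neg, map_neg, h3']
  have e2 : finrank K (Ei (ρ z) true ⊓ Ei (ρ (T 0)) true : Submodule K V) ≤
      finrank K (Ei (ρ z) true ⊓ Ei (ρ (T 0)) false : Submodule K V) := by
    apply finrank_le_of_map (ρ (T 1)) (rho_injective ρ _)
    rintro u ⟨h1, h3⟩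
    have h1' := mEt.1 h1
    have h3' := mEt.1 h3
    refine ⟨mEt.2 ?_, mEf.2 ?_⟩
    · rw [zT, h1', map_neg]
    · rw [anti 0 1 (by decide), h1', map_neg, map_neg, h3', map_neg, neg_neg]
  have hpos : finrank K (Ei (ρ z) true) ≠ 0 := by
    intro h0
    apply hz
    have h1 := Submodule.finrank_eq_zero.1 h0
    apply LinearMap.ext
    intro u
    have h3 : u - ρ z u ∈ Ei (ρ z) true := by
      rw [mEt, map_sub, hzz]; abel
    rw [h1, Submodule.mem_bot, sub_eq_zero] at h3
    exact h3.symm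
  -- the space `C0`
  set C0 : Submodule K V := Ei (ρ z) false ⊓ Ei (ρ (T 0)) true with hC0
  have hC0pos : C0 ≠ ⊥ := by
    intro h0
    rw [h0, finrank_bot] at s3 s4
    omega
  have mC : ∀ {u}, u ∈ C0 ↔ ρ z u = u ∧ ρ (T 0) u = -u := by
    intro u
    rw [hC0, Submodule.mem_inf, mEf, mEt]
  have comm : ∀ i j, ∀ u, ρ z u = u → ρ (T i) (ρ (T j) u) = ρ (T j) (ρ (T i) u) := by
    intro i j u hu
    by_cases hij : i = j
    · rw [hij]
    · rw [anti i j hij, hu]
  obtain ⟨a, ha⟩ := exists_sign h2 hC0pos (TT 1) (fun u hu => by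
    rw [mC] at hu ⊢
    exact ⟨by rw [zT, hu.1], by rw [comm 0 1 u hu.1, hu.2, map_neg]⟩)
  obtain ⟨b, hb⟩ := exists_sign h2 ha (TT 2) (by
    rintro u ⟨h1, h3⟩
    have h1' := mC.1 h1
    have h3' := mem_Ei.1 h3
    refine ⟨mC.2 ⟨by rw [zT, h1'.1], by rw [comm 0 2 u h1'.1, h1'.2, map_neg]⟩, mem_Ei.2 ?_⟩
    rw [comm 1 2 u h1'.1, h3', map_smul])
  obtain ⟨c, hc⟩ := exists_sign h2 hb (TT 3) (by
    rintro u ⟨⟨h1, h3⟩, h4⟩
    have h1' := mC.1 h1
    have h3' := mem_Ei.1 h3
    have h4' := mem_Ei.1 h4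
    refine ⟨⟨mC.2 ⟨by rw [zT, h1'.1], by rw [comm 0 3 u h1'.1, h1'.2, map_neg]⟩, mem_Ei.2 ?_⟩, mem_Ei.2 ?_⟩
    · rw [comm 1 3 u h1'.1, h3', map_smul]
    · rw [comm 2 3 u h1'.1, h4', map_smul])
  obtain ⟨u, hu, hu0⟩ := Submodule.exists_mem_ne_zero_of_ne_bot hc
  obtain ⟨⟨⟨hu1, hu2⟩, hu3⟩, hu4⟩ := hu
  have hu1' := mC.1 hu1
  have hu2' := mem_Ei.1 hu2
  have hu3' := mem_Ei.1 hu3
  have hu4' := mem_Ei.1 hu4
  set ε : Fin 5 → Bool := ![true, a, b, c, !(xor a (xor b c))] with hε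
  have hT : ∀ i, ρ (T i) u = sg K (ε i) • u := by
    intro i
    fin_cases i
    · rw [show sg K (ε ((fun i => i) ⟨0, by norm_num⟩)) = -1 from rfl, neg_one_smul]
      exact hu1'.2
    · exact hu2'
    · exact hu3'
    · exact hu4'
    · have e : T 4 = T 3 * (T 2 * (T 1 * (T 0 * (ng * z)))) := by
        have hi : ∀ i, (T i)⁻¹ = T i := fun i => inv_eq_of_mul_eq_one_left (D.TT i)
        calc T 4 = (T 3)⁻¹ * ((T 2)⁻¹ * ((T 1)⁻¹ * ((T 0)⁻¹ * (T 0 * T 1 * T 2 * T 3 * T 4)))) := by group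
          _ = T 3 * (T 2 * (T 1 * (T 0 * (ng * z)))) := by rw [D.prod, hi, hi, hi, hi]
      change ρ (T 4) u = sg K (!(xor a (xor b c))) • u
      rw [e]
      simp only [rho_mul]
      rw [hu1'.1, hng, End.one_apply, hu1'.2, map_neg, hu2', map_neg, map_smul, hu3', map_neg, map_smul, map_smul,
        hu4', smul_smul, smul_smul, ← neg_smul, sg_not]
      congr 2
      cases a <;> cases b <;> cases c <;> simp [sg]
  -- four independent vectors
  obtain ⟨k, hk0, hk⟩ := sign_ok a b c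
  have hyT : ∀ m : Fin 4, ∃ y : G, y * z = z * y ∧ ∀ i, y * T i = T (sgm m i) * y := by
    intro m
    fin_cases m
    · exact ⟨1, by rw [one_mul, mul_one], fun i => by rw [one_mul, mul_one]; rfl⟩
    · exact ⟨y1, D.yz, D.yT⟩
    · exact ⟨y2, D.yz', D.yT'⟩
    · refine ⟨y1 * y2, by rw [mul_assoc, D.yz', ← mul_assoc, D.yz, mul_assoc], fun i => ?_⟩
      rw [mul_assoc, D.yT', ← mul_assoc, D.yT, mul_assoc]
      congr 2
      fin_cases i <;> rfl
  choose y hyz hyT using hyT
  have hd : 4 ≤ finrank K C0 := by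
    let f : Fin 4 → C0 := fun m => ⟨ρ (y m) u, by
      have h0 : sgm m 0 = 0 := by fin_cases m <;> rfl
      rw [mC]
      constructor
      · rw [← rho_mul, ← hyz, rho_mul, hu1'.1]
      · have := hyT m 0
        rw [h0] at this
        rw [← rho_mul, ← this, rho_mul, hu1'.2, map_neg]⟩
    have hli : LinearIndependent K f := by
      rw [Fintype.linearIndependent_iff]
      intro c' hc' m
      have h1 : ∑ i, c' i • ρ (y i) u = 0 := by
        have := congrArg Subtype.val hc'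
        simpa using this
      have h3 : ρ (T (sgm m k)) (∑ i, c' i • ρ (y i) u) + sg K (ε k) • ∑ i, c' i • ρ (y i) u = 0 := by
        rw [h1, map_zero, smul_zero, add_zero]
      rw [map_sum, Finset.smul_sum, ← Finset.sum_add_distrib, Finset.sum_eq_single m] at h3
      · have h4 : ρ (T (sgm m k)) (ρ (y m) u) = sg K (ε k) • ρ (y m) u := by
          rw [← rho_mul, ← hyT, rho_mul, hT, map_smul]
        rw [map_smul, h4, smul_comm (sg K (ε k)) (c' m), ← smul_add, ← add_smul] at h3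
        have h5 : sg K (ε k) + sg K (ε k) ≠ 0 := by
          rw [← two_mul]
          exact mul_ne_zero h2 (sg_ne_zero _)
        have h6 : ρ (y m) u ≠ 0 := fun h => hu0 ((map_eq_zero_iff _ (rho_injective ρ (y m))).1 h)
        exact (smul_eq_zero.1 h3).resolve_right (smul_ne_zero h5 h6)
      · intro m' _ hm'
        obtain ⟨j, hj0, hjk, hj⟩ := sgm_ok k hk0 m' m (fun h => hm' h.symm)
        have h4 : ρ (T (sgm m k)) (ρ (y m') u) = -(sg K (ε k) • ρ (y m') u) := by
          rw [← hj, ← rho_mul, ← hyT, rho_mul, hT, map_smul]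
          have : ε j = !(ε k) := hk j hj0 hjk
          rw [this, sg_not, neg_smul]
        rw [map_smul, h4, smul_neg, smul_comm (c' m') (sg K (ε k)), neg_add_cancel]
      · intro h
        exact absurd (Finset.mem_univ m) h
    have := hli.fintype_card_le_finrank
    rwa [Fintype.card_fin] at this
  -- a vector with `T 0 = 1`
  have hlast : finrank K (Ei (ρ z) false ⊓ Ei (ρ (T 0)) false : Submodule K V) ≠ 0 := by
    intro h0
    have h1 := Submodule.finrank_eq_zero.1 h0
    obtain ⟨j, hj⟩ := sign_ok' a b c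
    have hgz : ∀ m : ℕ, g ^ m * z = z * g ^ m := fun m => (Commute.pow_left (show Commute g z from D.gz) m).eq
    have hgT : ∀ (m : ℕ) (i : Fin 5), g ^ m * T i = T ((![4, 0, 1, 2, 3] : Fin 5 → Fin 5)^[m] i) * g ^ m := by
      intro m
      induction m with
      | zero => intro i; rw [pow_zero, one_mul, mul_one]; rfl
      | succ m ih =>
        intro i
        rw [pow_succ, mul_assoc, D.gT, ← mul_assoc, ih, mul_assoc]
        rfl
    have h3 : ρ (g ^ (j : ℕ)) u ∈ Ei (ρ z) false ⊓ Ei (ρ (T 0)) false := by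
      refine ⟨mEf.2 ?_, mEf.2 ?_⟩
      · rw [← rho_mul, ← hgz, rho_mul, hu1'.1]
      · have := hgT j j
        rw [gam_ok j] at this
        rw [← rho_mul, ← this, rho_mul, hT, show ε j = false from hj]
        simp [sg]
    rw [h1, Submodule.mem_bot] at h3
    exact hu0 ((map_eq_zero_iff _ (rho_injective ρ _)).1 h3)
  omega

end Cfsg.Agent.H4.JT
end

-- part: H4/JT/DegOdd
section
/-!
# The Hall-Janko group in odd characteristic, degree at most 12

`j2_odd` : a core of degree at most 12 of type `J2` over a field of characteristic not two has degree 6 and is an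
image of the double cover with the central involution acting as `-1`.
-/

set_option autoImplicit false

namespace Cfsg.Agent.H4.JT

open Function Subgroup Cfsg Cfsg.Spor Cfsg.Geo Cfsg.Agent.H915.LD Cfsg.Agent.H1.RealTool Cfsg.Agent.H1.RealCover
open Cfsg.Agent.J2.ZTau Cfsg.Agent.J2.Ico Cfsg.Agent.J2.Lattice Cfsg.Agent.J2.Refl
  Cfsg.Agent.J2.Group Cfsg.Agent.J2.Stab Cfsg.Agent.J2.SixGens
open Cfsg.Agent.H1.J2Lift Cfsg.Agent.H1.J2Words Cfsg.Agent.H4.JT.Fast

universe u

section gen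

variable {K : Type*} [Field K] {V : Type*} [AddCommGroup V] [Module K V] (ρ : W →* Module.End K V)

/-- the operators -/
noncomputable def OE (L : List Vec) : Module.End K V := ρ (wd L)

theorem OE_append (L M : List Vec) (x : V) : OE ρ (L ++ M) x = OE ρ L (OE ρ M x) := by
  unfold OE; rw [wd_append, map_mul]; rfl

theorem OE_nil (x : V) : OE ρ [] x = x := by
  unfold OE; rw [wd_nil, map_one]; rfl

theorem OE_eq {L M : List Vec} (h : Cfsg.Agent.J2.SixGens.chk L M = true) (x : V) : OE ρ L x = OE ρ M x := by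
  unfold OE; rw [wd_eq h]

theorem OE_eqN (hng : ρ ng = -1) {L M : List Vec} (h : chkN L M = true) (x : V) : OE ρ L x = -(OE ρ M x) := by
  have h1 : wd L = ng * wd M := wd_eqN h
  unfold OE; rw [h1, map_mul, hng]; rfl

theorem OE_inj (L : List Vec) : Injective (OE ρ L) := rho_injective ρ _

theorem rel_K (hng : ρ ng = -1) (nz : ∃ x, ρ (wd wZ) x ≠ -x) :
    H1.EightA.Rel (OE ρ wZ) (OE ρ wF) (OE ρ wV) (OE ρ wB) (fun i => OE ρ [tt i]) where
  zz x := by rw [← OE_append, OE_eq ρ k_zz, OE_nil]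
  TT i x := by
    change OE ρ [tt i] (OE ρ [tt i] x) = x
    rw [← OE_append]
    exact (OE_eq ρ (k_TT i) x).trans (OE_nil ρ x)
  zT i x := by
    change OE ρ [tt i] (OE ρ wZ x) = OE ρ wZ (OE ρ [tt i] x)
    rw [← OE_append, OE_eq ρ (k_zT i), OE_append]
  anti i j hij x := by
    change OE ρ [tt i] (OE ρ [tt j] x) = -(OE ρ wZ (OE ρ [tt j] (OE ρ [tt i] x)))
    rw [← OE_append, ← OE_append, ← OE_append]
    exact OE_eqN ρ hng (k_anti i j hij) x
  fz x := by rw [← OE_append, OE_eq ρ k_fz, OE_append]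
  fT i x := by
    change OE ρ wF (OE ρ [tt i] x) = OE ρ [tt (i + 1)] (OE ρ wF x)
    rw [← OE_append, OE_eq ρ (k_fT i), OE_append]
  f5 := OE_inj ρ _
  vi := OE_inj ρ _
  bi := OE_inj ρ _
  vz x := by rw [← OE_append, OE_eq ρ k_vz, OE_append]
  bz x := by rw [← OE_append, OE_eq ρ k_bz, OE_append]
  vb x := by rw [← OE_append, OE_eqN ρ hng k_vb, OE_append]
  vT i := ⟨vp i, fun x => by
    change OE ρ wV (OE ρ [tt i] x) = OE ρ [tt (vp i)] (OE ρ wV x)
    rw [← OE_append, OE_eq ρ (k_vT i), OE_append]⟩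
  bT i := ⟨bp i, fun x => by
    change OE ρ wB (OE ρ [tt i] x) = OE ρ [tt (bp i)] (OE ρ wB x)
    rw [← OE_append, OE_eq ρ (k_bT i), OE_append]⟩
  v0 x := by
    change OE ρ wV (OE ρ [tt 0] x) = OE ρ [tt 0] (OE ρ wV x)
    rw [← OE_append, OE_eq ρ (k_vT 0), OE_append]; rfl
  prod x := by
    change OE ρ [tt 0] (OE ρ [tt 1] (OE ρ [tt 2] (OE ρ [tt 3] (OE ρ [tt 4] x)))) = -(OE ρ wZ x)
    rw [← OE_append, ← OE_append, ← OE_append, ← OE_append]
    exact OE_eqN ρ hng k_prod x
  nz := nz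

/-- the numbers of the reflections -/
def tn : Fin 5 → ZMod 5 := ![0, 1, 2, 3, 4]

theorem tt_eq : ∀ i : Fin 5, Cfsg.Agent.J2.SixGens.chk (wq (FC.Tl i)) [tt (tn i)] = true := fun i =>
  H1.J2Words.chk_j2fq (by revert i; decide +kernel) (by revert i; decide +kernel)

theorem z_eq : Wd FC.zl = wd wZ := (CA.let2_eq 0).symm

variable [FiniteDimensional K V]

theorem fix_K (hng : ρ ng = -1) (nz : ∃ x, ρ (wd wZ) x ≠ -x) (h2 : (2 : K) ≠ 0) (hn : Module.finrank K V ≤ 12)
    (i : Fin 5) (u : V) (hu : ρ (Wd FC.zl) u = -u) : ρ (Wd (FC.Tl i)) u = u := by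
  have h1 : Wd (FC.Tl i) = wd [tt (tn i)] := wd_eq (tt_eq i)
  rw [z_eq] at hu
  rw [h1]
  exact H1.EightA.fixed h2 (rel_K ρ hng nz) (hn.trans (by norm_num)) hu (tn i)

end gen

variable {ι : Type} [Fintype ι] [DecidableEq ι] {F : Type u} [Field F] {P : Subgroup (Matrix.GeneralLinearGroup ι F)}

/-- **odd characteristic** -/
theorem j2_odd (hC : Core P) (e : Soc P ≃* J2) (h2 : (2 : F) ≠ 0) (hn : Fintype.card ι ≤ 12) :
    Fintype.card ι = 6 ∧ ∃ φ : W →* P, Surjective φ ∧ (∀ z, pj P e (φ z) = pr z) ∧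
      (((φ ng : P) : Matrix.GeneralLinearGroup ι F) : Matrix ι ι F) = -1 := by
  obtain ⟨φ, hs, hp⟩ := H1.TJ2.exists_cover hC e
  let K := AlgebraicClosure F
  have h2K : (2 : K) ≠ 0 := by
    intro h
    apply h2
    apply (algebraMap F K).injective
    rw [map_ofNat, map_zero, h]
  let f : W →* Matrix.GeneralLinearGroup ι F := P.subtype.comp φ
  have hf : f.range = P := by
    change (P.subtype.comp φ).range = P
    rw [MonoidHom.range_comp, MonoidHom.range_eq_top.2 hs, ← MonoidHom.range_eq_map, Subgroup.range_subtype]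
  have hfin : Module.finrank K (ι → K) = Fintype.card ι := Module.finrank_fintype_fun_eq_card K
  have hker : ∀ w : W, rp K f w = 1 → pr w = 1 := by
    intro w hw
    have h1 : f w = 1 := of_rp_eq_one hw
    have h3 : φ w = 1 := Subtype.ext h1
    rw [← hp, h3, map_one]
  rcases H1.TJ2.ng_image e hp with h | h
  · exfalso
    have h1 : rp K f ng = 1 := rp_of_one (Units.ext h)
    have h3 := FC.fd.plus (rp K f) h2K h1 (by
      intro h4
      have h5 := hker _ h4
      rw [z_eq] at h5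
      exact z_ne_one h5)
    rw [hfin] at h3
    omega
  · have h1 : rp K f ng = -1 := rp_of_neg h
    have hnz : ∃ x, rp K f (wd wZ) x ≠ -x := by
      by_contra hcon
      push Not at hcon
      have h3 : rp K f (wd wZ) = -1 := LinearMap.ext hcon
      have h4 : rp K f (wd wZ * ng) = 1 := by
        apply LinearMap.ext
        intro u
        rw [rho_mul, h1, h3]
        change -(-u) = u
        rw [neg_neg]
      have h5 := hker _ h4
      rw [map_mul, show pr ng = 1 from pr_neg, mul_one] at h5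
      exact z_ne_one h5
    have hpos : 0 < Module.finrank K (ι → K) := by
      rw [hfin]
      have := hC.two_le
      omega
    have h6 := FC.fd.minus (rp K f) h2K h1 (fix_K _ h1 hnz h2K (by rw [hfin]; exact hn)) (by rw [hfin]; exact hn) hpos
      (fun X hX => rp_irr hC.absIrred hf X hX)
    rw [hfin] at h6
    exact ⟨h6, φ, hs, hp, h⟩

end Cfsg.Agent.H4.JT
end
end

-- part: H257/Cov/Star
section
set_option linter.all false
open scoped Cfsg.Agent.FastGrp

/-!
# S2499: the star criterion (helper257)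

* `noTwo_of_star` : a class `x` which is incompatible with all the classes `Y i`, and no proper subgroup meets all the
  classes `Y i`
* `noTwo_of_star_orders` : the same with element orders
* `exists_surv_ex` : two primes `r`, `p` dividing `|R|`: the simple group at the top has order divisible by `r p`
-/

set_option autoImplicit false

namespace Cfsg.Agent.H257.Cov

open Subgroup
open Cfsg.Agent.OrdDiv
open Cfsg.Agent.H278.Cov
open Cfsg.Agent.H257.El

universe u v

/-- **the star criterion** -/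
theorem noTwo_of_star {T : Type u} [Group T] {ι : Type v} {x : T} {Y : ι → T} (hx : ∀ i, Inc x (Y i))
    (hY : ∀ R : Subgroup T, R ≠ ⊤ → ∃ i, Av (Y i) R) : NoTwo T := by
  have key : ∀ H K : Subgroup T, H ≠ ⊤ → K ≠ ⊤ → ¬ Av x H → ∃ z : T, Av z H ∧ Av z K := by
    intro H K hH hK h1
    obtain ⟨i, hi⟩ := hY K hK
    exact ⟨Y i, ((hx i) H hH).resolve_left h1, hi⟩
  intro H K hH hK
  by_cases h1 : Av x H
  · by_cases h2 : Av x K
    · exact ⟨x, h1, h2⟩
    · obtain ⟨z, hz1, hz2⟩ := key K H hK hH h2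
      exact ⟨z, hz2, hz1⟩
  · exact key H K hH hK h1

/-- **the star criterion with orders**: `r` is incompatible with all the orders in `L`, and no proper subgroup has
elements of all the orders in `L` -/
theorem noTwo_of_star_orders {T : Type u} [Group T] {r : ℕ} {L : List ℕ} (hr : ∃ x : T, orderOf x = r)
    (hL : ∀ m ∈ L, ∃ y : T, orderOf y = m) (hinc : ∀ m ∈ L, OInc T r m)
    (hno : ∀ R : Subgroup T, R ≠ ⊤ → (∀ m ∈ L, ∃ y ∈ R, orderOf y = m) → False) : NoTwo T := by
  obtain ⟨x, hx⟩ := hr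
  have ho : ∀ a z : T, orderOf (a * z * a⁻¹) = orderOf z := fun a z =>
    orderOf_injective (MulAut.conj a).toMonoidHom (MulAut.conj a).injective z
  refine noTwo_of_star (x := x) (Y := fun i : {m // m ∈ L} => (hL i i.2).choose)
    (fun i => (hinc i i.2).inc hx (hL i i.2).choose_spec) fun R hR => ?_
  by_contra hc
  push Not at hc
  refine hno R hR fun m hm => ?_
  obtain ⟨g, hg⟩ := not_av (hc ⟨m, hm⟩)
  exact ⟨_, hg, (ho _ _).trans (hL m hm).choose_spec⟩

variable {T : Type u} [Group T] [Finite T]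

/-- `r` and the primes `ss` (not adjacent to `r`) divide `|R|`: the simple group at the top of `R` -/
theorem exists_surv_ex (tab : OrderTable.{u}) (known : Known.{u}) {n : ℕ} {l : List (ℕ × ℕ)} {r : ℕ} (ss : List ℕ)
    (hn : Nat.card T = n) (hr : r.Prime) (hss : ∀ s ∈ ss, s.Prime ∧ ∀ z : T, orderOf z ≠ r * s)
    (hchk : (OrdDiv.valid l n && (n % r ^ 2 != 0) && (!ss.isEmpty) && ss.all fun s => El.okPair n l r s) = true)
    {R : Subgroup T} (hR : R ≠ ⊤) (hrR : r ∣ Nat.card R) (hssR : ∀ s ∈ ss, s ∣ Nat.card R) :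
    SitP T n l r R ∧ ∃ (O : Subgroup R) (_ : O.Normal) (N : Subgroup (R ⧸ O)), Top R r O N ∧
      (∀ s ∈ ss, ¬ s ∣ Nat.card O) ∧ (∀ s ∈ ss, ¬ s ∣ N.index) ∧
      (¬ ∀ a b : N, a * b = b * a) ∧ ∃ g ∈ surv n l r ss, Real g N ∧ Nat.card N = ordN g := by
  simp only [Bool.and_eq_true, List.all_eq_true] at hchk
  obtain ⟨⟨⟨h1, h2⟩, h3⟩, h4⟩ := hchk
  have S : SitP T n l r R := sitP_of tab known hn h1 hr h2 hR hrR
  obtain ⟨O, hO, N, h⟩ := S.exists_top
  have hdv : ∀ s ∈ ss, s ∣ Nat.card N := fun s hs =>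
    S.dvd_simple h (hss s hs).1 (hss s hs).2 (h4 s hs) (hssR s hs)
  have hspec : ∀ s ∈ ss, r ≠ s ∧ ¬ s ∣ r - 1 ∧ okPow l r s = true := by
    intro s hs
    have h5 := h4 s hs
    unfold El.okPair at h5
    simp only [Bool.and_eq_true] at h5
    obtain ⟨⟨⟨h6, h7⟩, h8⟩, h9⟩ := h5
    refine ⟨by simpa using h6, fun hd => ?_, h9⟩
    rw [Nat.mod_eq_zero_of_dvd hd] at h7
    exact absurd h7 (by decide)
  have hna : ¬ ∀ a b : N, a * b = b * a := by
    intro hc
    cases ss with
    | nil => simp at h3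
    | cons s ss =>
      have h5 := hdv s (by simp)
      rw [h.card_of_comm hc] at h5
      exact (hspec s (by simp)).1 ((Nat.prime_dvd_prime_iff_eq (hss s (by simp)).1 hr).1 h5).symm
  refine ⟨S, O, hO, N, h, fun s hs => ?_, fun s hs => ?_, hna, ?_⟩
  · exact h.not_dvd_core (hss s hs).1 (hspec s hs).1 (SitP.noR (hss s hs).2) (fun b hb hd =>
      okPow_spec S.valid (hspec s hs).2.2 (hss s hs).1 hb (hd.trans S.dvd_n))
  · exact h.not_dvd_index (hss s hs).1 (hspec s hs).1 (SitP.noR (hss s hs).2) (hspec s hs).2.1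
  · obtain ⟨g, hg, hr1, hr2⟩ := S.exists_surv h hna ss hdv
    exact ⟨g, hg, hr1, hr2⟩

end Cfsg.Agent.H257.Cov
end

-- part: H921/Cov/JFacts
section
set_option linter.all false
open scoped Cfsg.Agent.FastGrp

/-! Facts about the Hall–Janko group (helper921, for S2499). -/

set_option autoImplicit false
set_option linter.style.haveILetI false
set_option linter.unusedSectionVars false

/-!
# Facts about `J₂` (helper921, for S2499)

`Dt z u f d U V H0` : the notation; `exists_dt`, `lb` (index at least 32), `three`, `nine`, `seven`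
(centralizers of elements of order 3, 7; no elements of order 9)
-/


namespace Cfsg.Agent.H921.Cov.JA

open Subgroup Cfsg.Agent.J2Type Cfsg.Agent.J2Type.Base Cfsg.Agent.J2Type.CentU

variable {T : Type*} [Group T]

/-- `f`, `d` of order 3, `H0 ≅ A₅` in `C(u)`, commuting with `d` -/
structure Dt (z u f d : T) (U V H0 : Subgroup T) : Prop where
  F : Fus z u
  L : Full z u f U V H0
  hd : orderOf d = 3
  dV : ∀ v ∈ V, d * v * d⁻¹ ∈ V
  dH : ∀ x ∈ H0, d * x = x * d

theorem exists_dt [Finite T] (h : Spor.IsoJ2 T) : ∃ (z u f d : T) (U V H0 : Subgroup T), Dt z u f d U V H0 := by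
  obtain ⟨z, u, Q, v, ρ, D⟩ := KFacts.J2.Facts.exists_dat_of h
  obtain ⟨f, U, V, H0, L⟩ := CentU.main D.F
  obtain ⟨d, hd, hdV, hdH⟩ := ThreeA.exists_d D.F L
  exact ⟨z, u, f, d, U, V, H0, D.F, L, hd, hdV, hdH⟩

theorem isSimple (h : Spor.IsoJ2 T) : IsSimpleGroup T := by
  obtain ⟨e⟩ := h
  exact (MulEquiv.isSimpleGroup_congr e).2 Cfsg.Agent.S1620.result.1

/-- every proper subgroup has index at least 32 -/
theorem lb [Finite T] (h : Spor.IsoJ2 T) (M : Subgroup T) (hM : M ≠ ⊤) : 32 ≤ M.index := by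
  have := isSimple h
  obtain ⟨t, u, Q, v, ρ, D⟩ := KFacts.J2.Facts.exists_dat_of h
  have hX := KFacts.J2.SheetX.sheetX D
  have hS : H394.SqSheet.Sh t (centralizer ({t} : Set T)) (Q.map (centralizer ({t} : Set T)).subtype) := {
    zz := hX.zz
    z1 := hX.z1
    zR := hX.zR
    RP := hX.RP
    cen := hX.cen
    perf := hX.perf
    R2 := hX.R2
    Rn := hX.Rn
    Rmin := hX.Rmin
    Rna := hX.Rna }
  have hc : Nat.card (Q.map (centralizer ({t} : Set T)).subtype) = 32 := by
    rw [card_map_of_injective (Subtype.val_injective)]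
    exact D.cardQ
  obtain ⟨x, hx⟩ := H394.SqSporBase.exists_moved hM hX.z1
  rcases H394.SqSheet.orbit_bound hS x hx with h3 | ⟨A, hA1, hA2, r, h3, h4⟩
  · rw [hc] at h3
    exact h3
  · have h5 : Nat.card (T ⧸ M) = M.index := rfl
    rw [h5] at h3
    rw [hc] at h4
    have h6 := H394.SqSheet.five_le_relIndex hX.perf hA2
    have h7 : 8 ≤ r := by
      by_contra hlt
      have : r * r ≤ 7 * 7 := Nat.mul_le_mul (by omega) (by omega)
      omega
    have h8 : 5 * 8 ≤ A.relIndex (centralizer ({t} : Set T)) * r := Nat.mul_le_mul h6 h7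
    omega

section

variable {z u f d : T} {U V H0 : Subgroup T} [Finite T] (D : Dt z u f d U V H0)
include D

theorem card_T : Nat.card T = 604800 := Order.card_of_fus D.F

theorem card_C_d : Nat.card (centralizer ({d} : Set T)) = 1080 := ThreeD.card_centralizer_d D.F D.L D.hd D.dH

theorem card_C_f : Nat.card (centralizer ({f} : Set T)) = 36 := ThreeD.card_centralizer_f D.F D.L D.hd D.dH

theorem card_H0 : Nat.card H0 = 60 := ThreeA.card_H0 D.F D.L

theorem conj_sylow_three {x : T} (hx : orderOf x ∣ 27) : ∃ g : T, g * x * g⁻¹ ∈ zpowers d ∨ IsConj f (g * x * g⁻¹) := by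
  haveI : Fact (Nat.Prime 3) := ⟨by norm_num⟩
  obtain ⟨P, hPd, hfP, hdP⟩ := ThreeF.exists_sylow D.F D.L D.hd D.dH
  obtain ⟨-, hcl⟩ := ThreeF.card_normalizer D.F D.L D.hd D.dV D.dH hPd hfP hdP
  have hp : IsPGroup 3 (zpowers x) := by
    rw [IsPGroup.iff_card]
    obtain ⟨k, -, hk⟩ := (Nat.dvd_prime_pow (by norm_num : Nat.Prime 3) (m := 3)).1
      (by simpa using hx : orderOf x ∣ 3 ^ 3)
    exact ⟨k, by rw [Nat.card_zpowers, hk]⟩
  obtain ⟨S, hS⟩ := hp.exists_le_sylow
  obtain ⟨g, hg⟩ := MulAction.exists_smul_eq T S P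
  have h1 : g * x * g⁻¹ ∈ (P : Subgroup T) := by
    rw [← hg, Sylow.smul_def]
    exact ⟨x, hS (mem_zpowers x), rfl⟩
  by_cases h2 : g * x * g⁻¹ ∈ zpowers d
  · exact ⟨g, Or.inl h2⟩
  · exact ⟨g, Or.inr (hcl _ h1 h2)⟩

theorem ord_conj (g x : T) : orderOf (g * x * g⁻¹) = orderOf x :=
  orderOf_injective (MulAut.conj g).toMonoidHom (MulAut.conj g).injective x

/-- the elements of order 3 -/
theorem three {x : T} (hx : orderOf x = 3) : Nat.card (centralizer ({x} : Set T)) = 1080 ∨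
    Nat.card (centralizer ({x} : Set T)) = 36 := by
  obtain ⟨g, h1 | h1⟩ := conj_sylow_three D (x := x) (by rw [hx]; norm_num)
  · left
    have h2 : g * x * g⁻¹ = d ∨ g * x * g⁻¹ = d⁻¹ := by
      rcases ThreeF.mem_zpowers_three D.hd h1 with h3 | h3 | h3
      · exfalso
        have h4 := ord_conj D g x
        rw [h3, orderOf_one, hx] at h4
        norm_num at h4
      · exact Or.inl h3
      · exact Or.inr h3
    have hC : centralizer ({d⁻¹} : Set T) = centralizer ({d} : Set T) := by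
      ext y
      rw [mem_centralizer_singleton_iff, mem_centralizer_singleton_iff]
      constructor
      · intro h
        have := (show Commute y d⁻¹ from h).inv_right
        rwa [inv_inv] at this
      · intro h
        exact (show Commute y d from h).inv_right
    rw [Cent5.card_centralizer_of_isConj (isConj_iff.mpr ⟨g, rfl⟩ : IsConj x (g * x * g⁻¹))]
    rcases h2 with h2 | h2
    · rw [h2, card_C_d D]
    · rw [h2, hC, card_C_d D]
  · right
    rw [Cent5.card_centralizer_of_isConj (isConj_iff.mpr ⟨g, rfl⟩ : IsConj x (g * x * g⁻¹)),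
      ← Cent5.card_centralizer_of_isConj h1, card_C_f D]

/-- no elements of order 9 -/
theorem nine (x : T) : orderOf x ≠ 9 := by
  intro hx
  obtain ⟨g, h1 | h1⟩ := conj_sylow_three D (x := x) (by rw [hx]; norm_num)
  · have h2 : orderOf (g * x * g⁻¹) ∣ orderOf d := orderOf_dvd_of_mem_zpowers h1
    rw [ord_conj D, hx, D.hd] at h2
    norm_num at h2
  · have h2 := SylowFive.orderOf_eq_of_isConj h1
    rw [D.L.f_ord, ord_conj D, hx] at h2
    norm_num at h2

theorem seven {x : T} (hx : orderOf x = 7) : Nat.card (centralizer ({x} : Set T)) = 7 := by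
  haveI : Fact (Nat.Prime 7) := ⟨by norm_num⟩
  have hp : IsPGroup 7 (zpowers x) := IsPGroup.of_card (n := 1) (by rw [Nat.card_zpowers, hx, pow_one])
  obtain ⟨S, hS⟩ := hp.exists_le_sylow
  have hf : (Nat.card T).factorization 7 = 1 := by
    have h2 : Nat.card T ≠ 0 := Nat.card_pos.ne'
    have h3 := ((by norm_num : Nat.Prime 7).dvd_iff_one_le_factorization h2).1 (by rw [card_T D]; norm_num)
    have h4 : ¬ 2 ≤ (Nat.card T).factorization 7 := fun h => by
      have := ((by norm_num : Nat.Prime 7).pow_dvd_iff_le_factorization h2).2 h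
      rw [card_T D] at this
      norm_num at this
    omega
  have hc : Nat.card S = 7 := by rw [S.card_eq_multiplicity, hf, pow_one]
  have hSx : zpowers x = S := by
    apply Subgroup.eq_of_le_of_card_ge hS
    rw [hc, Nat.card_zpowers, hx]
  obtain ⟨h1, -, -⟩ := ThreeF.sylow_seven D.F S
  have h2 : centralizer ({x} : Set T) = S := by
    rw [← h1, ← hSx]
    ext y
    rw [mem_centralizer_singleton_iff, mem_centralizer_iff]
    constructor
    · intro h w hw
      obtain ⟨k, rfl⟩ := mem_zpowers_iff.1 hw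
      exact ((show Commute y x from h).zpow_right k).symm.eq
    · intro h
      exact (h x (mem_zpowers x)).symm
  rw [h2, hc]

end

end Cfsg.Agent.H921.Cov.JA

/-!
# Facts about `J₂`: elements of order 5 and 12, commuting simple subgroups (helper921, for S2499)
-/


namespace Cfsg.Agent.H921.Cov.JA

open Subgroup Cfsg.Agent.J2Type Cfsg.Agent.J2Type.Base Cfsg.Agent.J2Type.CentU Cfsg.Agent.J2Type.SylowFive

/-! ### generalities -/

section gen

variable {T : Type*} [Group T] [Finite T]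

theorem dvd_of_mem {R : Subgroup T} {x : T} (hx : x ∈ R) : orderOf x ∣ Nat.card R := by
  rw [← Subgroup.orderOf_mk x hx]
  exact _root_.orderOf_dvd_natCard _

/-- fixed points of a `p`-subgroup `A` on an invariant subgroup `D` -/
theorem card_fix_mod {p : ℕ} [Fact p.Prime] (A D : Subgroup T) (hA : IsPGroup p A)
    (h : ∀ a ∈ A, ∀ x ∈ D, a * x * a⁻¹ ∈ D) :
    Nat.card D % p = Nat.card (D ⊓ centralizer (A : Set T) : Subgroup T) % p := by
  let _ : MulAction A D := {
    smul := fun a x => ⟨a * x * (a : T)⁻¹, h a a.2 x x.2⟩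
    one_smul := fun x => Subtype.ext (by
      show ((1 : A) : T) * x * ((1 : A) : T)⁻¹ = x
      simp)
    mul_smul := fun a b x => Subtype.ext (by
      show ((a * b : A) : T) * x * ((a * b : A) : T)⁻¹ = a * (b * x * (b : T)⁻¹) * (a : T)⁻¹
      rw [Subgroup.coe_mul]
      group) }
  have h1 := hA.card_modEq_card_fixedPoints D
  have h2 : Nat.card (MulAction.fixedPoints A D) = Nat.card (D ⊓ centralizer (A : Set T) : Subgroup T) := by
    refine Nat.card_congr ⟨fun x => ⟨x.1.1, mem_inf.2 ⟨x.1.2, ?_⟩⟩, fun x => ⟨⟨x.1, (mem_inf.1 x.2).1⟩, ?_⟩,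
      fun _ => rfl, fun _ => rfl⟩
    · rw [mem_centralizer_iff]
      intro a ha
      have h3 : a * (x.1.1 : T) * a⁻¹ = x.1.1 := congrArg Subtype.val (x.2 ⟨a, ha⟩)
      calc a * (x.1.1 : T) = (a * (x.1.1 : T) * a⁻¹) * a := by group
        _ = x.1.1 * a := by rw [h3]
    · rintro ⟨a, ha⟩
      apply Subtype.ext
      show a * (x : T) * a⁻¹ = x
      rw [mem_centralizer_iff.1 (mem_inf.1 x.2).2 a ha]
      group
  rw [h2] at h1
  exact h1

theorem centralizer_zpowers (x : T) : centralizer (zpowers x : Set T) = centralizer ({x} : Set T) := by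
  ext y
  rw [mem_centralizer_singleton_iff, mem_centralizer_iff]
  constructor
  · intro h
    exact (h x (mem_zpowers x)).symm
  · intro h w hw
    obtain ⟨k, rfl⟩ := mem_zpowers_iff.1 hw
    exact ((show Commute y x from h).zpow_right k).symm.eq

end gen

variable {T : Type*} [Group T] {z u f d : T} {U V H0 : Subgroup T} [Finite T] (D : Dt z u f d U V H0)
include D

/-! ### elements of order 5 -/

theorem exists_w : ∃ w ∈ H0, orderOf w = 5 := by
  haveI : Fact (Nat.Prime 5) := ⟨by norm_num⟩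
  obtain ⟨w, hw⟩ := exists_prime_orderOf_dvd_card' (G := H0) 5 (by rw [card_H0 D]; norm_num)
  exact ⟨w, w.2, by rw [orderOf_coe]; exact hw⟩

theorem good {w : T} (hw : w ∈ H0) (h5 : orderOf w = 5) : Good w := Cent5.good_of_mem D.F D.L (card_H0 D) hw h5

theorem exists_P {w : T} (h5 : orderOf w = 5) : ∃ P : Sylow 5 T, w ∈ P := by
  haveI : Fact (Nat.Prime 5) := ⟨by norm_num⟩
  have hp : IsPGroup 5 (zpowers w) := IsPGroup.of_card (n := 1) (by rw [Nat.card_zpowers, h5, pow_one])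
  obtain ⟨S, hS⟩ := hp.exists_le_sylow
  exact ⟨S, hS (mem_zpowers w)⟩

theorem card_C_w {w : T} (hw : w ∈ H0) (h5 : orderOf w = 5) : Nat.card (centralizer ({w} : Set T)) = 300 :=
  Cent5.card_centralizer_five D.F D.L (card_H0 D) (card_T D) hw h5

theorem fifteen {w t : T} (hw : w ∈ H0) (h5 : orderOf w = 5) (ht : orderOf t = 3) (h : t * w = w * t) :
    Nat.card (centralizer ({w} : Set T) ⊓ centralizer ({t} : Set T) : Subgroup T) = 15 := by
  obtain ⟨e⟩ := Cent5.exists_equiv_CQ D.F D.L (card_H0 D) (card_T D) hw h5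
  exact ThreeC.card_inf_fifteen e h5 ht h

theorem card_C_v {v : T} (h5 : orderOf v = 5) (hv : v * z = z * v) :
    Nat.card (centralizer ({v} : Set T)) = 50 := by
  obtain ⟨P, hP⟩ := exists_P D h5
  have h25 : 25 ∣ Nat.card (centralizer ({v} : Set T)) := by
    rw [← card_sylow_five (card_T D) P]
    exact card_dvd_of_le (sylow_le_centralizer (card_T D) P hP)
  have h2 : 2 ∣ Nat.card (centralizer ({v} : Set T)) := by
    have : z ∈ centralizer ({v} : Set T) := mem_centralizer_singleton_iff.2 hv.symm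
    have h := dvd_of_mem this
    rwa [D.F.hz] at h
  have h3 := ThreeD.not_three_dvd D.F h5 hv
  have h4 := FiveFus.not_four_dvd D.F h5 hv
  have h7 : ¬ 7 ∣ Nat.card (centralizer ({v} : Set T)) := by
    intro h
    haveI : Fact (Nat.Prime 7) := ⟨by norm_num⟩
    obtain ⟨y, hy⟩ := exists_prime_orderOf_dvd_card' (G := centralizer ({v} : Set T)) 7 h
    have hy' : orderOf (y : T) = 7 := by rw [orderOf_coe]; exact hy
    have h8 : v ∈ centralizer ({(y : T)} : Set T) :=
      mem_centralizer_singleton_iff.2 (mem_centralizer_singleton_iff.1 y.2).symm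
    have h9 := dvd_of_mem h8
    rw [seven D hy', h5] at h9
    norm_num at h9
  obtain ⟨k, hk⟩ : 50 ∣ Nat.card (centralizer ({v} : Set T)) :=
    Nat.Coprime.mul_dvd_of_dvd_of_dvd (m := 2) (n := 25) (by norm_num) h2 h25
  have hkd : k ∣ 12096 := by
    have h := card_subgroup_dvd_card (centralizer ({v} : Set T))
    rw [hk, card_T D] at h
    exact Nat.dvd_of_mul_dvd_mul_left (by norm_num : 0 < 50) (by simpa only [_root_.Nat.reduceMul] using h)
  have key : ∀ k ∈ Nat.divisors 12096, k % 2 ≠ 0 → k % 3 ≠ 0 → k % 7 ≠ 0 → k = 1 := by (rewrite [Cfsg.Agent.Lib.DivFast.divisors_eq]; decide +kernel)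
  have hk1 : k = 1 := by
    rw [hk] at h3 h4 h7
    exact key k (Nat.mem_divisors.2 ⟨hkd, by norm_num⟩) (by (clear * - h4; omega)) (by (clear * - h3; omega)) (by (clear * - h7; omega))
  rw [hk, hk1]

/-- the elements of order 5 -/
theorem five {y : T} (hy : orderOf y = 5) : (∃ w ∈ H0, orderOf w = 5 ∧ IsConj w y) ∨
    ∃ v : T, orderOf v = 5 ∧ v * z = z * v ∧ IsConj v y := by
  obtain ⟨w, hw, hw5⟩ := exists_w D
  obtain ⟨v, hv5, hv⟩ := ThreeD.exists_w0 D.F
  obtain ⟨-, h⟩ := ThreeC.five_data (card_T D) (good D hw hw5) hv5 (FiveFus.real_of_comm D.F hv5 hv)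
    (FiveFus.not_four_dvd D.F hv5 hv)
  have o2 : ∀ x : T, orderOf x = 5 → orderOf (x ^ 2) = 5 := fun x hx => by
    rw [Nat.Coprime.orderOf_pow (by rw [hx]; norm_num), hx]
  rcases h y hy with h | h | h | h
  · exact Or.inl ⟨w, hw, hw5, h⟩
  · exact Or.inl ⟨w ^ 2, H0.pow_mem hw 2, o2 w hw5, h⟩
  · exact Or.inr ⟨v, hv5, hv, h⟩
  · exact Or.inr ⟨v ^ 2, o2 v hv5, ((show Commute v z from hv).pow_left 2).eq, h⟩

theorem card_C_five {y : T} (hy : orderOf y = 5) : Nat.card (centralizer ({y} : Set T)) = 300 ∨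
    Nat.card (centralizer ({y} : Set T)) = 50 := by
  rcases five D hy with ⟨w, hw, hw5, h⟩ | ⟨v, hv5, hv, h⟩
  · left
    rw [← Cent5.card_centralizer_of_isConj h, card_C_w D hw hw5]
  · right
    rw [← Cent5.card_centralizer_of_isConj h, card_C_v D hv5 hv]

theorem P_facts (P : Sylow 5 T) : centralizer ((P : Subgroup T) : Set T) = P ∧ Nat.card P = 25 ∧
    Nat.card (normalizer ((P : Subgroup T) : Set T)) = 300 := by
  obtain ⟨h1, h2, h3, -⟩ := FiveFus.sylow_five D.F P
  exact ⟨h1, h2, h3⟩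

/-- `50` divides the order of the centralizer in the normalizer of `P` -/
theorem card_NC {w : T} (h5 : orderOf w = 5) {P : Sylow 5 T} (hP : w ∈ P)
    (h : Nat.card (normalizer ((P : Subgroup T) : Set T) ⊓ centralizer ({w} : Set T) : Subgroup T) = 50) :
    ¬ IsConj w (w ^ 2) := by
  intro hc
  have h1 := card_O (card_T D) hP
  rw [h, (P_facts D P).2.2] at h1
  have h2 := four_dvd_card (T := O P w) (fun x hx => by rw [← orderOf_eq_of_isConj hx.2]; exact h5)
    (fun x hx => ⟨(P : Subgroup T).pow_mem hx.1 2, hc.trans (hx.2.pow 2)⟩)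
  omega

theorem nsq {w : T} (h5 : orderOf w = 5) : ¬ IsConj w (w ^ 2) := by
  rcases five D h5 with ⟨w', hw, hw5, h⟩ | ⟨v, hv5, hv, h⟩
  · intro hc
    obtain ⟨P, hP⟩ := exists_P D hw5
    refine card_NC D hw5 hP ((good D hw hw5).key (card_T D) hP).2 ?_
    exact h.trans (hc.trans (h.pow 2).symm)
  · intro hc
    obtain ⟨P, hP⟩ := exists_P D hv5
    refine card_NC D hv5 hP ?_ (h.trans (hc.trans (h.pow 2).symm))
    have hle : (P : Subgroup T) ≤ centralizer ({v} : Set T) := sylow_le_centralizer (card_T D) P hP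
    have h50 := card_C_v D hv5 hv
    have h1 : centralizer ({v} : Set T) ≤ normalizer ((P : Subgroup T) : Set T) := by
      rw [← normal_subgroupOf_iff_le_normalizer hle]
      apply normal_of_index_eq_two
      have h2 := ((P : Subgroup T).subgroupOf (centralizer ({v} : Set T))).card_mul_index
      rw [Nat.card_congr (subgroupOfEquivOfLe hle).toEquiv, (P_facts D P).2.1, h50] at h2
      omega
    rw [inf_eq_right.2 h1, h50]

/-! ### elements of order 12 and 6 -/

theorem exists_x12 : ∃ x : T, orderOf x = 12 ∧ IsConj z (x ^ 6) ∧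
    Nat.card (centralizer ({x ^ 4} : Set T)) = 1080 := by
  haveI : Fact (Nat.Prime 3) := ⟨by norm_num⟩
  haveI : Fact (Nat.Prime 2) := ⟨by norm_num⟩
  obtain ⟨c', hc'⟩ := exists_prime_orderOf_dvd_card' (G := centralizer ({z} : Set T)) 3
    (by rw [D.F.cardC]; norm_num)
  obtain ⟨c, rfl, hc, hcz⟩ : ∃ c : T, c = c' ∧ orderOf c = 3 ∧ c * z = z * c :=
    ⟨c', rfl, by rw [orderOf_coe]; exact hc', mem_centralizer_singleton_iff.1 c'.2⟩
  set c : T := (c' : T)
  have h24 := D.F.card24 c hc hcz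
  set E := centralizer ({z} : Set T) ⊓ centralizer ({c} : Set T) with hE
  have hEz : ∀ x ∈ E, x * z = z * x := fun x hx => mem_centralizer_singleton_iff.1 (mem_inf.1 hx).1
  have hEc : ∀ x ∈ E, x * c = c * x := fun x hx => mem_centralizer_singleton_iff.1 (mem_inf.1 hx).2
  have hinv : ∀ x ∈ E, orderOf x = 2 → IsConj z x := fun x hx h2 => D.F.z3 c x hc hcz h2 (hEz x hx) (hEc x hx)
  classical
  obtain ⟨S, hS8⟩ : ∃ S : Subgroup E, Nat.card S = 8 := by
    obtain ⟨S, hS⟩ := Sylow.exists_subgroup_card_pow_prime (G := E) 2 (n := 3) (by rw [h24]; norm_num)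
    exact ⟨S, by rw [hS]; norm_num⟩
  -- an element of order 4
  obtain ⟨q, hqE, hq⟩ : ∃ q ∈ E, orderOf q = 4 := by
    by_contra hno
    push Not at hno
    have hsq : ∀ s : S, ((s : E) : T) * s = 1 := by
      intro s
      have h1 : orderOf ((s : E) : T) ∣ 2 ^ 3 := by
        rw [orderOf_coe, orderOf_coe]
        have := _root_.orderOf_dvd_natCard s
        rwa [hS8] at this
      obtain ⟨k, hk, hk'⟩ := (Nat.dvd_prime_pow Nat.prime_two).1 h1
      interval_cases k
      · rw [pow_zero, orderOf_eq_one_iff] at hk'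
        rw [hk', mul_one]
      · rw [← pow_two]
        rw [pow_one] at hk'
        rw [← hk', pow_orderOf_eq_one]
      · exact absurd hk' (hno _ (s : E).2)
      · exfalso
        apply hno (((s : E) : T) ^ 2) (E.pow_mem (s : E).2 2)
        rw [orderOf_pow_of_dvd (by norm_num) (by rw [hk']; norm_num), hk']
        norm_num
    have hcomm : ∀ a b : S, ((a : E) : T) * b = b * a := by
      intro a b
      have h1 := hsq (a * b)
      have h2 := hsq a
      have h3 := hsq b
      simp only [coe_mul] at h1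
      have e : ((a : E) : T) * b = (((a : E) : T) * b)⁻¹ := eq_inv_of_mul_eq_one_left h1
      rw [e, mul_inv_rev, ← eq_inv_of_mul_eq_one_left h2, ← eq_inv_of_mul_eq_one_left h3]
    -- another involution
    obtain ⟨s, hs1, hsz⟩ : ∃ s : S, s ≠ 1 ∧ ((s : E) : T) ≠ z := by
      by_contra hc2
      push Not at hc2
      have h1 : Nat.card S ≤ 2 := by
        rw [show (2 : ℕ) = Nat.card Bool by simp]
        apply Nat.card_le_card_of_injective (fun s : S => decide (s = 1))
        intro a b hab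
        simp only [decide_eq_decide] at hab
        by_cases ha : a = 1
        · rw [ha, (hab.1 ha)]
        · have hb : b ≠ 1 := fun h => ha (hab.2 h)
          apply Subtype.ext
          apply Subtype.ext
          rw [hc2 a ha, hc2 b hb]
      omega
    have hord : ∀ s : S, s ≠ 1 → orderOf ((s : E) : T) = 2 := by
      intro s hs
      apply orderOf_eq_prime
      · rw [pow_two]; exact hsq s
      · intro h
        exact hs (Subtype.ext (Subtype.ext h))
    have hzt : ∀ s : S, s ≠ 1 → IsConj z ((s : E) : T) := fun s hs => hinv _ (s : E).2 (hord s hs)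
    have hsz' : ((s : E) : T) * z = z * s := hEz _ (s : E).2
    have h8 := D.F.card8 _ (hzt s hs1) hsz' hsz
    have h11 := D.F.card11
    -- `7` elements of `S` commute with `s`
    have h7 : Nat.card {y : S // y ≠ 1} = 7 := by
      have := Nat.card_congr (Equiv.sumCompl (fun y : S => y = 1))
      rw [Nat.card_sum, hS8] at this
      have h1 : Nat.card {y : S // y = 1} = 1 := by simp
      have h2 : Nat.card {y : S // ¬ y = 1} = 7 := by omega
      exact h2
    let A := {x : T // IsConj z x ∧ x * z = z * x}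
    have h12 : Nat.card {x : A // ((s : E) : T) * x ≠ x * s} = 8 := by
      rw [← h8]
      exact Nat.card_congr ⟨fun x => ⟨x.1.1, x.1.2.1, x.1.2.2, x.2⟩, fun x => ⟨⟨x.1, x.2.1, x.2.2.1⟩, x.2.2.2⟩,
        fun _ => rfl, fun _ => rfl⟩
    have h13 : Nat.card {x : A // ¬ ((s : E) : T) * x ≠ x * s} + 8 = 11 := by
      have := Nat.card_congr (Equiv.sumCompl (fun x : A => ((s : E) : T) * x ≠ x * s))
      rw [Nat.card_sum] at this
      rw [h12] at this
      have h14 : Nat.card A = 11 := h11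
      omega
    have h15 : Nat.card {y : S // y ≠ 1} ≤ Nat.card {x : A // ¬ ((s : E) : T) * x ≠ x * s} := by
      apply Nat.card_le_card_of_injective (fun y : {y : S // y ≠ 1} =>
        (⟨⟨((y.1 : E) : T), hzt y.1 y.2, hEz _ (y.1 : E).2⟩, by
          rw [not_not]; exact hcomm s y.1⟩ : {x : A // ¬ ((s : E) : T) * x ≠ x * s}))
      intro a b hab
      have h16 : ((a.1 : E) : T) = b.1 := congrArg (fun x => ((x.1 : A) : T)) hab
      exact Subtype.ext (Subtype.ext (Subtype.ext h16))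
    omega
  have hqc : Commute q c := hEc q hqE
  have hx12 : orderOf (q * c) = 12 := by
    rw [hqc.orderOf_mul_eq_mul_orderOf_of_coprime (by rw [hq, hc]; norm_num), hq, hc]
  have q4 : q ^ 4 = 1 := by rw [← hq, pow_orderOf_eq_one]
  have c3 : c ^ 3 = 1 := by rw [← hc, pow_orderOf_eq_one]
  refine ⟨q * c, hx12, ?_, ?_⟩
  · have h1 : (q * c) ^ 6 = q ^ 2 := by
      rw [hqc.mul_pow, show (6 : ℕ) = 4 + 2 by norm_num, pow_add, q4, one_mul,
        show (4 + 2 : ℕ) = 3 * 2 by norm_num, pow_mul, c3, one_pow, mul_one]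
    rw [h1]
    apply hinv _ (E.pow_mem hqE 2)
    rw [orderOf_pow_of_dvd (by norm_num) (by rw [hq]; norm_num), hq]
  · have h1 : (q * c) ^ 4 = c := by
      rw [hqc.mul_pow, q4, one_mul, show (4 : ℕ) = 3 + 1 by norm_num, pow_add, c3, one_mul, pow_one]
    rw [h1]
    rcases three D hc with h | h
    · exact h
    · exfalso
      have h2 : Nat.card E ∣ Nat.card (centralizer ({c} : Set T)) := card_dvd_of_le inf_le_right
      rw [h, h24] at h2
      norm_num at h2

theorem exists_x6 : ∃ x : T, orderOf x = 6 ∧ x ^ 3 = u ∧ orderOf (x ^ 4) = 3 ∧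
    Nat.card (centralizer ({x ^ 4} : Set T)) = 36 := by
  have hfu : Commute u f := (mem_centralizer_singleton_iff.1 (D.L.str.le D.L.f_mem)).symm
  have hu2 : u ^ 2 = 1 := by rw [← D.F.hu, pow_orderOf_eq_one]
  have hf3 : f ^ 3 = 1 := by rw [← D.L.f_ord, pow_orderOf_eq_one]
  have h4 : (u * f) ^ 4 = f := by
    rw [hfu.mul_pow, show (4 : ℕ) = 2 * 2 by norm_num, pow_mul, hu2, one_pow, one_mul,
      show (2 * 2 : ℕ) = 3 + 1 by norm_num, pow_add, hf3, one_mul, pow_one]
  refine ⟨u * f, ?_, ?_, ?_, ?_⟩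
  · rw [hfu.orderOf_mul_eq_mul_orderOf_of_coprime (by rw [D.F.hu, D.L.f_ord]; norm_num), D.F.hu, D.L.f_ord]
  · rw [hfu.mul_pow, hf3, mul_one, show (3 : ℕ) = 2 + 1 by norm_num, pow_add, hu2, one_mul, pow_one]
  · rw [h4, D.L.f_ord]
  · rw [h4, card_C_f D]

end Cfsg.Agent.H921.Cov.JA

/-!
# `J₂`: no subgroup of index 50, no commuting simple subgroups; facts on `PSL₂(8)`, `PSU₃(3)`, `A₇` (helper921)
-/


namespace Cfsg.Agent.H921.Cov.JA

open Subgroup Cfsg.Agent.J2Type Cfsg.Agent.J2Type.Base Cfsg.Agent.J2Type.CentU Cfsg.Agent.J2Type.SylowFive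
open Cfsg.Agent.H257.Cov

section gen

universe u

variable {S : Type u} [Group S]

theorem exists_nine (h : OrdDiv.Real (.psl 2 8) S) : ∃ x : S, orderOf x = 9 := by
  obtain ⟨F, _, _, hF, ⟨e⟩⟩ := h
  obtain ⟨a, -, ha, -, -, hneg, -⟩ := Cfsg.Agent.ClassicalGeometry.NonsplitTorus.exists_torus_TI F
  have hb := Cfsg.Agent.ClassicalGeometry.PSLTorus.orderOf_pr a ha hneg
  rw [hF] at hb
  refine ⟨e.symm (ClassicalGeometry.PSLTorus.pr F a), ?_⟩
  rw [MulEquiv.orderOf_eq, hb]
  rfl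

theorem one_class (h : OrdDiv.Real (.psu 3 3) S) (x y : S) (hx : orderOf x = 2) (hy : orderOf y = 2) :
    IsConj x y := by
  obtain ⟨F, _, _, hF, ⟨e⟩⟩ := h
  have h2 : (2 : F) ≠ 0 := by
    intro h2
    have hc : CharP F 2 := CharTwo.of_one_ne_zero_of_two_eq_zero one_ne_zero h2
    obtain ⟨n, -, hn⟩ := FiniteField.card F 2
    rw [hF] at hn
    have h3 : 2 ∣ 3 ^ 2 := by
      rw [hn]
      exact dvd_pow_self 2 n.2.ne'
    norm_num at h3
  have hZ : center (SU 3 F 3) = ⊥ := by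
    rw [← Subgroup.card_eq_one, S0279.result hF 3 le_rfl]
    decide
  have hinj : Function.Injective (QuotientGroup.mk' (center (SU 3 F 3))) := by
    rw [← MonoidHom.ker_eq_bot_iff, QuotientGroup.ker_mk', hZ]
  obtain ⟨a, ha⟩ := QuotientGroup.mk'_surjective (center (SU 3 F 3)) (e x)
  obtain ⟨b, hb⟩ := QuotientGroup.mk'_surjective (center (SU 3 F 3)) (e y)
  have oa : orderOf a = 2 := by
    rw [← orderOf_injective _ hinj a, ha]
    exact (MulEquiv.orderOf_eq e x).trans hx
  have ob : orderOf b = 2 := by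
    rw [← orderOf_injective _ hinj b, hb]
    exact (MulEquiv.orderOf_eq e y).trans hy
  have n1 : ∀ c : SU 3 F 3, orderOf c = 2 → c ≠ 1 := by
    rintro c hc rfl
    rw [orderOf_one] at hc
    norm_num at hc
  have n2 : ∀ c : SU 3 F 3, orderOf c = 2 → c * c = 1 := fun c hc => by
    rw [← pow_two, ← hc, pow_orderOf_eq_one]
  obtain ⟨g, hg⟩ := H124.SUThree.exists_conj hF h2 (n1 a oa) (n2 a oa) (n1 b ob) (n2 b ob)
  have h3 : IsConj (e x) (e y) := by
    rw [← ha, ← hb, ← hg]
    exact isConj_iff.2 ⟨QuotientGroup.mk' _ g, by rw [map_mul, map_mul, map_inv]⟩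
  obtain ⟨c, hc⟩ := isConj_iff.1 h3
  refine isConj_iff.2 ⟨e.symm c, e.injective ?_⟩
  rw [map_mul, map_mul, map_inv, MulEquiv.apply_symm_apply, hc]

theorem alt7_sq (h : OrdDiv.Real (.alt 7) S) : ∃ s : S, orderOf s = 5 ∧ IsConj s (s ^ 2) := by
  obtain ⟨e⟩ := h
  let a : Equiv.Perm (Fin 7) := c[0, 1, 2, 3, 4]
  let g : Equiv.Perm (Fin 7) := c[1, 2, 4, 3] * c[5, 6]
  have ha : a ∈ alternatingGroup (Fin 7) := by
    rw [Equiv.Perm.mem_alternatingGroup]
    decide +kernel
  have hg : g ∈ alternatingGroup (Fin 7) := by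
    rw [Equiv.Perm.mem_alternatingGroup]
    decide +kernel
  have h1 : g * a * g⁻¹ = a ^ 2 := by decide +kernel
  have h5 : a ^ 5 = 1 := by decide +kernel
  have h6 : a ≠ 1 := by decide +kernel
  let A : alternatingGroup (Fin 7) := ⟨a, ha⟩
  let G : alternatingGroup (Fin 7) := ⟨g, hg⟩
  have h7 : G * A * G⁻¹ = A ^ 2 := Subtype.ext h1
  haveI : Fact (Nat.Prime 5) := ⟨by norm_num⟩
  refine ⟨e.symm A, ?_, ?_⟩
  · rw [MulEquiv.orderOf_eq]
    exact orderOf_eq_prime (Subtype.ext h5) (fun h => h6 (congrArg Subtype.val h))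
  · rw [isConj_iff]
    exact ⟨e.symm G, by rw [← map_mul, ← map_inv, ← map_mul, h7, map_pow]⟩

end gen

variable {T : Type*} [Group T] {z u f d : T} {U V H0 : Subgroup T} [Finite T] (D : Dt z u f d U V H0)
include D

theorem isol7 : Isol T 7 := isol_of_cent (by norm_num) (fun x hx => seven D hx)

theorem no_z {i p : T} (hi : IsConj z i) (hp : orderOf p = 5) (hc : p * i = i * p) {S : Subgroup T}
    (h4 : 4 ∣ Nat.card S) (hS : ∀ x ∈ S, x * p = p * x) : False := by
  obtain ⟨g, rfl⟩ := isConj_iff.1 hi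
  have hp' : orderOf (g⁻¹ * p * g) = 5 := by
    have := ord_conj D g⁻¹ p
    rw [inv_inv] at this
    rw [this, hp]
  have hcz : (g⁻¹ * p * g) * z = z * (g⁻¹ * p * g) := by
    calc (g⁻¹ * p * g) * z = g⁻¹ * (p * (g * z * g⁻¹)) * g := by group
      _ = g⁻¹ * ((g * z * g⁻¹) * p) * g := by rw [hc]
      _ = z * (g⁻¹ * p * g) := by group
  have h50 := card_C_v D hp' hcz
  have hcj : IsConj p (g⁻¹ * p * g) := isConj_iff.2 ⟨g⁻¹, by rw [inv_inv]⟩
  rw [← Cent5.card_centralizer_of_isConj hcj] at h50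
  have h1 : Nat.card S ∣ Nat.card (centralizer ({p} : Set T)) :=
    card_dvd_of_le fun x hx => mem_centralizer_singleton_iff.2 (hS x hx)
  rw [h50] at h1
  have h2 := h4.trans h1
  norm_num at h2

/-- no commuting pair of subgroups of order divisible by 20, one of them simple -/
theorem no_comm {S1 S2 : Subgroup T} (h5 : 5 ∣ Nat.card S1) (h4 : 4 ∣ Nat.card S1) (h5' : 5 ∣ Nat.card S2)
    (h4' : 4 ∣ Nat.card S2) [IsSimpleGroup S2] (hna : ¬ ∀ a b : S2, a * b = b * a)
    (hc : ∀ x ∈ S1, ∀ y ∈ S2, x * y = y * x) : False := by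
  haveI : Fact (Nat.Prime 5) := ⟨by norm_num⟩
  haveI : Fact (Nat.Prime 2) := ⟨by norm_num⟩
  obtain ⟨i, hi⟩ := exists_prime_orderOf_dvd_card' (G := S1) 2 ((by norm_num : 2 ∣ 4).trans h4)
  obtain ⟨p, hp⟩ := exists_prime_orderOf_dvd_card' (G := S1) 5 h5
  obtain ⟨j, hj⟩ := exists_prime_orderOf_dvd_card' (G := S2) 2 ((by norm_num : 2 ∣ 4).trans h4')
  obtain ⟨q, hq⟩ := exists_prime_orderOf_dvd_card' (G := S2) 5 h5'
  rw [← orderOf_coe] at hi hp hj hq
  rcases D.F.cover _ hi with h | h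
  · exact no_z D h hq (hc i i.2 q q.2).symm h4 (fun x hx => hc x hx q q.2)
  obtain ⟨g, hg⟩ := isConj_iff.1 h
  let N : Subgroup S2 := (H0.comap (MulAut.conj g⁻¹).toMonoidHom).subgroupOf S2
  have hN : ∀ y : S2, y ∈ N ↔ g⁻¹ * y * g ∈ H0 := by
    intro y
    show g⁻¹ * (y : T) * g⁻¹⁻¹ ∈ H0 ↔ _
    rw [inv_inv]
  have hC : ∀ y : S2, g⁻¹ * y * g ∈ centralizer ({u} : Set T) := by
    intro y
    rw [mem_centralizer_singleton_iff]
    have h1 : u = g⁻¹ * i * g := by rw [← hg]; group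
    rw [h1]
    calc g⁻¹ * (y : T) * g * (g⁻¹ * i * g) = g⁻¹ * (y * i) * g := by group
      _ = g⁻¹ * (i * y) * g := by rw [hc i i.2 y y.2]
      _ = g⁻¹ * i * g * (g⁻¹ * y * g) := by group
  have hNn : N.Normal := by
    refine ⟨fun n hn x => ?_⟩
    rw [hN] at hn ⊢
    have h1 := D.L.str.conj_mem _ (hC x) _ hn
    have h2 : g⁻¹ * (x : T) * g * (g⁻¹ * n * g) * (g⁻¹ * x * g)⁻¹ = g⁻¹ * ((x * n * x⁻¹ : S2) : T) * g := by
      simp only [coe_mul, coe_inv]
      group
    rwa [h2] at h1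
  rcases hNn.eq_bot_or_eq_top with h1 | h1
  · apply hna
    have hsq : ∀ y : S2, y * y = 1 := by
      intro y
      have h2 : y * y ∈ N := by
        rw [hN]
        have h3 := D.L.str.sq_mem _ (hC y)
        have h4 : g⁻¹ * (y : T) * g * (g⁻¹ * y * g) = g⁻¹ * ((y * y : S2) : T) * g := by
          simp only [coe_mul]
          group
        rwa [h4] at h3
      rw [h1, mem_bot] at h2
      exact h2
    intro a b
    have h2 := hsq (a * b)
    have e : a * b = (a * b)⁻¹ := eq_inv_of_mul_eq_one_left h2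
    rw [e, mul_inv_rev, ← eq_inv_of_mul_eq_one_left (hsq a), ← eq_inv_of_mul_eq_one_left (hsq b)]
  · have h2 : j ∈ N := by rw [h1]; exact mem_top _
    rw [hN] at h2
    have h3 : orderOf (g⁻¹ * (j : T) * g) = 2 := by
      have := ord_conj D g⁻¹ (j : T)
      rw [inv_inv] at this
      rw [this, hj]
    have h4 := D.L.str.invol _ h2 h3
    have h5 : IsConj z (j : T) := h4.trans (isConj_iff.2 ⟨g, by group⟩)
    exact no_z D h5 hp (hc p p.2 j j.2) h4' (fun x hx => (hc p p.2 x hx).symm)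

/-! ### index 50 -/

section idx

omit D

/-- number of fixed points on the cosets -/
noncomputable def fx (M : Subgroup T) (g : T) : ℕ := Nat.card (MulAction.fixedBy (T ⧸ M) g)

theorem fx_conj (M : Subgroup T) {g h : T} (hgh : IsConj g h) : fx M h = fx M g := by
  obtain ⟨c, rfl⟩ := isConj_iff.1 hgh
  refine Nat.card_congr ⟨fun x => ⟨c⁻¹ • x.1, ?_⟩, fun x => ⟨c • x.1, ?_⟩, fun x => ?_, fun x => ?_⟩
  · have h1 := x.2
    rw [MulAction.mem_fixedBy] at h1 ⊢
    rw [mul_smul, mul_smul] at h1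
    rw [eq_inv_smul_iff]
    exact h1
  · have h1 := x.2
    rw [MulAction.mem_fixedBy] at h1 ⊢
    rw [mul_smul, mul_smul, inv_smul_smul, h1]
  · exact Subtype.ext (smul_inv_smul _ _)
  · exact Subtype.ext (inv_smul_smul _ _)

theorem fx_one (M : Subgroup T) : fx M 1 = M.index := by
  have : MulAction.fixedBy (T ⧸ M) (1 : T) = Set.univ := by
    ext x
    simp
  unfold fx
  rw [this]
  exact Nat.card_congr (Equiv.Set.univ _)

/-- Burnside -/
theorem burn (M A : Subgroup T) : Nat.card A ∣ ∑ᶠ a : A, fx M a := by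
  classical
  have : Fintype A := Fintype.ofFinite _
  have : Fintype (T ⧸ M) := Fintype.ofFinite _
  have : Fintype (Quotient (MulAction.orbitRel A (T ⧸ M))) := Fintype.ofFinite _
  have h := MulAction.sum_card_fixedBy_eq_card_orbits_mul_card_group A (T ⧸ M)
  rw [finsum_eq_sum_of_fintype]
  have h1 : ∀ a : A, fx M a = Fintype.card (MulAction.fixedBy (T ⧸ M) a) := by
    intro a
    unfold fx
    rw [Nat.card_eq_fintype_card]
    rfl
  simp only [h1]
  rw [h, Nat.card_eq_fintype_card]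
  exact Dvd.intro_left _ rfl

/-- a sum over a group with two classes of nontrivial elements -/
theorem sum_two {A : Subgroup T} {F : A → ℕ} {p : A → Prop} {a b c : ℕ} (h1 : F 1 = c) (hp1 : ¬ p 1)
    (hp : ∀ x, p x → F x = a) (hn : ∀ x, x ≠ 1 → ¬ p x → F x = b) :
    ∑ᶠ x : A, F x = c + Nat.card {x : A // p x} * a + (Nat.card A - 1 - Nat.card {x : A // p x}) * b := by
  classical
  have : Fintype A := Fintype.ofFinite _
  rw [finsum_eq_sum_of_fintype]
  have e1 : ∀ x, F x = (if x = 1 then c else 0) + (if p x then a else 0) + (if x ≠ 1 ∧ ¬ p x then b else 0) := by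
    intro x
    by_cases hx : x = 1
    · subst hx
      simp [h1, hp1]
    · by_cases hpx : p x
      · simp [hx, hpx, hp x hpx]
      · simp [hx, hpx, hn x hx hpx]
  rw [Finset.sum_congr rfl (fun x _ => e1 x), Finset.sum_add_distrib, Finset.sum_add_distrib]
  have s1 : ∑ x : A, (if x = 1 then c else 0) = c := by simp only [_root_.Finset.sum_ite_eq', _root_.Finset.mem_univ, ↓ _root_.reduceIte]
  have s2 : ∑ x : A, (if p x then a else 0) = Nat.card {x : A // p x} * a := by
    rw [Finset.sum_ite, Finset.sum_const_zero, add_zero, Finset.sum_const, smul_eq_mul,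
      Nat.card_eq_fintype_card, Fintype.card_subtype]
  have s3 : ∑ x : A, (if x ≠ 1 ∧ ¬ p x then b else 0) =
      (Nat.card A - 1 - Nat.card {x : A // p x}) * b := by
    rw [Finset.sum_ite, Finset.sum_const_zero, add_zero, Finset.sum_const, smul_eq_mul]
    congr 1
    have k1 := Finset.card_filter_add_card_filter_not (s := (Finset.univ : Finset A)) (fun x : A => x ≠ 1 ∧ ¬ p x)
    have k2 : (Finset.univ.filter fun x : A => ¬ (x ≠ 1 ∧ ¬ p x)) =
        insert 1 (Finset.univ.filter fun x : A => p x) := by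
      ext x
      simp only [Finset.mem_filter, Finset.mem_univ, true_and, Finset.mem_insert]
      (clear * -; tauto)
    rw [k2, Finset.card_insert_of_notMem (by simp only [hp1, _root_.Finset.mem_filter, _root_.Finset.mem_univ, _root_.and_false, _root_.not_false_eq_true]), Finset.card_univ] at k1
    have k3 : Nat.card {x : A // p x} = (Finset.univ.filter fun x : A => p x).card := by
      rw [Nat.card_eq_fintype_card, Fintype.card_subtype]
    rw [k3, Nat.card_eq_fintype_card]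
    omega
  rw [s1, s2, s3]

/-- an element of order 5 commuting with `s` -/
theorem five_dvd_fx (M : Subgroup T) (h5 : ¬ 5 ∣ Nat.card M) {s v : T} (hv : orderOf v = 5) (hc : v * s = s * v) :
    5 ∣ fx M s := by
  haveI : Fact (Nat.Prime 5) := ⟨by norm_num⟩
  have hcz : ∀ w ∈ zpowers v, w * s = s * w := by
    intro w hw
    obtain ⟨k, rfl⟩ := mem_zpowers_iff.1 hw
    exact ((show Commute v s from hc).zpow_left k).eq
  let _ : MulAction (zpowers v) (MulAction.fixedBy (T ⧸ M) s) := {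
    smul := fun w x => ⟨(w : T) • x.1, by
      have h1 := x.2
      rw [MulAction.mem_fixedBy] at h1 ⊢
      rw [← mul_smul, ← hcz w w.2, mul_smul, h1]⟩
    one_smul := fun x => Subtype.ext (one_smul T _)
    mul_smul := fun a b x => Subtype.ext (mul_smul (a : T) (b : T) _) }
  have hp : IsPGroup 5 (zpowers v) := IsPGroup.of_card (n := 1) (by rw [Nat.card_zpowers, hv, pow_one])
  have h1 := hp.card_modEq_card_fixedPoints (MulAction.fixedBy (T ⧸ M) s)
  have h2 : IsEmpty (MulAction.fixedPoints (zpowers v) (MulAction.fixedBy (T ⧸ M) s)) := by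
    refine ⟨fun x => ?_⟩
    have h3 : v • (x.1.1 : T ⧸ M) = x.1.1 := congrArg Subtype.val (x.2 ⟨v, mem_zpowers v⟩)
    obtain ⟨g, hg⟩ := QuotientGroup.mk_surjective x.1.1
    rw [← hg] at h3
    have h4 : g⁻¹ * v * g ∈ M := by
      have h5 : ((v * g : T) : T ⧸ M) = (g : T ⧸ M) := h3
      have h6 := QuotientGroup.eq.1 h5.symm
      rwa [← mul_assoc] at h6
    have h5' := dvd_of_mem h4
    have h6 : orderOf (g⁻¹ * v * g) = orderOf v := by
      have := orderOf_injective (MulAut.conj g⁻¹).toMonoidHom (MulAut.conj g⁻¹).injective v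
      simpa only [_root_.map_inv, _root_.MulEquiv.toMonoidHom_eq_coe, _root_.MonoidHom.coe_coe, _root_.MulAut.inv_apply, _root_.MulAut.conj_symm_apply] using this
    rw [h6, hv] at h5'
    exact h5 h5'
  rw [Nat.card_eq_zero.2 (Or.inl h2)] at h1
  exact (Nat.modEq_zero_iff_dvd).1 h1

end idx

theorem burn2 (M : Subgroup T) (hM : M.index = 50) (A : Subgroup T) (hA : ∀ a ∈ A, a * a = 1) :
    Nat.card A ∣ 50 + Nat.card {x : A // IsConj z (x : T)} * fx M z +
      (Nat.card A - 1 - Nat.card {x : A // IsConj z (x : T)}) * fx M u := by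
  have hz1 : z ≠ 1 := CentU.z_ne D.F
  have h := burn M A
  have h2 := sum_two (A := A) (F := fun x => fx M (x : T)) (p := fun x => IsConj z (x : T)) (a := fx M z)
    (b := fx M u) (c := 50) (by
      show fx M ((1 : A) : T) = 50
      rw [coe_one, fx_one, hM]) (fun h => hz1 (isConj_one_left.1 h)) (fun x hx => fx_conj M hx)
    (fun x hx hn => fx_conj M (by
      have h2 : orderOf (x : T) = 2 := orderOf_eq_prime (by rw [pow_two, hA _ x.2])
        (fun h => hx (Subtype.ext h))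
      exact (D.F.cover _ h2).resolve_left hn))
  rwa [h2] at h

theorem index_ne_fifty [IsSimpleGroup T] (M : Subgroup T) : M.index ≠ 50 := by
  intro hM
  have hMt : M ≠ ⊤ := by
    rintro rfl
    rw [index_top] at hM
    norm_num at hM
  have hcM : Nat.card M = 12096 := by
    have h := M.card_mul_index
    rw [hM, card_T D] at h
    omega
  obtain ⟨v, hv5, hv⟩ := ThreeD.exists_w0 D.F
  have h5z : 5 ∣ fx M z := five_dvd_fx M (by rw [hcM]; norm_num) hv5 hv
  have hz1 : z ≠ 1 := CentU.z_ne D.F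
  have hu1 : u ≠ 1 := CentU.u_ne D.F
  have h11 : ∀ x : T, x = 1 → ¬ IsConj z x := by
    rintro x rfl h
    exact hz1 (isConj_one_left.1 h)
  -- the group `U`
  have hU := burn2 D M hM U (fun a ha => Cent5.sq_U D.F D.L ha)
  have cU : Nat.card {x : U // IsConj z (x : T)} = 3 := by
    have h1 : Nat.card {x : U // ¬ x = 1} = 3 := by
      classical
      have := Nat.card_congr (Equiv.sumCompl (fun y : U => y = 1))
      rw [Nat.card_sum, D.L.cardU] at this
      have h1 : Nat.card {y : U // y = 1} = 1 := by simp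
      omega
    rw [← h1]
    refine Nat.card_congr (Equiv.subtypeEquivRight fun x => ?_)
    constructor
    · intro h h2
      exact h11 _ (congrArg Subtype.val h2) h
    · intro h
      rcases (D.L.memU x).1 x.2 with h2 | h2
      · exact absurd (Subtype.ext h2) h
      · exact h2.1
  rw [cU, D.L.cardU] at hU
  -- the group `V`
  have hV := burn2 D M hM V (fun a ha => Cent5.sq_V D.F D.L ha)
  have cV : Nat.card {x : V // IsConj z (x : T)} = 0 := by
    rw [Nat.card_eq_zero]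
    left
    refine ⟨fun x => ?_⟩
    have h1 : ((x : V) : T) ≠ 1 := fun h => h11 _ h x.2
    have h2 := Cent5.isConj_of_mem_V D.F D.L x.1.2 h1
    exact D.F.nconj (x.2.trans h2.symm)
  rw [cV, D.L.cardV] at hV
  -- the group `E`
  have hE := burn2 D M hM (_root_.Cfsg.Agent.J2Type.CentU.E z u) (fun a ha => CentU.sq_E D.F ha)
  have cE : Nat.card {x : E z u // IsConj z (x : T)} = 3 := by
    rw [← D.F.card3]
    exact Nat.card_congr ⟨fun x => ⟨x.1.1, x.2, (CentU.mem_E.1 x.1.2).1, (CentU.mem_E.1 x.1.2).2⟩,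
      fun x => ⟨⟨x.1, CentU.mem_E.2 x.2.2⟩, x.2.1⟩, fun _ => rfl, fun _ => rfl⟩
  rw [cE, CentU.card_E D.F] at hE
  -- the element `z` moves a point
  obtain ⟨x, hx⟩ := H394.SqSporBase.exists_moved hMt hz1
  have hlt : fx M z < 50 := by
    have h1 : fx M z < Nat.card (T ⧸ M) := by
      have h2 : (MulAction.fixedBy (T ⧸ M) z).ncard < (Set.univ : Set (T ⧸ M)).ncard :=
        Set.ncard_lt_ncard (Set.ssubset_univ_iff.2 fun h => hx (by
          have h3 : x ∈ MulAction.fixedBy (T ⧸ M) z := by rw [h]; trivial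
          exact h3)) (Set.toFinite _)
      rw [Set.ncard_univ] at h2
      exact h2
    have h2 : Nat.card (T ⧸ M) = M.index := rfl
    rwa [h2, hM] at h1
  (clear * - h5z hV hE hlt; omega)

end Cfsg.Agent.H921.Cov.JA
end
end
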